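import Cfsg.Agent.Lib.Goldschmidt.General.Data

/-!
# Odd signalizers meet trivially in a local group (owner: helper96)

* `balanced_centralizer` : the same for the odd subgroups centralised by `A`
* `balanced` : odd subgroups `D b` centralised by `b` and normalised by `C(b)`, `b` in `E ≤ A`, meet
  trivially when `E` meets the fixer of every moved component, or that component is simple of rank type
-/

set_option autoImplicit false
set_option linter.unusedSectionVars false
set_option linter.style.haveILetI false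

namespace Cfsg.Agent.Goldschmidt.General

open Cfsg Subgroup Cfsg.Agent.Components
open scoped commutatorElement

universe u

variable {X : Type u} [Group X] [Finite X] {T : Set X} {A K : Subgroup X}

theorem centralizes_of_le (hK : Cfsg.IsComponent K) {b : X} {D : Subgroup X}
    (hD : Odd (Nat.card ↥D)) (hbD : centralizer ({b} : Set X) ≤ normalizer (D : Set X))
    (hKb : K ≤ centralizer ({b} : Set X)) : D ≤ centralizer (K : Set X) := by
  rw [le_centralizer_iff, ← commutator_eq_bot_iff_le_centralizer]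
  exact IsComponent.commutator_solvable hK (OddOrderTheorem.solvable hD) (hKb.trans hbD)

theorem le_centralizer_of_fixer {b : X} (hb : b ∈ fixer A K) : K ≤ centralizer ({b} : Set X) :=
  fun k hk => mem_centralizer_singleton_iff.2 (mem_centralizer_iff.1 hb.2 k hk)

/-- An element of two-power and of odd order is trivial. -/
theorem eq_one_of_odd {L : Type*} [Group L] [Finite L] {Q : Subgroup L} (hQ : IsPGroup 2 ↥Q) {x : L}
    (hx : x ∈ Q) (hodd : Odd (orderOf x)) : x = 1 := by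
  obtain ⟨k, hk⟩ := hQ ⟨x, hx⟩
  have hcop : Nat.Coprime (orderOf x) (2 ^ k) := Nat.Coprime.pow_right _ (Nat.coprime_two_right.2 hodd)
  exact orderOf_eq_one_iff.1 (Nat.eq_one_of_dvd_coprimes hcop dvd_rfl
    (orderOf_dvd_of_pow_eq_one (congrArg Subtype.val hk)))

/-- The rank case: an odd subgroup normalised by the Sylow subgroup of `K`, whose part in `K`
centralises an element of its centre, centralises `K`. -/
theorem Chart.le_centralizer_aux {q r : ℕ} {Qb : Sylow 2 (↥K ⧸ center ↥K)} {h : ↥K}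
    (c : Chart A K q Qb h) (hV : center ↥K = ⊥) (R : RankFacts (↥K ⧸ center ↥K) r)
    {z : ↥K ⧸ center ↥K} (hzQ : z ∈ centre (Qb : Subgroup (↥K ⧸ center ↥K))) (hz1 : z ≠ 1)
    {D : Subgroup X} (hD : Odd (Nat.card ↥D)) (hDK : D ≤ normalizer (K : Set X))
    (hQD : ∀ y : ↥K, cproj K y ∈ (Qb : Subgroup (↥K ⧸ center ↥K)) → (y : X) ∈ normalizer (D : Set X))
    (hDz : ∀ e : ↥K, (e : X) ∈ D → cproj K e * z = z * cproj K e) :
    D ≤ centralizer (K : Set X) := by
  haveI : Fact (Nat.Prime 2) := ⟨Nat.prime_two⟩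
  set π := cproj K with hπ
  set Qs := (Qb : Subgroup (↥K ⧸ center ↥K)) with hQs
  have hQ2 : IsPGroup 2 ↥((Qs.comap π).map K.subtype) :=
    ((Qb.isPGroup').comap_of_ker_isPGroup π (by
      rw [hπ, QuotientGroup.ker_mk']; exact c.two_center)).map _
  -- `D ∩ K` is trivial
  have hDK1 : ∀ e : ↥K, (e : X) ∈ D → e = 1 := by
    intro e he
    have hod : Odd (orderOf e) := by
      rw [← Subgroup.orderOf_coe]; exact hD.of_dvd_nat (Subgroup.orderOf_dvd_natCard D he)
    have heN : π e ∈ normalizer (Qs : Set (↥K ⧸ center ↥K)) := R.cent Qb z hzQ hz1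
      (mem_centralizer_singleton_iff.2 (hDz e he))
    have hcent : ∀ y : ↥K, π y ∈ Qs → e * y = y * e := by
      intro y hy
      have hyN := hQD y hy
      have h1 : (⁅e, y⁆ : ↥K) = 1 := by
        refine Subtype.ext (Coprime.eq_one_of_mem_of_mem
          (Coprime.coprime_of_isPGroup (Nat.coprime_two_right.2 hD) hQ2) ?_ ?_)
        · show (e : X) * y * (e : X)⁻¹ * (y : X)⁻¹ ∈ D
          rw [show (e : X) * y * (e : X)⁻¹ * (y : X)⁻¹
            = (e : X) * ((y : X) * (e : X)⁻¹ * (y : X)⁻¹) by group]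
          exact D.mul_mem he ((mem_normalizer_iff.1 hyN _).1 (D.inv_mem he))
        · refine ⟨⁅e, y⁆, ?_, rfl⟩
          show π ⁅e, y⁆ ∈ Qs
          rw [commutatorElement_def, map_mul, map_mul, map_mul, map_inv, map_inv]
          exact mul_mem ((mem_normalizer_iff.1 heN _).1 hy) (inv_mem hy)
      exact commutatorElement_eq_one_iff_mul_comm.1 h1
    have hfix : ∀ x ∈ Qs, MulAut.conj (π e) x = x := by
      intro x hx
      obtain ⟨y, rfl⟩ := cproj_surjective K x
      rw [MulAut.conj_apply, ← hπ, ← map_inv, ← map_mul, ← map_mul, hcent y hx, mul_inv_cancel_right]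
    obtain ⟨s, hs, hαs⟩ := R.autInner Qb (MulAut.conj (π e))
      (fun z hz => hfix z hz.1)
      (fun x hx => by rw [hfix x hx, inv_mul_cancel]; exact one_mem _)
    have h2 : π e = 1 := eq_one_of_odd Qb.isPGroup' (conj_injective R.center hαs ▸ hs)
      (hod.of_dvd_nat (orderOf_map_dvd π e))
    have h3 := cproj_eq_one.1 h2
    rwa [hV, mem_bot] at h3
  intro d hd
  set α := ThreePrime.quotAut (hDK hd) with hα
  have hfixd : ∀ x ∈ Qs, α x = x := by
    intro x hx
    obtain ⟨y, rfl⟩ := cproj_surjective K x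
    rw [hα, cproj, ThreePrime.quotAut_mk]
    refine congrArg _ ?_
    set e : ↥K := ⟨d * y * d⁻¹, (mem_normalizer_iff.1 (hDK hd) y).1 y.2⟩ with he
    refine mul_inv_eq_one.1 (hDK1 (e * y⁻¹) ?_)
    show d * y * d⁻¹ * (y : X)⁻¹ ∈ D
    rw [show d * y * d⁻¹ * (y : X)⁻¹ = d * ((y : X) * d⁻¹ * (y : X)⁻¹) by group]
    exact D.mul_mem hd ((mem_normalizer_iff.1 (hQD y hx) _).1 (D.inv_mem hd))
  obtain ⟨s, hs, hαs⟩ := R.autInner Qb α (fun z hz => hfixd z hz.1)
    (fun x hx => by rw [hfixd x hx, inv_mul_cancel]; exact one_mem _)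
  have hαodd : Odd (orderOf α) :=
    (hD.of_dvd_nat (Subgroup.orderOf_dvd_natCard D hd)).of_dvd_nat
      (orderOf_dvd_of_pow_eq_one (ThreePrime.quotAut_pow_eq_one _ (pow_orderOf_eq_one d)))
  have hs1 : s = 1 := eq_one_of_odd Qb.isPGroup' hs (by
    rw [← orderOf_injective (MulAut.conj : ↥K ⧸ center ↥K →* MulAut (↥K ⧸ center ↥K))
      (conj_injective R.center) s, ← hαs]
    exact hαodd)
  exact ThreePrime.centralizes_of_quotAut c.comp (hDK hd) (by rw [← hα, hαs, hs1, map_one])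

/-- In a simple component the Sylow subgroup of a chart centralises `A`. -/
theorem Chart.commute_A {q : ℕ} {Qb : Sylow 2 (↥K ⧸ center ↥K)} {h : ↥K}
    (c : Chart A K q Qb h) (hV : center ↥K = ⊥) (y : ↥K)
    (hy : cproj K y ∈ (Qb : Subgroup (↥K ⧸ center ↥K))) : (y : X) ∈ centralizer (A : Set X) := by
  refine mem_centralizer_iff.2 fun a ha => ?_
  obtain ⟨b, hb, hf⟩ := c.act a ha
  have h1 : (⁅y, ⟨b, hb.2⟩⁆ : ↥K) = 1 := by
    rw [← mem_bot, ← hV]
    exact (c.comm_mem hy hb.1).1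
  have h2 : (y : X) * b = b * y :=
    congrArg Subtype.val (commutatorElement_eq_one_iff_mul_comm.1 h1)
  have h3 := mem_centralizer_iff.1 hf.2 y y.2
  calc a * y = b * ((b⁻¹ * a) * y) := by group
    _ = b * y * (b⁻¹ * a) := by rw [← h3]; group
    _ = y * a := by rw [← h2]; group

/-- The rank case for the signalizer of one member. -/
theorem Chart.le_centralizer_of_rank {q r : ℕ} {Qb : Sylow 2 (↥K ⧸ center ↥K)} {h : ↥K}
    (L : Local X T A) (c : Chart A K q Qb h) (hV : center ↥K = ⊥)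
    (R : RankFacts (↥K ⧸ center ↥K) r) {b : X} (hb : b ∈ A) (hbf : b ∉ fixer A K) {D : Subgroup X}
    (hD : Odd (Nat.card ↥D)) (hDb : D ≤ centralizer ({b} : Set X))
    (hbD : centralizer ({b} : Set X) ≤ normalizer (D : Set X)) :
    D ≤ centralizer (K : Set X) := by
  obtain ⟨b₁, hb₁, hf⟩ := c.act b hb
  refine c.le_centralizer_aux hV R (c.mem_centre ⟨b₁, hb₁.2⟩ hb₁.1) (fun e => hbf ?_) hD
    (core_fixes_component L.elem L.core (L.mem_T hb) hD hDb hbD c.comp)
    (fun y hy => hbD (mem_centralizer_singleton_iff.2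
      (mem_centralizer_iff.1 (c.commute_A hV y hy) b hb).symm)) fun e he => ?_
  · have h1 := mem_fixer_of_center (A := A) (K := K) (k := ⟨b₁, hb₁.2⟩) hb₁.1 (cproj_eq_one.1 e)
    rw [show b = b₁ * (b₁⁻¹ * b) by group]
    exact (fixer A K).mul_mem h1 hf
  rw [← map_mul, ← map_mul]
  refine congrArg _ (Subtype.ext ?_)
  show (e : X) * b₁ = b₁ * e
  have h1 := mem_centralizer_singleton_iff.1 (hDb he)
  have h2 : (e : X) * (b₁⁻¹ * b) = (b₁⁻¹ * b) * e := mem_centralizer_iff.1 hf.2 e e.2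
  refine mul_right_cancel (b := b₁⁻¹ * b) ?_
  calc (e : X) * b₁ * (b₁⁻¹ * b) = (e : X) * b := by group
    _ = b * e := h1
    _ = b₁ * ((b₁⁻¹ * b) * e) := by group
    _ = b₁ * e * (b₁⁻¹ * b) := by rw [← h2]; group

/-- Odd subgroups centralised by `A` and normalised by its centraliser. -/
theorem balanced_centralizer (L : Local X T A)
    (hshape : ∀ K : Subgroup X, Moved A K →
      Subgroup.center ↥K = ⊥ ∧ ∃ q : ℕ, RankFacts (↥K ⧸ Subgroup.center ↥K) q) :
    ∀ D : Subgroup X, Odd (Nat.card ↥D) → D ≤ centralizer (A : Set X) →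
      centralizer (A : Set X) ≤ normalizer (D : Set X) → D = ⊥ := by
  intro D hD hDA hAD
  haveI : Fact (Nat.Prime 2) := ⟨Nat.prime_two⟩
  have hsolv := OddOrderTheorem.solvable hD
  have hO2 : D ≤ centralizer (pCore 2 X : Set X) := by
    haveI hn : (pCore 2 X).Normal := Cores.pCore_normal 2 X
    have hnorm : ∀ H : Subgroup X, H ≤ normalizer (pCore 2 X : Set X) := fun H => by
      rw [normalizer_eq_top]; exact le_top
    refine Coprime.thompson_pq 2 L.two (Nat.coprime_two_right.2 hD)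
      (Cores.isPGroup_pCore 2 X) ?_ (hnorm _) (hnorm _) ?_
    · exact le_centralizer_iff.1 hDA
    · rintro u ⟨hu, huc⟩
      refine mem_centralizer_iff.2 fun d hd => ?_
      have hua : u ∈ normalizer (D : Set X) := hAD huc
      set c := d * u * d⁻¹ * u⁻¹
      have h1 : c ∈ D := by
        have := D.mul_mem hd ((mem_normalizer_iff.1 hua _).1 (D.inv_mem hd))
        simpa [c, mul_assoc] using this
      have h2 : c ∈ pCore 2 X := (pCore 2 X).mul_mem (hn.conj_mem u hu d) ((pCore 2 X).inv_mem hu)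
      have h3 : c = 1 := Coprime.eq_one_of_mem_of_mem
        (Coprime.coprime_of_isPGroup (Nat.coprime_two_right.2 hD) (Cores.isPGroup_pCore 2 X)) h1 h2
      exact mul_inv_eq_iff_eq_mul.1 (mul_inv_eq_one.1 h3)
  refine ThreePrime.eq_bot_of_centralizes L.core hD hO2 fun K hK => ?_
  by_cases hm : K ≤ centralizer (A : Set X)
  · rw [le_centralizer_iff, ← commutator_eq_bot_iff_le_centralizer]
    exact IsComponent.commutator_solvable hK hsolv (hm.trans hAD)
  obtain ⟨hV, r, R⟩ := hshape K ⟨hK, hm⟩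
  obtain ⟨b, hbA, hbK, hbZ⟩ := exists_mem_inter L hK (exists_member L ⟨hK, hm⟩)
  obtain ⟨q, Qb, h, c⟩ := exists_chart L ⟨hK, hm⟩
  have hDb : ∀ d ∈ D, d * b = b * d := fun d hd => (mem_centralizer_iff.1 (hDA hd) b hbA).symm
  have hDK : D ≤ normalizer (K : Set X) := by
    intro x hx
    by_contra hxn
    have hL : Cfsg.IsComponent (K.map (MulAut.conj x).toMonoidHom) := IsComponent.conj hK x
    have hne' : K ≠ K.map (MulAut.conj x).toMonoidHom := fun e =>
      hxn (mem_normalizer_iff.2 fun k => ⟨fun hk => by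
        rw [e]; exact ⟨k, hk, rfl⟩, fun hk => by
        rw [e] at hk
        obtain ⟨y, hy, hye⟩ := hk
        exact (show y = k from mul_left_cancel (mul_right_cancel hye)) ▸ hy⟩)
    have hbL : b ∈ K.map (MulAut.conj x).toMonoidHom :=
      ⟨b, hbK, by simp [hDb x hx]⟩
    exact hbZ (mem_centerOf.2 ⟨hbK, fun k hk => commutatorElement_eq_one_iff_mul_comm.1
      (mem_bot.1 (IsComponent.commutator_eq_bot hK hL hne' ▸ commutator_mem_commutator hk hbL))⟩)
  refine c.le_centralizer_aux hV R (c.mem_centre ⟨b, hbK⟩ hbA)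
    (fun e => hbZ ⟨⟨b, hbK⟩, cproj_eq_one.1 e, rfl⟩) hD hDK
    (fun y hy => hAD (c.commute_A hV y hy)) fun e he => ?_
  rw [← map_mul, ← map_mul]
  exact congrArg _ (Subtype.ext (hDb e he))

/-- Odd signalizers meet trivially. -/
theorem balanced (L : Local X T A) :
    ∀ E : Subgroup X, E ≤ A → E ≠ ⊥ → ∀ D : X → Subgroup X,
    (∀ b ∈ E, b ≠ 1 → Odd (Nat.card ↥(D b)) ∧ D b ≤ centralizer ({b} : Set X) ∧
      centralizer ({b} : Set X) ≤ normalizer (D b : Set X)) →
    (∀ K : Subgroup X, Moved A K → E ⊓ fixer A K ≠ ⊥ ∨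
      (Subgroup.center ↥K = ⊥ ∧ ∃ q : ℕ, RankFacts (↥K ⧸ Subgroup.center ↥K) q)) →
    ∀ x : X, (∀ b ∈ E, b ≠ 1 → x ∈ D b) → x = 1 := by
  intro E hEA hE D hD hshape x hx
  haveI : Fact (Nat.Prime 2) := ⟨Nat.prime_two⟩
  obtain ⟨⟨b₀, hb₀⟩, hb₀'⟩ := ne_bot_iff_exists_ne_one.1 hE
  have hb₀1 : b₀ ≠ 1 := fun e => hb₀' (Subtype.ext e)
  obtain ⟨ho, hDb, hbD⟩ := hD b₀ hb₀ hb₀1
  have hxo : Odd (Nat.card ↥(zpowers x)) := by
    rw [Nat.card_zpowers]; exact ho.of_dvd_nat (Subgroup.orderOf_dvd_natCard _ (hx b₀ hb₀ hb₀1))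
  refine mem_bot.1 ((ThreePrime.eq_bot_of_centralizes L.core hxo ?_ fun K hK => ?_).le (mem_zpowers x))
  · exact zpowers_le.2
      (core_centralizes_pCore L.elem (L.mem_T (hEA hb₀)) ho hDb hbD (hx b₀ hb₀ hb₀1))
  suffices hgoal : ∃ b ∈ E, b ≠ 1 ∧ D b ≤ centralizer (K : Set X) by
    obtain ⟨b, hb, hb1, hle⟩ := hgoal
    exact zpowers_le.2 (hle (hx b hb hb1))
  by_cases hm : K ≤ centralizer (A : Set X)
  · exact ⟨b₀, hb₀, hb₀1, centralizes_of_le hK ho hbD fun k hk =>
      mem_centralizer_singleton_iff.2 (mem_centralizer_iff.1 (hm hk) b₀ (hEA hb₀)).symm⟩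
  rcases hshape K ⟨hK, hm⟩ with hne | ⟨hV, r, R⟩
  · obtain ⟨⟨b, hb⟩, hb'⟩ := ne_bot_iff_exists_ne_one.1 hne
    have hb1 : b ≠ 1 := fun e => hb' (Subtype.ext e)
    obtain ⟨hbo, -, hbD'⟩ := hD b hb.1 hb1
    exact ⟨b, hb.1, hb1, centralizes_of_le hK hbo hbD' (le_centralizer_of_fixer hb.2)⟩
  by_cases hf : b₀ ∈ fixer A K
  · exact ⟨b₀, hb₀, hb₀1, centralizes_of_le hK ho hbD (le_centralizer_of_fixer hf)⟩
  obtain ⟨q, Qb, h, c⟩ := exists_chart L ⟨hK, hm⟩
  exact ⟨b₀, hb₀, hb₀1, c.le_centralizer_of_rank L hV R (hEA hb₀) hf ho hDb hbD⟩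

end Cfsg.Agent.Goldschmidt.General
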