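import Cfsg.Agent.Lib.Goldschmidt.General.Targets
import Cfsg.Agent.Lib.Goldschmidt.General.Balanced
import Cfsg.Agent.Lib.Goldschmidt.ThreePrime.Inner

/-!
# Local groups (owner: helper96)

* `le_genFitting` : `A ≤ O₂(X) E(X)`
* `decomp` : a local group is generated by `N(A)` and the moved components
* `localTarget` : `LocalTarget`
-/

set_option autoImplicit false
set_option linter.unusedSectionVars false
set_option linter.style.haveILetI false

namespace Cfsg.Agent.Goldschmidt.General

open Cfsg Subgroup Cfsg.Agent.Components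
open scoped commutatorElement

universe u

variable {X : Type u} [Group X] [Finite X] {T : Set X} {A : Subgroup X}

/-- Members lie in `F*`. -/
theorem le_genFitting (L : Local X T A) :
    A ≤ pCore 2 X ⊔ Cfsg.layer X := by
  classical
  have hT := L.elem
  intro a ha
  have key : ∀ s : Finset (Subgroup X), (∀ K ∈ s, Cfsg.IsComponent K) →
      ∃ e ∈ Cfsg.layer X, e * a ∈ A ∧ ∀ K ∈ s, e * a ∈ centralizer (K : Set X) := by
    intro s
    induction s using Finset.induction_on with
    | empty => exact fun _ => ⟨1, one_mem _, by rwa [one_mul], fun K hK => absurd hK (Finset.notMem_empty K)⟩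
    | insert K s hKs ih =>
      intro hs
      obtain ⟨e, he, heA, hec⟩ := ih fun J hJ => hs J (Finset.mem_insert_of_mem hJ)
      have hK := hs K (Finset.mem_insert_self K s)
      by_cases hM : K ≤ centralizer (A : Set X)
      · refine ⟨e, he, heA, fun J hJ => ?_⟩
        rcases Finset.mem_insert.1 hJ with rfl | hJ
        · exact mem_centralizer_iff.2 fun k hk => (mem_centralizer_iff.1 (hM hk) _ heA).symm
        · exact hec J hJ
      obtain ⟨q, hC⟩ := compData L ⟨hK, hM⟩
      have hnorm : fixer A K ≤ normalizer ((A ⊓ K : Subgroup X) : Set X) := fun f hf =>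
        centralizer_le_normalizer _ (mem_centralizer_iff.2 fun y hy =>
          (hT.commute L.two hy.1 hf.1 (L.subset hy.1) (L.subset hf.1)).eq)
      obtain ⟨b, hb, f, hf, hbf⟩ := (Coprime.mem_sup_iff hnorm).1 (hC.sup.ge heA)
      refine ⟨b⁻¹ * e, mul_mem (inv_mem (IsComponent.le_layer hK hb.2)) he, ?_, fun J hJ => ?_⟩
      · rw [mul_assoc]; exact A.mul_mem (A.inv_mem hb.1) heA
      have hf' : b⁻¹ * e * a = f := by rw [mul_assoc, ← hbf, inv_mul_cancel_left]
      rw [hf']
      rcases Finset.mem_insert.1 hJ with rfl | hJ'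
      · exact hf.2
      · have hne : K ≠ J := fun h => hKs (h ▸ hJ')
        have hbJ : b ∈ centralizer (J : Set X) := by
          refine mem_centralizer_iff.2 fun j hj => ?_
          exact (commutatorElement_eq_one_iff_commute.1 (mem_bot.1
            (IsComponent.commutator_eq_bot hK (hs J hJ) hne ▸ commutator_mem_commutator hb.2 hj))).eq.symm
        rw [← hf', mul_assoc]
        exact mul_mem (inv_mem hbJ) (hec J hJ')
  obtain ⟨e, he, heA, hec⟩ := key (Set.toFinite {K : Subgroup X | Cfsg.IsComponent K}).toFinset
    fun K hK => by simpa using hK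
  have hlay : e * a ∈ centralizer (Cfsg.layer X : Set X) := by
    have h1 : Cfsg.layer X ≤ centralizer (zpowers (e * a) : Set X) :=
      layer_le fun K hK => le_centralizer_iff.1 (zpowers_le.2 (hec K (by simpa using hK)))
    exact le_centralizer_iff.1 h1 (mem_zpowers _)
  rw [show a = e⁻¹ * (e * a) by group]
  exact mul_mem (mem_sup_right (inv_mem he))
    (mem_sup_left (ThreePrime.mem_pCore_of_centralizes_layer L.core hT (L.subset heA) hlay))

/-- A local group is generated by the normaliser of `A` and the moved components. -/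
theorem decomp (L : Local X T A) :
    ∀ M : Subgroup X, normalizer (A : Set X) ≤ M → (∀ K : Subgroup X, Moved A K → K ≤ M) → M = ⊤ := by
  intro M hN hK
  haveI : Fact (Nat.Prime 2) := ⟨Nat.prime_two⟩
  have hT := L.elem
  haveI hQn : (pCore 2 X).Normal := Cores.pCore_normal 2 X
  haveI hEn : (Cfsg.layer X).Normal := layer_normal
  set F := pCore 2 X ⊔ Cfsg.layer X with hF
  haveI : F.Normal := inferInstanceAs (pCore 2 X ⊔ Cfsg.layer X).Normal
  have hconj : ∀ P : Subgroup X, IsPGroup 2 ↥P → A ≤ P → ∀ g ∈ normalizer (P : Set X),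
      g ∈ normalizer (A : Set X) := by
    intro P hP hAP g hg
    refine Coprime.mem_normalizer_of_forall fun a ha => ?_
    exact L.max P hP hAP _ ((mem_normalizer_iff.1 hg a).1 (hAP ha)) (hT.closed.conj g a (L.subset ha))
  have hQM : pCore 2 X ≤ M := fun y hy => hN (hconj (A ⊔ pCore 2 X)
    (IsPGroup.to_sup_of_normal_right L.two (Cores.isPGroup_pCore 2 X)) le_sup_left y
    (le_normalizer (mem_sup_right hy)))
  have hEM : Cfsg.layer X ≤ M := layer_le fun K hKc => by
    by_cases hm : K ≤ centralizer (A : Set X)
    · exact hm.trans ((centralizer_le_normalizer _).trans hN)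
    · exact hK K ⟨hKc, hm⟩
  obtain ⟨P, hP⟩ := (L.two.comap_of_injective F.subtype F.subtype_injective).exists_le_sylow
  have hAP : A ≤ (P : Subgroup F).map F.subtype := fun a ha =>
    ⟨⟨a, le_genFitting L ha⟩, hP ha, rfl⟩
  rw [eq_top_iff, ← Sylow.normalizer_sup_eq_top P]
  exact sup_le (fun g hg => hN (hconj _ (P.isPGroup'.map _) hAP g hg)) (sup_le hQM hEM)

/-- **The conclusions for local groups.** -/
theorem localTarget : LocalTarget.{u} := fun X _ _ T A L =>
  ⟨fun K hK => compData L hK, fun K hK g => moved_conj L hK g, decomp L, balanced L, balanced_centralizer L⟩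

end Cfsg.Agent.Goldschmidt.General
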