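import Cfsg.Agent.Lib.Goldschmidt.General.Defs
import Cfsg.Agent.Lib.SmallOrders.Basic
import Cfsg.Agent.Lib.Coprime.Basic
import Cfsg.Agent.S2791
import Mathlib.GroupTheory.Focal

/-!
# Basic properties of the configuration `Ctx` (owner: helper29)

* `SecShape.of_surjective`, `SecShape.of_injective`, `SecShape.subgroup`, `SecShape.quotient`
* `Ctx.mem_of_mem`, `Ctx.core_eq_bot`, `Ctx.centralizer_ne_top`, `Ctx.ker_conjNormal`
* `Ctx.agree` : `N(A)` controls fusion in `S`
* `Ctx.no_index_two`, `Ctx.no_index_two_range` : no subgroup of index two in `N(A)` or in its automiser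
* `Ctx.localQuot`, `Ctx.localBar`, `Ctx.localSub`, `Ctx.normalizer_lift`
* `Ctx.bar_le`, `Ctx.mem_pull`, `Ctx.card_bar`
* `Ctx.se_of_le` : a proper subgroup containing all centralisers gives a strongly embedded one
-/

set_option autoImplicit false
set_option linter.unusedSectionVars false
set_option linter.style.haveILetI false

namespace Cfsg.Agent.Goldschmidt.General

open Cfsg Subgroup
open scoped commutatorElement

universe u

theorem SecShape.of_surjective {X Y : Type u} [Group X] [Group Y] (h : SecShape X) (f : X →* Y)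
    (hf : Function.Surjective f) : SecShape Y := by
  intro L _ _ H g hg hs hna hT
  exact h L (H.comap f) (g.comp (f.subgroupComap H))
    (hg.comp (f.subgroupComap_surjective_of_surjective H hf)) hs hna hT

theorem SecShape.of_injective {X Y : Type u} [Group X] [Group Y] (h : SecShape X) (f : Y →* X)
    (hf : Function.Injective f) : SecShape Y := by
  intro L _ _ H g hg hs hna hT
  exact h L (H.map f) (g.comp (H.equivMapOfInjective f hf).symm.toMonoidHom)
    (hg.comp (H.equivMapOfInjective f hf).symm.surjective) hs hna hT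

theorem SecShape.subgroup {X : Type u} [Group X] (h : SecShape X) (H : Subgroup X) : SecShape ↥H :=
  h.of_injective H.subtype H.subtype_injective

theorem SecShape.quotient {X : Type u} [Group X] (h : SecShape X) (N : Subgroup X) [N.Normal] :
    SecShape (X ⧸ N) :=
  h.of_surjective (QuotientGroup.mk' N) (QuotientGroup.mk'_surjective N)

namespace Ctx

variable {G : Type u} [Group G] [Finite G] {S : Sylow 2 G} {A : Subgroup G} (C : Ctx G S A)
include C

theorem sq {a : G} (ha : a ∈ A) : a * a = 1 := by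
  have := C.elemAb.2 a ha
  rwa [pow_two] at this

theorem comm {a b : G} (ha : a ∈ A) (hb : b ∈ A) : a * b = b * a :=
  congrArg Subtype.val (C.elemAb.1.is_comm.comm ⟨a, ha⟩ ⟨b, hb⟩)

theorem two : IsPGroup 2 ↥A := fun a => ⟨1, Subtype.ext (by simpa [pow_two] using C.sq a.2)⟩

theorem le_centralizer_of_mem {a : G} (ha : a ∈ A) : A ≤ centralizer ({a} : Set G) :=
  fun _ hb => mem_centralizer_singleton_iff.2 (C.comm hb ha)

theorem elemT : Goldschmidt.Elem (classSet A) :=
  elem_classSet S C.closed fun _ ha => C.sq ha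

theorem subset : (A : Set G) ⊆ classSet A := fun _ ha => mem_classSet_of_mem ha

/-- The members in a 2-group containing `A` lie in `A`. -/
theorem mem_of_mem {P : Subgroup G} (hP : IsPGroup 2 ↥P) (hAP : A ≤ P) {x : G} (hx : x ∈ P)
    (hxT : x ∈ classSet A) : x ∈ A := by
  haveI : Fact (Nat.Prime 2) := ⟨Nat.prime_two⟩
  obtain ⟨Q, hQ⟩ := hP.exists_le_sylow
  obtain ⟨g, hg⟩ := MulAction.exists_smul_eq G Q S
  have hm : ∀ z ∈ P, g * z * g⁻¹ ∈ (S : Subgroup G) := fun z hz => by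
    rw [← hg, Sylow.coe_subgroup_smul, Coprime.mem_conj]
    simpa [mul_assoc] using hQ hz
  have hgA : ∀ z ∈ P, z ∈ classSet A → g * z * g⁻¹ ∈ A := fun z hz hzT =>
    (mem_classSet_iff C.closed (hm z hz)).1 (C.elemT.closed.conj g z hzT)
  let φ : A → A := fun a => ⟨g * a * g⁻¹, hgA a (hAP a.2) (C.subset a.2)⟩
  have hφ : Function.Injective φ := fun a b h => Subtype.ext
    (mul_left_cancel (mul_right_cancel (congrArg Subtype.val h)))
  obtain ⟨a, ha⟩ := (Finite.injective_iff_surjective.1 hφ) ⟨g * x * g⁻¹, hgA x hx hxT⟩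
  have : (a : G) = x := mul_left_cancel (mul_right_cancel (congrArg Subtype.val ha))
  exact this ▸ a.2

theorem sylow_le_normalizer : (S : Subgroup G) ≤ normalizer (A : Set G) := by
  intro s hs
  refine mem_normalizer_iff.2 fun x => ⟨fun hx => C.closed.2 x hx s ?_, fun hx => ?_⟩
  · exact mul_mem (mul_mem hs (C.le hx)) (inv_mem hs)
  · have := C.closed.2 _ hx s⁻¹ (mul_mem (mul_mem (inv_mem hs) (C.le hx)) (by simpa using hs))
    simpa [mul_assoc] using this

theorem center_eq_bot : Subgroup.center G = ⊥ := by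
  haveI := C.simple
  exact SmallOrders.center_eq_bot fun h => C.nonab.elim fun a ⟨b, hab⟩ => hab (h.is_comm.comm a b)

theorem centralizer_ne_top {a : G} (ha : a ≠ 1) : centralizer ({a} : Set G) ≠ ⊤ := fun e => ha (by
  rw [← mem_bot (G := G), ← C.center_eq_bot]
  exact mem_center_iff.2 fun g => mem_centralizer_singleton_iff.1 (e ▸ mem_top g))

theorem normalizer_ne_top : normalizer (A : Set G) ≠ ⊤ := by
  intro e
  haveI := C.simple
  rcases (normalizer_eq_top_iff.1 e).eq_bot_or_eq_top with h | h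
  · exact C.ne h
  · obtain ⟨a, b, hab⟩ := C.nonab
    exact hab (C.comm (h ▸ mem_top a) (h ▸ mem_top b))

theorem core_eq_bot : pPrimeCore 2 G = ⊥ := by
  haveI : Fact (Nat.Prime 2) := ⟨Nat.prime_two⟩
  haveI := C.simple
  refine (Cores.pPrimeCore_normal 2 G).eq_bot_or_eq_top.resolve_right fun h => C.ne ?_
  rw [eq_bot_iff]
  intro a ha
  refine mem_bot.2 (Coprime.eq_one_of_mem_of_mem (Coprime.coprime_of_isPGroup (p := 2) ?_ C.two)
    (show a ∈ (⊤ : Subgroup G) from mem_top a) ha)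
  rw [← h]
  exact Cores.coprime_card_pPrimeCore 2

/-- The kernel of the action. -/
theorem ker_conjNormal :
    (MulAut.conjNormal (H := A.subgroupOf (normalizer (A : Set G)))).ker =
      (centralizer (A : Set G)).subgroupOf (normalizer (A : Set G)) := by
  ext n
  rw [MonoidHom.mem_ker, mem_subgroupOf, mem_centralizer_iff]
  constructor
  · intro h a ha
    have h1 := congrArg Subtype.val (congrArg Subtype.val (DFunLike.congr_fun h
      (⟨⟨a, le_normalizer ha⟩, mem_subgroupOf.2 ha⟩ : ↥(A.subgroupOf (normalizer (A : Set G))))))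
    rw [MulAut.conjNormal_apply] at h1
    exact (mul_inv_eq_iff_eq_mul.1 h1).symm
  · intro h
    refine MulEquiv.ext fun v => Subtype.ext (Subtype.ext ?_)
    rw [MulAut.conjNormal_apply]
    show (n : G) * ((v : ↥(normalizer (A : Set G))) : G) * (n : G)⁻¹ = _
    rw [← h _ (mem_subgroupOf.1 v.2), mul_inv_cancel_right]
    rfl


/-- `N(A)` controls fusion in `S`. -/
theorem agree {x g : G} (hx : x ∈ (S : Subgroup G)) (hg : g * x * g⁻¹ ∈ (S : Subgroup G)) :
    ∃ n ∈ normalizer (A : Set G), g * x * g⁻¹ = n * x * n⁻¹ := by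
  haveI : Fact (Nat.Prime 2) := ⟨Nat.prime_two⟩
  obtain ⟨n, hn, he⟩ := S2791.exists_agree S C.elemAb.1 C.closed (Nat.card (S : Subgroup G))
    (zpowers x) (Nat.le_add_right _ _) (zpowers_le.2 hx) g (by
      rintro _ ⟨y, hy, rfl⟩
      obtain ⟨k, rfl⟩ := mem_zpowers_iff.1 hy
      show MulAut.conj g (x ^ k) ∈ _
      rw [map_zpow]
      exact zpow_mem hg k)
  exact ⟨n, hn, he x (mem_zpowers x)⟩

/-- `N(A)` has no subgroup of index two. -/
theorem no_index_two (M : Subgroup ↥(normalizer (A : Set G))) (hM : M.index = 2) : False := by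
  haveI : Fact (Nat.Prime 2) := ⟨Nat.prime_two⟩
  haveI := C.simple
  haveI hMn : M.Normal := normal_of_index_eq_two hM
  have hcomm : commutator G = ⊤ := (inferInstance : (commutator G).Normal).eq_bot_or_eq_top.resolve_left fun e =>
    C.nonab.elim fun a ⟨b, hab⟩ => hab (commutatorElement_eq_one_iff_mul_comm.1
      (mem_bot.1 (e ▸ commutator_mem_commutator (mem_top a) (mem_top b))))
  have hfoc : (S : Subgroup G).focalSubgroup = (S : Subgroup G) := by
    rw [← Subgroup.commutator_inf_eq_focalSubgroup, hcomm, top_inf_eq]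
  have hle : (S : Subgroup G).subgroupOf (normalizer (A : Set G)) ≤ M := by
    suffices (S : Subgroup G) ≤ M.map (normalizer (A : Set G)).subtype from fun s hs => by
      obtain ⟨m, hm, hme⟩ := this hs
      exact (Subtype.ext hme : m = s) ▸ hm
    rw [← hfoc, focalSubgroup_def, closure_le]
    rintro _ ⟨hz, x, hx, v, rfl⟩
    have hconj : v * x * v⁻¹ ∈ (S : Subgroup G) := by
      have h1 : ⁅x, v⁆⁻¹ * x ∈ (S : Subgroup G) := mul_mem (inv_mem hz) hx
      rwa [show ⁅x, v⁆⁻¹ * x = v * x * v⁻¹ by rw [commutatorElement_def]; group] at h1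
    obtain ⟨n, hn, he⟩ := C.agree hx hconj
    refine ⟨⁅(⟨x, C.sylow_le_normalizer hx⟩ : ↥(normalizer (A : Set G))), ⟨n, hn⟩⁆, ?_, ?_⟩
    · haveI : IsCyclic (↥(normalizer (A : Set G)) ⧸ M) := isCyclic_of_prime_card (p := 2) hM
      rw [SetLike.mem_coe, ← QuotientGroup.eq_one_iff, ← QuotientGroup.mk'_apply, map_commutatorElement,
        commutatorElement_eq_one_iff_mul_comm]
      exact IsCyclic.commutative.is_comm.comm _ _
    · show ((⁅(⟨x, C.sylow_le_normalizer hx⟩ : ↥(normalizer (A : Set G))), ⟨n, hn⟩⁆ :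
        ↥(normalizer (A : Set G))) : G) = ⁅x, v⁆
      have h2 : v * x⁻¹ * v⁻¹ = n * x⁻¹ * n⁻¹ := by
        have := congrArg (·⁻¹) he
        simpa [mul_assoc] using this
      show x * n * x⁻¹ * n⁻¹ = x * v * x⁻¹ * v⁻¹
      rw [show x * n * x⁻¹ * n⁻¹ = x * (n * x⁻¹ * n⁻¹) by group, ← h2]
      group
  have hdvd := Subgroup.index_dvd_of_le hle
  rw [hM] at hdvd
  exact (S.subtype C.sylow_le_normalizer).not_dvd_index hdvd

/-- The automiser has no subgroup of index two. -/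
theorem no_index_two_range : ¬ ∃ H : Subgroup
    ↥(MulAut.conjNormal (H := A.subgroupOf (normalizer (A : Set G)))).range, H.Normal ∧ H.index = 2 :=
  fun ⟨H, _, hH⟩ => C.no_index_two (H.comap (MonoidHom.rangeRestrict _))
    (by rw [index_comap_of_surjective H (MonoidHom.rangeRestrict_surjective _)]; exact hH)

/-- `A` meets the core trivially. -/
theorem eq_one_of_proj {a x : G} (ha : a ∈ A) (hx : x ∈ A)
    (h : proj a ⟨x, C.le_centralizer_of_mem ha hx⟩ = 1) : x = 1 := by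
  haveI : Fact (Nat.Prime 2) := ⟨Nat.prime_two⟩
  have h1 := Coprime.eq_one_of_mem_of_mem (Coprime.coprime_of_isPGroup
    (Cores.coprime_card_pPrimeCore 2) (C.two.comap_of_injective _ (subtype_injective _)))
    ((QuotientGroup.eq_one_iff _).1 h) (mem_subgroupOf.2 hx : (⟨x, C.le_centralizer_of_mem ha hx⟩ :
      ↥(centralizer ({a} : Set G))) ∈ A.subgroupOf _)
  exact congrArg Subtype.val h1

theorem mem_pull {a x : G} (ha : a ∈ A) (hx : x ∈ A) {F : Subgroup (Bar a)} :
    x ∈ pull A a F ↔ proj a ⟨x, C.le_centralizer_of_mem ha hx⟩ ∈ F := by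
  constructor
  · rintro ⟨-, y, hy, he⟩
    have : y = ⟨x, C.le_centralizer_of_mem ha hx⟩ := Subtype.ext he
    exact this ▸ hy
  · exact fun h => ⟨hx, ⟨_, h, rfl⟩⟩

/-- `A` maps isomorphically onto its image. -/
theorem card_pull {a : G} (ha : a ∈ A) (F : Subgroup (Bar a)) :
    Nat.card ↥(pull A a F) = Nat.card ↥(bar A a ⊓ F : Subgroup (Bar a)) := by
  refine Nat.card_congr (Equiv.ofBijective
    (fun x => (⟨proj a ⟨x.1, C.le_centralizer_of_mem ha x.2.1⟩,
      ⟨⟨x.1, C.le_centralizer_of_mem ha x.2.1⟩, mem_subgroupOf.2 x.2.1, rfl⟩,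
      (C.mem_pull ha x.2.1).1 x.2⟩ : ↥(bar A a ⊓ F : Subgroup (Bar a)))) ⟨?_, ?_⟩)
  · intro x y h
    have h1 : proj a ⟨x.1, C.le_centralizer_of_mem ha x.2.1⟩ =
        proj a ⟨y.1, C.le_centralizer_of_mem ha y.2.1⟩ := congrArg Subtype.val h
    have h2 := C.eq_one_of_proj ha (mul_mem (inv_mem x.2.1) y.2.1) (by
      rw [show (⟨(x.1)⁻¹ * y.1, C.le_centralizer_of_mem ha (mul_mem (inv_mem x.2.1) y.2.1)⟩ :
          ↥(centralizer ({a} : Set G))) = ⟨x.1, C.le_centralizer_of_mem ha x.2.1⟩⁻¹ *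
          ⟨y.1, C.le_centralizer_of_mem ha y.2.1⟩ from rfl, map_mul, map_inv, h1, inv_mul_cancel])
    exact Subtype.ext (inv_mul_eq_one.1 h2)
  · rintro ⟨z, ⟨w, hw, rfl⟩, hz⟩
    exact ⟨⟨w.1, (C.mem_pull ha hw).2 hz⟩, rfl⟩

/-- A proper subgroup containing the centralisers of all involutions of `A` gives a strongly embedded one. -/
theorem se_of_le (hC : Aschbacher.CoreFreeCriterion.{u}) {M : Subgroup G} (hM : M ≠ ⊤)
    (h : ∀ a ∈ A, a ≠ 1 → centralizer ({a} : Set G) ≤ M) : HasStronglyEmbedded G := by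
  haveI := C.simple
  refine Aschbacher.criterion_strongly_closed hC S A C.ne C.closed fun e => hM (top_unique (e ▸ iSup_le ?_))
  exact fun t => h t.1 t.2.1 fun e1 => by simpa [e1] using t.2.2

/-! ### Local groups -/

/-- The quotient of a proper subgroup containing `A` by its core is a local group. -/
theorem localQuot {H : Subgroup G} (hH : H ≠ ⊤) (hAH : A ≤ H) :
    Local (↥H ⧸ pPrimeCore 2 ↥H)
      (QuotientGroup.mk' (pPrimeCore 2 ↥H) '' (H.subtype ⁻¹' classSet A))
      ((A.subgroupOf H).map (QuotientGroup.mk' (pPrimeCore 2 ↥H))) := by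
  haveI : Fact (Nat.Prime 2) := ⟨Nat.prime_two⟩
  set R := pPrimeCore 2 ↥H
  set f := QuotientGroup.mk' R
  have hf : Function.Surjective f := QuotientGroup.mk'_surjective R
  refine ⟨Cores.pPrimeCore_quotient_self 2,
    (C.sec H hH).of_surjective f hf, (C.elemT.preimage H.subtype_injective).image R, ?_,
    (C.two.comap_of_injective H.subtype H.subtype_injective).map f, ?_⟩
  · rintro _ ⟨a, ha, rfl⟩
    exact ⟨a, C.subset ha, rfl⟩
  intro P hP hAP x hxP hxT
  obtain ⟨y, hy, rfl⟩ := hxT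
  set Q := P.comap f
  have hA'Q : A.subgroupOf H ≤ Q := fun a ha => hAP ⟨a, ha, rfl⟩
  have hyQ : y ∈ Q := hxP
  have hpow : IsPGroup 2 ↥((zpowers y).subgroupOf Q) :=
    ((C.elemT.preimage H.subtype_injective).isPGroup_zpowers hy).comap_of_injective Q.subtype Q.subtype_injective
  obtain ⟨R₀, hR₀⟩ := ((C.two.comap_of_injective H.subtype H.subtype_injective).comap_of_injective
    Q.subtype Q.subtype_injective).exists_le_sylow
  obtain ⟨R₁, hR₁⟩ := hpow.exists_le_sylow
  obtain ⟨k, hk⟩ := MulAction.exists_smul_eq ↥Q R₁ R₀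
  let g : ↥Q →* ↥P := f.subgroupComap P
  have hg : Function.Surjective g := f.subgroupComap_surjective_of_surjective P hf
  have himg : ((R₀.mapSurjective hg : Sylow 2 ↥P) : Subgroup ↥P) = ⊤ :=
    ((R₀.mapSurjective hg).is_maximal' (Q := ⊤) (hP.of_equiv Subgroup.topEquiv.symm) le_top).symm
  obtain ⟨r, hr, hrk⟩ : ∃ r ∈ (R₀ : Subgroup ↥Q), g r = g k := by
    have : g k ∈ ((R₀.mapSurjective hg : Sylow 2 ↥P) : Subgroup ↥P) := himg ▸ mem_top _
    exact this
  set yQ : ↥Q := ⟨y, hyQ⟩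
  have hyR : k * yQ * k⁻¹ ∈ (R₀ : Subgroup ↥Q) := by
    rw [← hk, Sylow.coe_subgroup_smul, Coprime.mem_conj]
    simpa [mul_assoc] using hR₁ (show yQ ∈ (zpowers y).subgroupOf Q from mem_zpowers y)
  set k' := r⁻¹ * k with hk'
  have hyR' : k' * yQ * k'⁻¹ ∈ (R₀ : Subgroup ↥Q) := by
    rw [show k' * yQ * k'⁻¹ = r⁻¹ * (k * yQ * k⁻¹) * r by rw [hk']; group]
    exact mul_mem (mul_mem (inv_mem hr) hyR) hr
  have hfk : f (k' : ↥H) = 1 := by
    have h1 : g k' = 1 := by rw [hk', map_mul, map_inv, hrk, inv_mul_cancel]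
    exact congrArg Subtype.val h1
  set z : ↥H := (k' : ↥H) * y * (k' : ↥H)⁻¹
  have hzA : (z : G) ∈ A := by
    refine C.mem_of_mem ((R₀.isPGroup'.map Q.subtype).map H.subtype) ?_ ⟨z, ⟨_, hyR', rfl⟩, rfl⟩
      (C.elemT.closed.conj _ _ hy)
    intro a ha
    exact ⟨⟨a, hAH ha⟩, ⟨⟨⟨a, hAH ha⟩, hA'Q ha⟩, hR₀ ha, rfl⟩, rfl⟩
  refine ⟨z, hzA, ?_⟩
  show f ((k' : ↥H) * y * (k' : ↥H)⁻¹) = f y
  rw [map_mul, map_mul, map_inv, hfk, one_mul, inv_one, mul_one]

/-- The image of `A` in `Bar a`. -/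
theorem localBar {a : G} (ha : a ∈ A) (ha1 : a ≠ 1) :
    Local (Bar a) (proj a '' ((centralizer ({a} : Set G)).subtype ⁻¹' classSet A)) (bar A a) :=
  C.localQuot (C.centralizer_ne_top ha1) (C.le_centralizer_of_mem ha)

/-- A proper subgroup with trivial core containing `A` is a local group. -/
theorem localSub {H : Subgroup G} (hH : H ≠ ⊤) (hAH : A ≤ H) (hcore : pPrimeCore 2 ↥H = ⊥) :
    Local ↥H (H.subtype ⁻¹' classSet A) (A.subgroupOf H) := by
  refine ⟨hcore, C.sec H hH, C.elemT.preimage H.subtype_injective,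
    fun a ha => C.subset ha, C.two.comap_of_injective H.subtype H.subtype_injective,
    fun P hP hAP x hx hxT => ?_⟩
  refine C.mem_of_mem (hP.map H.subtype) (fun a ha => ?_) ⟨x, hx, rfl⟩ hxT
  exact ⟨⟨a, hAH ha⟩, hAP (mem_subgroupOf.2 ha), rfl⟩

/-- The normaliser of the image of `A` modulo the core is the image of the normaliser of `A`. -/
theorem normalizer_lift {H : Subgroup G} (hAH : A ≤ H) {x : ↥H}
    (hx : QuotientGroup.mk' (pPrimeCore 2 ↥H) x ∈
      normalizer (((A.subgroupOf H).map (QuotientGroup.mk' (pPrimeCore 2 ↥H)) : Subgroup _) : Set _)) :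
    ∃ y : ↥H, (y : G) ∈ normalizer (A : Set G) ∧
      QuotientGroup.mk' (pPrimeCore 2 ↥H) y = QuotientGroup.mk' (pPrimeCore 2 ↥H) x := by
  haveI : Fact (Nat.Prime 2) := ⟨Nat.prime_two⟩
  set R := pPrimeCore 2 ↥H with hR
  set f := QuotientGroup.mk' R
  set A' := A.subgroupOf H
  set Q := (A'.map f).comap f
  have hA'p : IsPGroup 2 ↥A' := C.two.comap_of_injective H.subtype H.subtype_injective
  have hle : A' ≤ Q := le_comap_map _ _
  obtain ⟨R₀, hR₀⟩ := (hA'p.comap_of_injective Q.subtype Q.subtype_injective).exists_le_sylow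
  -- a 2-subgroup of `Q` containing `A'` is `A'`
  have hmax : ∀ r ∈ (R₀ : Subgroup ↥Q), (r : ↥H) ∈ A' := by
    intro r hr
    obtain ⟨a, ha, hae⟩ := r.2
    have hmem : (a⁻¹ * (r : ↥H) : ↥H) ∈ R := (QuotientGroup.eq).1 hae
    have h1 : (⟨a, hle ha⟩ : ↥Q)⁻¹ * r ∈ (R₀ : Subgroup ↥Q) := mul_mem (inv_mem (hR₀ ha)) hr
    have h2 : (a⁻¹ * (r : ↥H) : ↥H) = 1 := Coprime.eq_one_of_mem_of_mem
      (Coprime.coprime_of_isPGroup (Cores.coprime_card_pPrimeCore 2) (R₀.isPGroup'.map Q.subtype)) hmem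
      ⟨_, h1, rfl⟩
    rw [inv_mul_eq_one] at h2
    exact h2 ▸ ha
  -- the conjugate of `A'` by `x`
  set A₁ := A'.map (MulAut.conj x).toMonoidHom
  have hA₁ : A₁ ≤ Q := by
    rintro _ ⟨a, ha, rfl⟩
    show f ((MulAut.conj x) a) ∈ A'.map f
    rw [MulAut.conj_apply, map_mul, map_mul, map_inv]
    exact (mem_normalizer_iff.1 hx _).1 ⟨a, ha, rfl⟩
  obtain ⟨R₁, hR₁⟩ := ((hA'p.map (MulAut.conj x).toMonoidHom).comap_of_injective Q.subtype
    Q.subtype_injective).exists_le_sylow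
  obtain ⟨k, hk⟩ := MulAction.exists_smul_eq ↥Q R₁ R₀
  obtain ⟨a₀, ha₀, ha₀e⟩ := k.2
  set y : ↥H := a₀⁻¹ * (k : ↥H) * x with hy
  have key : ∀ a ∈ A', y * a * y⁻¹ ∈ A' := fun a ha => by
    have h1 : k * (⟨x * a * x⁻¹, hA₁ ⟨a, ha, rfl⟩⟩ : ↥Q) * k⁻¹ ∈ (R₀ : Subgroup ↥Q) := by
      rw [← hk, Sylow.coe_subgroup_smul, Coprime.mem_conj]
      simpa [mul_assoc] using hR₁ (show (⟨x * a * x⁻¹, hA₁ ⟨a, ha, rfl⟩⟩ : ↥Q) ∈ A₁.subgroupOf Q
        from ⟨a, ha, rfl⟩)
    have h2 := hmax _ h1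
    rw [show y * a * y⁻¹ = a₀⁻¹ * ((k : ↥H) * (x * a * x⁻¹) * (k : ↥H)⁻¹) * a₀ by rw [hy]; group]
    exact mul_mem (mul_mem (inv_mem ha₀) h2) ha₀
  refine ⟨y, ?_, ?_⟩
  · have hmap : ∀ a ∈ A, (y : G) * a * (y : G)⁻¹ ∈ A := fun a ha =>
      key ⟨a, hAH ha⟩ (mem_subgroupOf.2 ha)
    let φ : A → A := fun a => ⟨_, hmap a a.2⟩
    have hφ : Function.Injective φ := fun a b h => Subtype.ext
      (mul_left_cancel (mul_right_cancel (congrArg Subtype.val h)))
    refine mem_normalizer_iff.2 fun z => ⟨hmap z, fun hz => ?_⟩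
    obtain ⟨a, ha⟩ := (Finite.injective_iff_surjective.1 hφ) ⟨_, hz⟩
    have : (a : G) = z := mul_left_cancel (mul_right_cancel (congrArg Subtype.val ha))
    exact this ▸ a.2
  · rw [hy, map_mul, map_mul, map_inv, ha₀e, inv_mul_cancel, one_mul]

end Ctx

end Cfsg.Agent.Goldschmidt.General
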