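import Cfsg.Agent.Lib.Goldschmidt.General.Targets
import Cfsg.Agent.Lib.Goldschmidt.General.Setup
import Cfsg.Agent.Lib.Coprime.Abelian

/-!
# Elementary Sylow subgroups (owner: helper64; section ElemSylow of `GENERAL.md`)

* `exists_complement_elem`  : a complement in an elementary abelian 2-group
* `exists_complement_normalized` : a complement normalised by the normaliser of the Sylow subgroup
* `elemSylowTarget` : in a simple group with elementary Sylow subgroup `A` is the whole Sylow subgroup
-/

set_option autoImplicit false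
set_option linter.unusedSectionVars false
set_option linter.style.haveILetI false

namespace Cfsg.Agent.Goldschmidt.General

open Cfsg Subgroup
open scoped commutatorElement

universe u

variable {G : Type u} [Group G] [Finite G]

/-- Complements in elementary abelian 2-subgroups. -/
theorem exists_complement_elem {S A : Subgroup G} (hS : Cfsg.IsElementaryAbelian 2 S) (hA : A ≤ S) :
    ∃ W : Subgroup G, W ≤ S ∧ A ⊓ W = ⊥ ∧ A ⊔ W = S := by
  obtain ⟨W, ⟨hW, hAW⟩, hmax⟩ := (wellFounded_gt (α := Subgroup G)).has_min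
    {T : Subgroup G | T ≤ S ∧ A ⊓ T = ⊥} ⟨⊥, bot_le, inf_bot_eq _⟩
  refine ⟨W, hW, hAW, le_antisymm (sup_le hA hW) fun x hx => ?_⟩
  by_contra hxn
  have hlt : W < W ⊔ zpowers x := lt_of_le_of_ne le_sup_left fun e =>
    hxn (mem_sup_right (e ▸ le_sup_right (a := W) (mem_zpowers x)))
  refine hmax _ ⟨sup_le hW (zpowers_le.2 hx), ?_⟩ hlt
  rw [eq_bot_iff]
  rintro a ⟨haA, haW⟩
  have hn : zpowers x ≤ normalizer (W : Set G) := by
    refine zpowers_le.2 (centralizer_le_normalizer _ fun w hw => ?_)
    exact congrArg Subtype.val (hS.1.is_comm.comm ⟨w, hW hw⟩ ⟨x, hx⟩)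
  have haW' : a ∈ ((W ⊔ zpowers x : Subgroup G) : Set G) := haW
  rw [coe_mul_of_right_le_normalizer_left W (zpowers x) hn] at haW'
  obtain ⟨w, hw, y, hy, he⟩ := haW'
  obtain ⟨i, rfl⟩ := mem_zpowers_iff.1 hy
  have hx2 : x ^ (2 : ℤ) = 1 := by rw [zpow_two, ← pow_two]; exact hS.2 x hx
  have hwy : x ^ i = 1 ∨ x ^ i = x := by
    rcases Int.even_or_odd i with ⟨j, rfl⟩ | ⟨j, rfl⟩
    · left
      rw [← two_mul, zpow_mul, hx2, one_zpow]
    · right
      rw [zpow_add, zpow_mul, hx2, one_zpow, one_mul, zpow_one]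
  rcases hwy with h | h
  · rw [← hAW]
    refine ⟨haA, ?_⟩
    have : w * x ^ i = a := he
    rw [h, mul_one] at this
    exact this ▸ hw
  · exfalso
    have hwa : w * x ^ i = a := he
    rw [h] at hwa
    have : x = w⁻¹ * a := by rw [← hwa, inv_mul_cancel_left]
    exact hxn (this ▸ mul_mem (mem_sup_right (inv_mem hw)) (mem_sup_left haA))

/-- Maschke: a complement invariant under the normaliser of an elementary Sylow subgroup. -/
theorem exists_complement_normalized (S : Sylow 2 G) (hS : Cfsg.IsElementaryAbelian 2 (S : Subgroup G))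
    {A : Subgroup G} (hA : A ≤ (S : Subgroup G))
    (hN : normalizer ((S : Subgroup G) : Set G) ≤ normalizer (A : Set G)) :
    ∃ B : Subgroup G, B ≤ (S : Subgroup G) ∧ normalizer ((S : Subgroup G) : Set G) ≤ normalizer (B : Set G) ∧
      A ⊓ B = ⊥ ∧ A ⊔ B = (S : Subgroup G) := by
  haveI : Fact (Nat.Prime 2) := ⟨Nat.prime_two⟩
  haveI : IsMulCommutative (S : Subgroup G) := hS.1
  set N := normalizer ((S : Subgroup G) : Set G) with hNdef
  set T := (S : Subgroup G).subgroupOf N
  haveI : T.Normal := normal_in_normalizer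
  have hcop : Nat.Coprime (Nat.card T) T.index := (S.subtype le_normalizer).card_coprime_index
  obtain ⟨H, hH⟩ := exists_right_complement'_of_coprime hcop
  set H' := H.map N.subtype
  have hH'N : H' ≤ N := map_subtype_le H
  have hcard : Nat.card ↥H' = T.index := by
    rw [hH.symm.index_eq_card]
    exact (Nat.card_congr (H.equivMapOfInjective N.subtype N.subtype_injective).symm.toEquiv)
  have hcopV : (Nat.card ↥H').Coprime (Nat.card (S : Subgroup G)) := by
    rw [hcard, ← Nat.card_congr (subgroupOfEquivOfLe (le_normalizer (H := (S : Subgroup G)))).toEquiv]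
    exact hcop.symm
  obtain ⟨W, hW, hAW, hAW'⟩ := exists_complement_elem hS hA
  obtain ⟨B, hB, hH'B, hAB, hAB'⟩ := Coprime.exists_invariant_complement (A := H')
    (V := (S : Subgroup G)) hH'N hcopV hA (hH'N.trans hN) hW hAW hAW'
  refine ⟨B, hB, fun n hn => ?_, hAB, hAB'⟩
  obtain ⟨t, ht, k, hk, e⟩ := mem_sup_of_normal_left.1
    (hH.sup_eq_top.ge (mem_top (⟨n, hn⟩ : ↥N)))
  have e' : (t : G) * (k : G) = n := congrArg Subtype.val e
  rw [← e']
  refine mul_mem (centralizer_le_normalizer _ fun b hb => ?_) (hH'B ⟨k, hk, rfl⟩)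
  exact congrArg Subtype.val (hS.1.is_comm.comm ⟨b, hB hb⟩ ⟨(t : G), ht⟩)

/-- In a simple group with elementary Sylow subgroup a minimal strongly closed subgroup is the whole
Sylow subgroup. -/
theorem elemSylowTarget : ElemSylowTarget.{u} := by
  intro G _ _ S A C hS
  haveI : Fact (Nat.Prime 2) := ⟨Nat.prime_two⟩
  haveI : IsMulCommutative (S : Subgroup G) := hS.1
  have hN : normalizer ((S : Subgroup G) : Set G) ≤ normalizer (A : Set G) := by
    intro n hn
    refine Coprime.mem_normalizer_of_forall fun a ha => ?_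
    exact C.closed.2 a ha n ((mem_normalizer_iff.1 hn a).1 (C.le ha))
  obtain ⟨B, hB, hNB, hAB, hAB'⟩ := exists_complement_normalized S hS C.le hN
  have hBc : IsStronglyClosed B (S : Subgroup G) := by
    refine ⟨hB, fun x hx g hg => ?_⟩
    obtain ⟨n, hn, he⟩ := S.conj_eq_normalizer_conj_of_mem x g⁻¹ (hB hx) (by rwa [inv_inv])
    rw [inv_inv] at he
    rw [he]
    have := (mem_normalizer_iff.1 (inv_mem (hNB hn)) x).1 hx
    rwa [inv_inv] at this
  have hsqS : ∀ b ∈ (S : Subgroup G), b * b = 1 := fun b hb => by rw [← pow_two]; exact hS.2 b hb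
  have hpair : ClosedPair.ClosedPair (classSet A) (classSet B) := by
    refine ⟨C.elemT.closed, (elem_classSet S hBc fun b hb => hsqS b (hB hb)).closed, ?_, ?_⟩
    · intro P hP x hx y hy _ _
      obtain ⟨Q, hQ⟩ := hP.exists_le_sylow
      obtain ⟨g, hg⟩ := MulAction.exists_smul_eq G Q S
      have hm : ∀ z ∈ P, g * z * g⁻¹ ∈ (S : Subgroup G) := fun z hz => by
        rw [← hg, Sylow.coe_subgroup_smul, Coprime.mem_conj]
        simpa [mul_assoc] using hQ hz
      have h1 : (g * x * g⁻¹) * (g * y * g⁻¹) = (g * y * g⁻¹) * (g * x * g⁻¹) :=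
        congrArg Subtype.val (hS.1.is_comm.comm ⟨_, hm x hx⟩ ⟨_, hm y hy⟩)
      have h2 : g * (x * y) * g⁻¹ = g * (y * x) * g⁻¹ := by
        rw [show g * (x * y) * g⁻¹ = (g * x * g⁻¹) * (g * y * g⁻¹) by group, h1]
        group
      exact mul_left_cancel (mul_right_cancel h2)
    · rintro x ⟨g, hg⟩ hxB
      have h1 : g * x * g⁻¹ ∈ classSet B :=
        (elem_classSet S hBc fun b hb => hsqS b (hB hb)).closed.conj g x hxB
      have h2 := (mem_classSet_iff hBc (C.le hg)).1 h1
      have h3 : g * x * g⁻¹ = 1 := mem_bot.1 (hAB ▸ (show g * x * g⁻¹ ∈ A ⊓ B from ⟨hg, h2⟩))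
      exact conj_eq_one_iff.1 h3
  have hB1 : B = ⊥ := by
    rw [eq_bot_iff]
    intro b hb
    rw [← C.center_eq_bot]
    haveI := C.simple
    have htop : normalClosure (A : Set G) = ⊤ :=
      ((normalClosure_normal (s := (A : Set G))).eq_bot_or_eq_top).resolve_left fun e =>
        C.ne (le_bot_iff.1 (e ▸ subset_normalClosure))
    have hle : normalClosure (A : Set G) ≤ centralizer ({b} : Set G) := by
      rw [normalClosure, closure_le]
      intro y hy
      obtain ⟨a, ha, hay⟩ := Group.mem_conjugatesOfSet_iff.1 hy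
      obtain ⟨g, rfl⟩ := isConj_iff.1 hay
      exact mem_centralizer_singleton_iff.2
        (ClosedPair.commute_of_core_eq_bot C.core_eq_bot hpair _
          (C.elemT.closed.conj g a (mem_classSet_of_mem ha)) b (mem_classSet_of_mem hb))
    rw [htop] at hle
    exact mem_center_iff.2 fun g => mem_centralizer_singleton_iff.1 (hle (mem_top g))
  rw [← hAB', hB1, sup_bot_eq]

end Cfsg.Agent.Goldschmidt.General
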