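import Cfsg.Agent.Lib.Goldschmidt.General.Defs
import Cfsg.Agent.Lib.Goldschmidt.ThreePrime.Data
import Cfsg.Agent.Lib.PReduced.Local

/-!
# A component moved by `A` in a core-free local group (owner: helper96)

* `ShapeFacts`, `shapeFacts` : what the two shapes of the simple quotient have in common
* `exists_mem_inter` : a component with a non-central member contains a non-central element of `A`
* `moved_conj` : conjugates of moved components are moved
* `Chart`, `exists_chart` : a Sylow subgroup of the component normalised by `A`, and a torus element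
-/

set_option autoImplicit false
set_option linter.unusedSectionVars false
set_option linter.style.haveILetI false

namespace Cfsg.Agent.Goldschmidt.General

open Cfsg Subgroup Cfsg.Agent.Components
open scoped commutatorElement

universe u

/-- The facts common to both shapes. -/
structure ShapeFacts (L : Type u) [Group L] (q : ℕ) : Prop where
  center : Subgroup.center L = ⊥
  four : 4 ≤ q
  card_centre : ∀ Q : Sylow 2 L, Nat.card ↥(centre (Q : Subgroup L)) = q
  omega : ∀ Q : Sylow 2 L, ∀ x ∈ Q, (x * x = 1 ↔ x ∈ centre (Q : Subgroup L))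
  sq : ∀ Q : Sylow 2 L, ∀ x ∈ Q, x * x ∈ centre (Q : Subgroup L)
  comm : ∀ Q : Sylow 2 L, ∀ x ∈ Q, ∀ y ∈ Q, ⁅x, y⁆ ∈ centre (Q : Subgroup L)
  torus : ∀ Q : Sylow 2 L, ∃ h ∈ normalizer ((Q : Subgroup L) : Set L),
    Torus (centre (Q : Subgroup L)) h ∧ NoForm (Q : Subgroup L) (centre (Q : Subgroup L)) h ∧
      (NoDelta (Q : Subgroup L) (centre (Q : Subgroup L)) h ∨
        (q = 8 ∧ Nat.card ↥(Q : Subgroup L) = 64 ∧ TransMod (Q : Subgroup L) (centre (Q : Subgroup L)) h))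
  autInner : ∀ Q : Sylow 2 L, ∀ α : MulAut L, (∃ k : ℕ, α ^ 2 ^ k = 1) →
    (∀ z ∈ centre (Q : Subgroup L), α z = z) →
    (∀ x ∈ Q, x⁻¹ * α x ∈ centre (Q : Subgroup L)) → ∃ s ∈ Q, α = MulAut.conj s

theorem RankFacts.shapeFacts {L : Type u} [Group L] {q : ℕ} (F : RankFacts L q) : ShapeFacts L q where
  center := F.center
  four := by
    obtain ⟨n, hn, rfl⟩ := F.pow
    calc 4 = 2 ^ 2 := by norm_num
      _ ≤ 2 ^ n := Nat.pow_le_pow_right (by norm_num) hn
  card_centre := F.card_centre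
  omega := F.omega
  sq := F.sq
  comm := F.comm
  torus := F.torus
  autInner Q α _ h1 h2 := F.autInner Q α h1 h2

theorem SmallFacts.centre_eq {L : Type u} [Group L] {q : ℕ} (F : SmallFacts L q) (Q : Sylow 2 L) :
    centre (Q : Subgroup L) = (Q : Subgroup L) :=
  le_antisymm inf_le_left (le_inf le_rfl fun x hx => mem_centralizer_iff.2 fun y hy =>
    congrArg Subtype.val ((F.sylow Q).1.1.is_comm.comm (⟨y, hy⟩ : ↥(Q : Subgroup L)) ⟨x, hx⟩))

theorem SmallFacts.shapeFacts {L : Type u} [Group L] {q : ℕ} (F : SmallFacts L q) : ShapeFacts L q where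
  center := F.center
  four := by rcases F.four_or_eight with h | h <;> omega
  card_centre Q := by rw [F.centre_eq Q]; exact (F.sylow Q).2
  omega Q x hx := by
    refine iff_of_true ?_ (by rw [F.centre_eq Q]; exact hx)
    rw [← pow_two]
    exact (F.sylow Q).1.2 x hx
  sq Q x hx := by rw [F.centre_eq Q]; exact mul_mem hx hx
  comm Q x hx y hy := by
    rw [F.centre_eq Q, commutatorElement_def]
    exact mul_mem (mul_mem (mul_mem hx hy) (inv_mem hx)) (inv_mem hy)
  torus Q := by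
    obtain ⟨h, hh⟩ := F.torus Q
    refine ⟨h, hh.mem, by rw [F.centre_eq Q]; exact hh, ?_, Or.inl ?_⟩
    · intro M _ _ β _ _ _ h4 _ x hx y hy
      exact h4 x (by rw [F.centre_eq Q]; exact hx) y hy
    · intro M _ _ β _ _ h3 _ x hx z hz
      exact h3 x (by rw [F.centre_eq Q]; exact hx) z hz
  autInner Q α hα h1 _ := F.autInner Q α hα fun x hx => h1 x (by rw [F.centre_eq Q]; exact hx)

theorem shapeFacts {L : Type u} [Group L] {q : ℕ} (h : RankFacts L q ∨ SmallFacts L q) :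
    ShapeFacts L q :=
  h.elim RankFacts.shapeFacts SmallFacts.shapeFacts

variable {X : Type u} [Group X] [Finite X] {T : Set X} {A K : Subgroup X}

/-- The projection of a component to its simple quotient. -/
abbrev cproj (K : Subgroup X) : ↥K →* ↥K ⧸ center ↥K := QuotientGroup.mk' (center ↥K)

theorem Local.mem_T (L : Local X T A) {a : X} (ha : a ∈ A) : a ∈ T := L.subset ha

theorem Local.sq (L : Local X T A) {a : X} (ha : a ∈ A) : a * a = 1 := L.elem.sq a (L.mem_T ha)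

theorem Local.commute (L : Local X T A) {a b : X} (ha : a ∈ A) (hb : b ∈ A) : a * b = b * a :=
  (L.elem.commute L.two ha hb (L.mem_T ha) (L.mem_T hb)).eq

theorem Local.le_normalizer (L : Local X T A) (hK : Cfsg.IsComponent K) :
    A ≤ normalizer (K : Set X) := fun _ ha =>
  normalizes_component L.elem L.core hK (L.mem_T ha)

/-- A Sylow subgroup of a normalised subgroup, cut out by a 2-group containing `A`. -/
theorem exists_sylow_cut (hA : IsPGroup 2 ↥A) (hAK : A ≤ normalizer (K : Set X)) :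
    ∃ (P : Sylow 2 ↥K) (S : Subgroup X), IsPGroup 2 ↥S ∧ A ≤ S ∧ S ≤ normalizer (K : Set X) ∧
      (P : Subgroup ↥K).map K.subtype = S ⊓ K := by
  haveI : Fact (Nat.Prime 2) := ⟨Nat.prime_two⟩
  set N := normalizer (K : Set X)
  obtain ⟨U, hU⟩ := (hA.comap_subtype (K := N)).exists_le_sylow
  haveI : (K.subgroupOf N).Normal := normal_in_normalizer
  have hcop := PReduced.relIndex_coprime_of_normalized U (C := K.subgroupOf N)
    (by rw [normalizer_eq_top]; exact le_top)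
  set S := (U : Subgroup ↥N).map N.subtype with hS
  have hS2 : IsPGroup 2 ↥S := U.isPGroup'.map _
  have hrel : (U : Subgroup ↥N).relIndex (K.subgroupOf N) = S.relIndex K := by
    rw [← relIndex_map_map_of_injective _ _ N.subtype_injective,
      map_subgroupOf_eq_of_le le_normalizer]
  rw [hrel] at hcop
  refine ⟨IsPGroup.toSylow (hS2.comap_subtype (K := K))
    (Nat.prime_two.coprime_iff_not_dvd.1 hcop.symm), S, hS2,
    fun a ha => ⟨⟨a, hAK ha⟩, hU ha, rfl⟩, map_subtype_le _, ?_⟩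
  show (S.comap K.subtype).map K.subtype = S ⊓ K
  exact subgroupOf_map_subtype S K

/-- A component with a non-central member contains a non-central element of `A`. -/
theorem exists_mem_inter (L : Local X T A) (hK : Cfsg.IsComponent K)
    (h : ∃ v ∈ T, v ∈ K ∧ v ∉ centerOf K) : ∃ v ∈ A, v ∈ K ∧ v ∉ centerOf K := by
  haveI : Fact (Nat.Prime 2) := ⟨Nat.prime_two⟩
  obtain ⟨v, hv, hvK, hvZ⟩ := h
  obtain ⟨P, S, hS, hAS, -, hPS⟩ := exists_sylow_cut L.two (L.le_normalizer hK)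
  obtain ⟨R, hR⟩ := ((L.elem.isPGroup_zpowers hv).comap_of_injective K.subtype
    K.subtype_injective).exists_le_sylow
  obtain ⟨k, hk⟩ := MulAction.exists_smul_eq ↥K R P
  have hkP : k * ⟨v, hvK⟩ * k⁻¹ ∈ (P : Subgroup ↥K) := by
    rw [← hk, Sylow.coe_subgroup_smul, Coprime.mem_conj]
    simpa [mul_assoc] using hR (show (⟨v, hvK⟩ : ↥K) ∈ (zpowers v).comap K.subtype from mem_zpowers v)
  have hkS : (k : X) * v * (k : X)⁻¹ ∈ S := (hPS.le ⟨_, hkP, rfl⟩).1
  refine ⟨_, L.max S hS hAS _ hkS (L.elem.closed.conj _ _ hv), (k * ⟨v, hvK⟩ * k⁻¹ : ↥K).2,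
    fun hc => hvZ ?_⟩
  obtain ⟨-, hzc⟩ := mem_centerOf.1 hc
  have h1 := hzc k k.2
  have h2 : (k : X) * v * (k : X)⁻¹ = v := by
    calc (k : X) * v * (k : X)⁻¹ = (k : X)⁻¹ * ((k : X) * ((k : X) * v * (k : X)⁻¹)) := by group
      _ = (k : X)⁻¹ * (((k : X) * v * (k : X)⁻¹) * k) := by rw [h1]
      _ = v := by group
  rwa [h2] at hc

theorem not_le_centralizer_of_mem (hK : Cfsg.IsComponent K) {v : X} (hvA : v ∈ A) (hvK : v ∈ K)
    (hvZ : v ∉ centerOf K) : ¬ K ≤ centralizer (A : Set X) := fun h =>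
  hvZ (mem_centerOf.2 ⟨hvK, fun k hk => (mem_centralizer_iff.1 (h hk) v hvA).symm⟩)

/-- A moved component has a non-central member. -/
theorem exists_member (L : Local X T A) (hM : Moved A K) :
    ∃ v ∈ T, v ∈ K ∧ v ∉ centerOf K := by
  obtain ⟨hK, hne⟩ := hM
  obtain ⟨a, ha, hac⟩ : ∃ a ∈ A, ¬ K ≤ centralizer ({a} : Set X) := by
    by_contra hno
    push Not at hno
    exact hne fun k hk => mem_centralizer_iff.2 fun a ha =>
      (mem_centralizer_singleton_iff.1 (hno a ha hk)).symm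
  obtain ⟨v, hv, hvK, hvZ, -⟩ := exists_noncentral L.elem L.core hK (L.mem_T ha) hac
  exact ⟨v, hv, hvK, hvZ⟩

/-- Conjugates of moved components are moved. -/
theorem moved_conj (L : Local X T A) (hM : Moved A K) (g : X) :
    Moved A (K.map (MulAut.conj g).toMonoidHom) := by
  obtain ⟨v, hv, hvK, hvZ⟩ := exists_member L hM
  have hK' := IsComponent.conj hM.1 g
  refine ⟨hK', ?_⟩
  suffices hc : g * v * g⁻¹ ∉ centerOf (K.map (MulAut.conj g).toMonoidHom) by
    obtain ⟨w, hwA, hwK, hwZ⟩ := exists_mem_inter L hK' ⟨g * v * g⁻¹, L.elem.closed.conj g v hv,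
      ⟨v, hvK, rfl⟩, hc⟩
    exact not_le_centralizer_of_mem hK' hwA hwK hwZ
  intro hc
  apply hvZ
  obtain ⟨-, hzc⟩ := mem_centerOf.1 hc
  refine mem_centerOf.2 ⟨hvK, fun k hk => ?_⟩
  have h1 := hzc (g * k * g⁻¹) ⟨k, hk, rfl⟩
  calc k * v = g⁻¹ * (g * k * g⁻¹ * (g * v * g⁻¹)) * g := by group
    _ = v * k := by rw [h1]; group

/-- A Sylow subgroup of a moved component adapted to `A`, with a torus element. -/
structure Chart (A K : Subgroup X) (q : ℕ) (Qb : Sylow 2 (↥K ⧸ center ↥K)) (h : ↥K) : Prop where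
  comp : Cfsg.IsComponent K
  shape : RankFacts (↥K ⧸ center ↥K) q ∨ SmallFacts (↥K ⧸ center ↥K) q
  norm : A ≤ normalizer (K : Set X)
  two_center : IsPGroup 2 ↥(center ↥K)
  sq_one : ∀ a ∈ A, a * a = 1
  commute : ∀ a ∈ A, ∀ b ∈ A, a * b = b * a
  conj_mem : ∀ y : ↥K, cproj K y ∈ (Qb : Subgroup (↥K ⧸ center ↥K)) → ∀ a ∈ A,
    (y : X) * a * (y : X)⁻¹ ∈ A
  mem_centre : ∀ b : ↥K, (b : X) ∈ A → cproj K b ∈ centre (Qb : Subgroup (↥K ⧸ center ↥K))
  onto : ∀ z ∈ centre (Qb : Subgroup (↥K ⧸ center ↥K)), ∃ b : ↥K, (b : X) ∈ A ∧ cproj K b = z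
  act : ∀ a ∈ A, ∃ b ∈ A ⊓ K, b⁻¹ * a ∈ fixer A K
  odd : Odd (orderOf h)
  mem_norm : cproj K h ∈ normalizer ((Qb : Subgroup (↥K ⧸ center ↥K)) : Set (↥K ⧸ center ↥K))
  norm_A : (h : X) ∈ normalizer (A : Set X)
  torus : Torus (centre (Qb : Subgroup (↥K ⧸ center ↥K))) (cproj K h)
  noForm : NoForm (Qb : Subgroup (↥K ⧸ center ↥K)) (centre (Qb : Subgroup (↥K ⧸ center ↥K))) (cproj K h)
  delta : NoDelta (Qb : Subgroup (↥K ⧸ center ↥K)) (centre (Qb : Subgroup (↥K ⧸ center ↥K))) (cproj K h) ∨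
    (q = 8 ∧ Nat.card ↥(Qb : Subgroup (↥K ⧸ center ↥K)) = 64 ∧
      TransMod (Qb : Subgroup (↥K ⧸ center ↥K)) (centre (Qb : Subgroup (↥K ⧸ center ↥K))) (cproj K h))

theorem Chart.facts {q : ℕ} {Qb : Sylow 2 (↥K ⧸ center ↥K)} {h : ↥K} (c : Chart A K q Qb h) :
    ShapeFacts (↥K ⧸ center ↥K) q := General.shapeFacts c.shape

/-- Inner automorphisms of a group without centre determine the element. -/
theorem conj_injective {L : Type u} [Group L] (hc : Subgroup.center L = ⊥) :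
    Function.Injective (MulAut.conj : L →* MulAut L) := by
  refine (injective_iff_map_eq_one _).2 fun s hs => ?_
  rw [← mem_bot, ← hc, mem_center_iff]
  intro g
  have := MulEquiv.congr_fun hs g
  rw [MulAut.conj_apply, MulAut.one_apply, mul_inv_eq_iff_eq_mul] at this
  exact this.symm

/-- Charts exist. -/
theorem exists_chart (L : Local X T A) (hM : Moved A K) :
    ∃ (q : ℕ) (Qb : Sylow 2 (↥K ⧸ center ↥K)) (h : ↥K), Chart A K q Qb h := by
  classical
  haveI : Fact (Nat.Prime 2) := ⟨Nat.prime_two⟩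
  have hK := hM.1
  have hT := L.elem
  haveI : IsSimpleGroup (↥K ⧸ center ↥K) := hK.2.2
  set π := cproj K with hπ
  have hπs : Function.Surjective π := QuotientGroup.mk'_surjective _
  have hncomm : ∃ x y : ↥K ⧸ center K, x * y ≠ y * x := by
    by_contra hno
    push Not at hno
    haveI : Group.IsSolvable (↥K ⧸ center K) := Group.isSolvable_of_comm hno
    haveI : Group.IsSolvable (center K) := Group.isSolvable_of_comm fun a b =>
      Subtype.ext (mem_center_iff.1 b.2 a)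
    exact IsQuasisimple.not_isSolvable hK.2 (Group.isSolvable_of_ker_le_range (center K).subtype π
      (by rw [hπ, QuotientGroup.ker_mk', range_subtype]))
  obtain ⟨v, hvA, hvK, hvZ⟩ := exists_mem_inter L hK (exists_member L hM)
  have hv1 : π ⟨v, hvK⟩ ≠ 1 := fun h => hvZ ⟨⟨v, hvK⟩, (QuotientGroup.eq_one_iff _).1 h, rfl⟩
  obtain ⟨q, hshape⟩ := L.sec (↥K ⧸ center ↥K) K π hπs inferInstance hncomm
    ⟨π '' (K.subtype ⁻¹' T), (hT.preimage K.subtype_injective).image (center ↥K),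
      π ⟨v, hvK⟩, ⟨⟨v, hvK⟩, L.mem_T hvA, rfl⟩, hv1⟩
  have F := General.shapeFacts hshape
  have hn := L.le_normalizer hK
  have hZ2 : IsPGroup 2 ↥(center K) := isPGroup_center_component L.core hK
  obtain ⟨P, S, hS, hAS, hSK, hPS⟩ := exists_sylow_cut L.two hn
  set Qb := P.mapSurjective hπs with hQb
  have hQmem : ∀ y : ↥K, π y ∈ (Qb : Subgroup (↥K ⧸ center ↥K)) ↔ (y : X) ∈ S := by
    intro y
    rw [hQb, Sylow.coe_mapSurjective, ← mem_comap, comap_map_eq, hπ, QuotientGroup.ker_mk']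
    have hle : center ↥K ≤ (P : Subgroup ↥K) := fun z hz => by
      haveI : (center ↥K).Normal := inferInstance
      have h2 := P.is_maximal' (IsPGroup.to_sup_of_normal_right P.isPGroup' hZ2) le_sup_left
      exact h2 ▸ mem_sup_right hz
    rw [sup_eq_left.2 hle]
    constructor
    · exact fun hy => (hPS.le ⟨y, hy, rfl⟩).1
    · intro hy
      obtain ⟨y', hy', e⟩ := hPS.ge ⟨hy, y.2⟩
      rwa [← Subtype.ext e]
  have hSA : ∀ s ∈ S, ∀ a ∈ A, s * a * s⁻¹ ∈ A := fun s hs a ha =>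
    L.max S hS hAS _ (mul_mem (mul_mem hs (hAS ha)) (inv_mem hs)) (hT.closed.conj s a (L.mem_T ha))
  set Z := centre (Qb : Subgroup (↥K ⧸ center ↥K)) with hZdef
  have hmemZ : ∀ b : ↥K, (b : X) ∈ A → π b ∈ Z := by
    intro b hb
    refine (F.omega Qb _ ((hQmem b).2 (hAS hb))).1 ?_
    rw [← map_mul, show b * b = 1 from Subtype.ext (L.sq hb), map_one]
  -- the image of `A ∩ K` is closed in `Qb`
  have hclosed : ∀ b : ↥K, (b : X) ∈ A → ∀ g : ↥K, π (g * b * g⁻¹) ∈ (Qb : Subgroup (↥K ⧸ center ↥K)) →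
      ((g * b * g⁻¹ : ↥K) : X) ∈ A := by
    intro b hb g hg
    exact L.max S hS hAS _ ((hQmem _).1 hg) (by simpa using hT.closed.conj (g : X) b (L.mem_T hb))
  -- the torus
  obtain ⟨hb, hbN, htor, hform, hdelta⟩ := F.torus Qb
  obtain ⟨h, hho, hh⟩ : ∃ h : ↥K, Odd (orderOf h) ∧ π h = hb := by
    obtain ⟨h₀, hh₀⟩ := hπs hb
    obtain ⟨k, m, hm, hnm⟩ := Nat.exists_eq_two_pow_mul_odd (orderOf_pos h₀).ne'
    obtain ⟨j, hj⟩ := exists_pow_eq_self_of_coprime (x := hb) (n := 2 ^ k)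
      (Nat.Coprime.pow_left _ (Nat.coprime_two_left.2 htor.odd))
    refine ⟨(h₀ ^ 2 ^ k) ^ j, hm.of_dvd_nat ((orderOf_pow_dvd _).trans ?_), by
      rw [map_pow, map_pow, hh₀, hj]⟩
    rw [orderOf_pow' _ (by positivity), hnm, Nat.gcd_eq_right (dvd_mul_right _ _),
      Nat.mul_div_cancel_left _ (by positivity)]
  subst hh
  have hhA : ∀ b : ↥K, (b : X) ∈ A → ((h * b * h⁻¹ : ↥K) : X) ∈ A := by
    intro b hb'
    refine hclosed b hb' h ?_
    rw [map_mul, map_mul, map_inv]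
    exact (mem_normalizer_iff.1 hbN _).1 (hmemZ b hb').1
  have honto : ∀ z ∈ Z, ∃ b : ↥K, (b : X) ∈ A ∧ π b = z := by
    intro z hz
    by_cases hz1 : z = 1
    · exact ⟨1, A.one_mem, by rw [hz1, map_one]⟩
    obtain ⟨k, hk⟩ := htor.trans _ (hmemZ ⟨v, hvK⟩ hvA) z hz hv1 hz1
    have hpow : ∀ k : ℕ, ((h ^ k * ⟨v, hvK⟩ * (h ^ k)⁻¹ : ↥K) : X) ∈ A := by
      intro k
      induction k with
      | zero => simpa using hvA
      | succ k ih =>
        have h1 := hhA _ ih
        rwa [show h * (h ^ k * ⟨v, hvK⟩ * (h ^ k)⁻¹) * h⁻¹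
          = h ^ (k + 1) * ⟨v, hvK⟩ * (h ^ (k + 1))⁻¹ by rw [pow_succ']; group] at h1
    refine ⟨_, hpow k, ?_⟩
    rw [← hk, map_mul, map_mul, map_inv, map_pow]
  -- members are inner
  have hact : ∀ a ∈ A, ∃ b ∈ A ⊓ K, b⁻¹ * a ∈ fixer A K := by
    intro a ha
    set α := ThreePrime.quotAut (hn ha) with hα
    have hα1 : α ^ 2 ^ 1 = 1 := ThreePrime.quotAut_pow_eq_one _ (by rw [pow_one, pow_two]; exact L.sq ha)
    have hfixZ : ∀ z ∈ Z, α z = z := by
      intro z hz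
      obtain ⟨b, hb', rfl⟩ := honto z hz
      rw [hα, hπ, ThreePrime.quotAut_mk]
      exact congrArg _ (Subtype.ext (show a * b * a⁻¹ = b by rw [L.commute ha hb', mul_inv_cancel_right]))
    obtain ⟨s, hs, hαs⟩ := F.autInner Qb α ⟨1, hα1⟩ hfixZ (by
      intro x hx
      obtain ⟨y, rfl⟩ := hπs x
      rw [hα, hπ, ThreePrime.quotAut_mk, ← map_inv, ← map_mul]
      refine hmemZ _ ?_
      show (y : X)⁻¹ * (a * y * a⁻¹) ∈ A
      rw [show (y : X)⁻¹ * (a * y * a⁻¹) = ((y : X)⁻¹ * a * (y : X)⁻¹⁻¹) * a⁻¹ by group]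
      exact A.mul_mem (hSA _ (inv_mem ((hQmem y).1 hx)) a ha) (A.inv_mem ha))
    have hs2 : s * s = 1 := conj_injective F.center (by
      rw [map_mul, ← hαs, ← pow_two, ← pow_one 2, hα1, map_one])
    obtain ⟨b, hbA, rfl⟩ := honto s ((F.omega Qb s hs).1 hs2)
    refine ⟨b, ⟨hbA, b.2⟩, A.mul_mem (A.inv_mem hbA) ha, ?_⟩
    have hbn : (b : X) ∈ normalizer (K : Set X) := hn hbA
    refine ThreePrime.centralizes_of_quotAut hK (mul_mem (inv_mem hbn) (hn ha)) ?_
    refine MulEquiv.ext fun g => ?_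
    obtain ⟨k, rfl⟩ := hπs g
    rw [hπ, ThreePrime.quotAut_mk, MulAut.one_apply, ← hπ]
    have h1 : π ⟨a * k * a⁻¹, (mem_normalizer_iff.1 (hn ha) k).1 k.2⟩ = π (b * k * b⁻¹) := by
      rw [map_mul, map_mul, map_inv]
      exact MulEquiv.congr_fun hαs (π k)
    have h2 : π (b⁻¹ * ⟨a * k * a⁻¹, (mem_normalizer_iff.1 (hn ha) k).1 k.2⟩ * b) = π k := by
      rw [map_mul, map_mul, h1, ← map_mul, ← map_mul]
      exact congrArg _ (by group)
    rw [← h2]
    exact congrArg _ (Subtype.ext (by simp [mul_assoc]))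
  refine ⟨q, Qb, h, hK, hshape, hn, hZ2, fun a ha => L.sq ha, fun a ha b hb => L.commute ha hb,
    fun y hy a ha => hSA _ ((hQmem y).1 hy) a ha, hmemZ, honto, hact, hho, hbN, ?_, htor, hform, hdelta⟩
  refine Coprime.mem_normalizer_of_forall fun a ha => ?_
  obtain ⟨b, hb', hf⟩ := hact a ha
  have hhf : (h : X) * (b⁻¹ * a) * (h : X)⁻¹ = b⁻¹ * a := by
    rw [mem_centralizer_iff.1 hf.2 h h.2, mul_inv_cancel_right]
  rw [show (h : X) * a * (h : X)⁻¹
    = ((h : X) * b * (h : X)⁻¹) * ((h : X) * (b⁻¹ * a) * (h : X)⁻¹) by group, hhf]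
  exact A.mul_mem (by simpa using hhA ⟨b, hb'.2⟩ hb'.1) hf.1

end Cfsg.Agent.Goldschmidt.General
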