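import Cfsg.Agent.Lib.Goldschmidt.General.Defs
import Cfsg.Agent.Lib.Goldschmidt.ThreeInv.Statement
import Cfsg.Prelude.Def_Classical
import Cfsg.Prelude.Def_Sz

/-!
# Goldschmidt's theorem S1169, general case: the pieces (owner: helper29; proofs in `GENERAL.md`)

Each piece is a `Prop`; the file in brackets proves it as a theorem of the same name in lower camel case.
-/

set_option autoImplicit false
set_option linter.unusedSectionVars false

namespace Cfsg.Agent.Goldschmidt.General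

open Cfsg Subgroup

universe u

/-- The three families give `RankFacts`  [`RankFacts.lean`]. -/
def RankTarget : Prop :=
  ∀ (L : Type u) [Group L] [Finite L], IsSimpleGroup L →
    ((∃ (F : Type) (_ : Field F) (_ : Fintype F) (n : ℕ), 2 ≤ n ∧ Fintype.card F = 2 ^ n ∧
        Nonempty (L ≃* Matrix.ProjectiveSpecialLinearGroup (Fin 2) F)) ∨
      Cfsg.Lie.IsoSuzuki L ∨
      (∃ (F : Type) (_ : Field F) (_ : Fintype F) (n : ℕ), 2 ≤ n ∧ Fintype.card F = (2 ^ n) ^ 2 ∧
        Nonempty (L ≃* Cfsg.PSU 3 F (2 ^ n)))) →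
    ∃ q : ℕ, RankFacts L q

/-- Elementary Sylow subgroup of order at most eight, no strongly embedded subgroup [`SmallFacts.lean`]. -/
def SmallTarget : Prop :=
  Aschbacher.CoreFreeCriterion.{u} → ∀ (L : Type u) [Group L] [Finite L], IsSimpleGroup L →
    (∃ a b : L, a * b ≠ b * a) → ¬ HasStronglyEmbedded L → ∀ S : Sylow 2 L,
    Cfsg.IsElementaryAbelian 2 (S : Subgroup L) → Nat.card ↥(S : Subgroup L) ≤ 8 →
    ∃ q : ℕ, SmallFacts L q

/-- In a simple group with elementary Sylow subgroup a minimal strongly closed subgroup is the whole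
Sylow subgroup [`ElemSylow.lean`]. -/
def ElemSylowTarget : Prop :=
  ∀ (G : Type u) [Group G] [Finite G] (S : Sylow 2 G) (A : Subgroup G), Ctx G S A →
    Cfsg.IsElementaryAbelian 2 (S : Subgroup G) → A = (S : Subgroup G)

/-- The conclusions for local groups [`Local.lean`]. -/
def LocalTarget : Prop :=
  ∀ (X : Type u) [Group X] [Finite X] (T : Set X) (A : Subgroup X), Local X T A → LocalFacts A

/-- All moved components are simple [`Covers.lean`]. -/
def SimpleCompsTarget : Prop :=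
  ∀ (G : Type u) [Group G] [Finite G] (S : Sylow 2 G) (A : Subgroup G),
    Ctx G S A → LocalsHold A → SimpleComps A

/-- The top components form blocks [`Geometry.lean`]. -/
def TopBlocksTarget : Prop :=
  ∀ (G : Type u) [Group G] [Finite G] (S : Sylow 2 G) (A : Subgroup G),
    Ctx G S A → LocalsHold A → SimpleComps A →
    (∃ (a : G) (K : Subgroup (Bar a)) (r : ℕ), MovedAt A a K r) →
    ∃ (q : ℕ) (ℬ : Set (Subgroup G × Subgroup G)), TopBlocks A q ℬ

/-- No irreducible block system with small fixers [`SmallBlocks.lean`]. -/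
def SmallBlocksTarget : Prop :=
  ∀ (V : Type u) [Group V] [Finite V] (N : Subgroup (MulAut V)) (ℬ : Set (Subgroup V × Subgroup V))
    (d e : ℕ), (∀ x : V, x * x = 1) → (¬ ∃ H : Subgroup N, H.Normal ∧ H.index = 2) →
    (∀ W : Subgroup V, (∀ g ∈ N, ∀ w ∈ W, g w ∈ W) → W = ⊥ ∨ W = ⊤) →
    ℬ.Nonempty → 2 ≤ d → d ≤ e →
    (∀ B ∈ ℬ, Nat.card ↥B.1 = 2 ^ d ∧ Nat.card ↥B.2 = 2 ^ e ∧ B.1 ⊔ B.2 = ⊤ ∧ B.1 ⊓ B.2 = ⊥) →
    (∀ B ∈ ℬ, ∀ g ∈ N, (B.1.map g.toMonoidHom, B.2.map g.toMonoidHom) ∈ ℬ) →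
    (∀ B ∈ ℬ, ∀ B' ∈ ℬ, B.1 = B'.1 → B = B') →
    (∀ B ∈ ℬ, ∀ B' ∈ ℬ, B.1 ≠ B'.1 → B.1 ⊓ B'.1 = ⊥) →
    (∀ B ∈ ℬ, ∃ y ∈ N, (∀ c ∈ B.1, y c = c) ∧ (∀ p ∈ B.2, y p ∈ B.2) ∧
      (∀ x ∈ B.2, ∀ z ∈ B.2, x ≠ 1 → z ≠ 1 → ∃ k : ℕ, (y ^ k) x = z) ∧
      ∀ g ∈ N, B.1.map g.toMonoidHom = B.1 → ∃ k : ℕ, g * y * g⁻¹ = y ^ k) →
    False

/-- Either a frame exists, or `|A| = 8` and the top components are of parameter four with odd automiser
[`MakeFrame.lean`]. -/
def MakeFrameTarget : Prop :=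
  ∀ (G : Type u) [Group G] [Finite G] (S : Sylow 2 G) (A : Subgroup G),
    Ctx G S A → LocalsHold A → SimpleComps A → 8 ≤ Nat.card ↥A →
    (∃ (k : ℕ) (Ps : Set (Subgroup G)), Frame A k Ps) ∨
      (Nat.card ↥A = 8 ∧ (∃ ℬ : Set (Subgroup G × Subgroup G), TopBlocks A 4 ℬ) ∧
        (S : Subgroup G) ≤ centralizer (A : Set G))

/-- The signalizer functor [`Functor.lean`]. -/
def FunctorTarget : Prop :=
  Aschbacher.CoreFreeCriterion.{u} → ∀ (G : Type u) [Group G] [Finite G] (S : Sylow 2 G)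
    (A : Subgroup G), Ctx G S A → LocalsHold A → ∀ (k : ℕ) (Ps : Set (Subgroup G)), Frame A k Ps →
    HasStronglyEmbedded G ∨ DeltaTrivial A k

/-- The layers, when the signalizers are trivial [`Layers.lean`]. -/
def LayersTarget : Prop :=
  Aschbacher.CoreFreeCriterion.{u} → ∀ (G : Type u) [Group G] [Finite G] (S : Sylow 2 G)
    (A : Subgroup G), Ctx G S A → LocalsHold A → ∀ (k : ℕ) (Ps : Set (Subgroup G)), Frame A k Ps →
    DeltaTrivial A k → HasStronglyEmbedded G

/-- `|A| = 8` with components of parameter four: the Sylow subgroup is elementary [`Exceptional.lean`]. -/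
def ExceptionalTarget : Prop :=
  ∀ (G : Type u) [Group G] [Finite G] (S : Sylow 2 G) (A : Subgroup G),
    Ctx G S A → LocalsHold A → Nat.card ↥A = 8 → (S : Subgroup G) ≤ centralizer (A : Set G) →
    ∀ ℬ : Set (Subgroup G × Subgroup G), TopBlocks A 4 ℬ →
    Cfsg.IsElementaryAbelian 2 (S : Subgroup G) ∧ Nat.card ↥(S : Subgroup G) = 8

/-- The hypotheses of the corner: a four group in `Φ(S)` with an involution of `S` outside it. -/
structure CornerHyp (G : Type u) [Group G] [Finite G] (S : Sylow 2 G) (A : Subgroup G) : Prop where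
  ctx : Ctx G S A
  four : Nat.card ↥A = 4
  central : (S : Subgroup G) ≤ centralizer (A : Set G)
  frattini : A.subgroupOf (S : Subgroup G) ≤ _root_.frattini ↥(S : Subgroup G)
  outside : ∃ e ∈ (S : Subgroup G), e * e = 1 ∧ e ∉ A

/-- The corner of the case `|A| = 4` [`Corner.lean`]. -/
def CornerTarget : Prop :=
  Aschbacher.CoreFreeCriterion.{u} → ∀ (G : Type u) [Group G] [Finite G] (S : Sylow 2 G)
    (A : Subgroup G), CornerHyp G S A → LocalsHold A → HasStronglyEmbedded G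

end Cfsg.Agent.Goldschmidt.General
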