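import Cfsg.Agent.Lib.Goldschmidt.General.Setup
import Cfsg.Agent.Lib.Goldschmidt.General.Targets
import Cfsg.Agent.Lib.ZStarPrimePower.Proved
import Cfsg.Agent.Lib.ZStar.Apply
import Cfsg.Agent.Lib.AbelianSylowTwo.RankTwo
import Cfsg.Agent.Lib.BrauerHomo.Local

/-!
# `|A| ≤ 4` (owner: helper29)

* `ReduceTarget` : the two cases `A ⊓ Φ(S) = 1`, `A ≤ Φ(S)`
* `Ctx.four_le`  : `4 ≤ |A|`
* `Ctx.sylow_le_centralizer_of_four` : `|A| = 4` gives `S ≤ C(A)`
* `fourCase`     : `|A| = 4`: strongly embedded or `S = A`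
-/

set_option autoImplicit false
set_option linter.unusedSectionVars false
set_option linter.style.haveILetI false

namespace Cfsg.Agent.Goldschmidt.General

open Cfsg Subgroup

universe u

/-- Either `A ≤ Φ(S)` or `S` is elementary abelian, when `S` centralises `A` [`Reduce.lean`]. -/
def ReduceTarget : Prop :=
  ∀ (G : Type u) [Group G] [Finite G] (S : Sylow 2 G) (A : Subgroup G), Ctx G S A →
    (S : Subgroup G) ≤ centralizer (A : Set G) →
    A.subgroupOf (S : Subgroup G) ≤ _root_.frattini ↥(S : Subgroup G) ∨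
      Cfsg.IsElementaryAbelian 2 (S : Subgroup G)

namespace Ctx

variable {G : Type u} [Group G] [Finite G] {S : Sylow 2 G} {A : Subgroup G} (C : Ctx G S A)
include C

theorem four_le : 4 ≤ Nat.card ↥A := by
  haveI : Fact (Nat.Prime 2) := ⟨Nat.prime_two⟩
  obtain ⟨k, hk⟩ := C.two.exists_card_eq
  by_contra hlt
  have hk2 : k < 2 := by
    by_contra h
    exact hlt (hk ▸ (show 2 ^ 2 ≤ 2 ^ k from Nat.pow_le_pow_right (by norm_num) (by omega)))
  have hk1 : k = 1 := by
    rcases Nat.eq_zero_or_pos k with h0 | h0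
    · exact absurd (card_eq_one.1 (by rw [hk, h0, pow_zero])) C.ne
    · omega
  obtain ⟨a, ha, ha1⟩ := (bot_or_exists_ne_one A).resolve_left C.ne
  have hord : orderOf a = 2 := orderOf_eq_prime (by rw [pow_two, C.sq ha]) ha1
  have hA : zpowers a = A := eq_of_le_of_card_ge (zpowers_le.2 ha)
    (by rw [Nat.card_zpowers, hord, hk, hk1, pow_one])
  have hiso := ZStar.isolated_of_sylow S hord (C.le ha) fun g hg => by
    have h1 : g * a * g⁻¹ ∈ zpowers a := by rw [hA]; exact C.closed.2 a ha g hg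
    obtain ⟨j, hj⟩ := mem_zpowers_iff.1 h1
    rcases Int.even_or_odd j with ⟨i, hi⟩ | ⟨i, hi⟩
    · rw [hi, ← two_mul, zpow_mul, zpow_ofNat, pow_two, C.sq ha, one_zpow] at hj
      exact absurd (conj_eq_one_iff.1 hj.symm) ha1
    · rw [hi, zpow_add, zpow_mul, zpow_ofNat, pow_two, C.sq ha, one_zpow, one_mul, zpow_one] at hj
      exact hj.symm
  have hz := ZStar.isolated_mem_center ZStarPrimePower.uniqueInvolutionZStar_proved hiso C.core_eq_bot
  rw [C.center_eq_bot, mem_bot] at hz
  exact ha1 hz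

/-- The 2-elements of the normaliser of a four group centralise it. -/
theorem sylow_le_centralizer_of_four (h4 : Nat.card ↥A = 4) :
    (S : Subgroup G) ≤ centralizer (A : Set G) := by
  classical
  haveI : Fact (Nat.Prime 2) := ⟨Nat.prime_two⟩
  set N := normalizer (A : Set G) with hN
  let Ω := {v : ↥(A.subgroupOf N) // v ≠ 1}
  haveI : Finite Ω := Subtype.finite
  haveI : Fintype Ω := Fintype.ofFinite Ω
  have hΩ : Fintype.card Ω = 3 := by
    have h1 : Nat.card Ω = Nat.card ↥(A.subgroupOf N) - 1 := by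
      have := Set.ncard_compl ({1} : Set ↥(A.subgroupOf N))
      rw [Set.ncard_singleton, ← Nat.card_coe_set_eq] at this
      exact this
    rw [Nat.card_congr (subgroupOfEquivOfLe le_normalizer).toEquiv, h4, Nat.card_eq_fintype_card] at h1
    exact h1
  let φ : ↥N →* MulAut ↥(A.subgroupOf N) := MulAut.conjNormal
  let ρ : ↥N →* Equiv.Perm Ω :=
    { toFun := fun n => Equiv.Perm.subtypePerm (p := fun v : ↥(A.subgroupOf N) => v ≠ 1) (φ n).toEquiv
        fun v => by simp
      map_one' := Equiv.ext fun v => Subtype.ext (by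
        show (φ 1) v.1 = v.1
        rw [map_one]; rfl)
      map_mul' := fun n m => Equiv.ext fun v => Subtype.ext (by
        show (φ (n * m)) v.1 = φ n (φ m v.1)
        rw [map_mul]; rfl) }
  have heven : ∀ n : ↥N, Equiv.Perm.sign (ρ n) = 1 := fun n => by
    by_contra hne
    refine C.no_index_two (Equiv.Perm.sign.comp ρ).ker ?_
    have hs : Function.Surjective (Equiv.Perm.sign.comp ρ) := fun z => by
      rcases Int.units_eq_one_or z with rfl | rfl
      · exact ⟨1, map_one _⟩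
      · exact ⟨n, (Int.units_eq_one_or _).resolve_left hne⟩
    rw [index_ker, MonoidHom.range_eq_top.2 hs, card_top, Nat.card_eq_fintype_card, Fintype.card_units_int]
  intro s hs
  have hsN : s ∈ N := C.sylow_le_normalizer hs
  obtain ⟨k, hk⟩ := S.isPGroup' ⟨s, hs⟩
  have hk' : (⟨s, hsN⟩ : ↥N) ^ 2 ^ k = 1 := Subtype.ext (congrArg Subtype.val hk :)
  have hdvd : orderOf (ρ ⟨s, hsN⟩) ∣ 2 ^ k := orderOf_dvd_of_pow_eq_one (by
    rw [← map_pow, hk', map_one])
  have hmem : ρ ⟨s, hsN⟩ ∈ alternatingGroup Ω := Equiv.Perm.mem_alternatingGroup.2 (heven _)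
  have h3 : orderOf (ρ ⟨s, hsN⟩) ∣ 3 := by
    haveI : Nontrivial Ω := Fintype.one_lt_card_iff_nontrivial.1 (by rw [hΩ]; norm_num)
    have h1 := orderOf_dvd_natCard (⟨_, hmem⟩ : alternatingGroup Ω)
    rw [← Subgroup.orderOf_coe, Nat.card_eq_fintype_card] at h1
    have h2 := two_mul_card_alternatingGroup (α := Ω)
    rw [Fintype.card_perm, hΩ, show Nat.factorial 3 = 6 from rfl] at h2
    rwa [show Fintype.card (alternatingGroup Ω) = 3 by omega] at h1
  have hone : ρ ⟨s, hsN⟩ = 1 := orderOf_eq_one_iff.1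
    (Nat.eq_one_of_dvd_coprimes (Nat.Coprime.pow_left k (by norm_num : Nat.Coprime 2 3)) hdvd h3)
  refine mem_centralizer_iff.2 fun a ha => ?_
  rcases eq_or_ne a 1 with rfl | ha1
  · simp
  let v : Ω := ⟨⟨⟨a, le_normalizer ha⟩, mem_subgroupOf.2 ha⟩, fun e => ha1 (congrArg (fun z : ↥(A.subgroupOf N) => ((z : ↥N) : G)) e)⟩
  have h1 : φ ⟨s, hsN⟩ v.1 = v.1 := congrArg Subtype.val (Equiv.congr_fun hone v)
  have h2 := congrArg (fun z : ↥(A.subgroupOf N) => ((z : ↥N) : G)) h1
  simp only [φ, MulAut.conjNormal_apply] at h2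
  exact (mul_inv_eq_iff_eq_mul.1 h2).symm

end Ctx

/-- The case `|A| = 4`. -/
theorem fourCase (hR : ReduceTarget.{u}) (hE : ElemSylowTarget.{u}) (hT : ThreeInv.ThreeInvTarget.{u})
    (hK : CornerTarget.{u}) (hC : Aschbacher.CoreFreeCriterion.{u}) {G : Type u} [Group G] [Finite G]
    {S : Sylow 2 G} {A : Subgroup G} (C : Ctx G S A) (hL : LocalsHold A) (h4 : Nat.card ↥A = 4) :
    HasStronglyEmbedded G ∨
      (Cfsg.IsElementaryAbelian 2 (S : Subgroup G) ∧ Nat.card ↥(S : Subgroup G) ≤ 8) := by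
  haveI : Fact (Nat.Prime 2) := ⟨Nat.prime_two⟩
  haveI := C.simple
  have hcent := C.sylow_le_centralizer_of_four h4
  rcases hR G S A C hcent with hfr | hel
  swap
  · exact Or.inr ⟨hel, by rw [← hE G S A C hel, h4]; norm_num⟩
  left
  by_cases hout : ∃ e ∈ (S : Subgroup G), e * e = 1 ∧ e ∉ A
  · exact hK hC G S A ⟨C, h4, hcent, hfr, hout⟩ hL
  have hmem : ∀ x ∈ (S : Subgroup G), x * x = 1 ↔ x ∈ A := fun x hx =>
    ⟨fun h => by_contra fun h' => hout ⟨x, hx, h, h'⟩, fun h => C.sq h⟩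
  by_cases hab : IsMulCommutative ↥(S : Subgroup G)
  swap
  · exact hT G S A ⟨h4, C.le, hmem, hcent, hab⟩
  exfalso
  have hrank : Cfsg.PRankLE 2 2 ↥(S : Subgroup G) := by
    intro B _ hB
    have hle : B.map (S : Subgroup G).subtype ≤ A := by
      rintro _ ⟨b, hb, rfl⟩
      exact (hmem b b.2).1 (by simpa [pow_two] using congrArg Subtype.val (hB b hb))
    have h1 := Subgroup.card_le_of_le hle
    rw [Nat.card_congr (B.equivMapOfInjective _ (subtype_injective _)).toEquiv.symm, h4] at h1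
    simpa using h1
  have hSne : (S : Subgroup G) ≠ ⊤ := fun e => C.normalizer_ne_top
    (top_unique (e ▸ C.sylow_le_normalizer))
  rcases AbelianSylowTwo.rankLE_two_cases C.core_eq_bot S hab hrank with
    h | h | ⟨m, hm, ⟨e⟩⟩
  · exact hSne h
  · haveI := h
    have hcard : Nat.card ↥(S : Subgroup G) = 4 := IsKleinFour.card_four
    have hAS : A = (S : Subgroup G) := Subgroup.eq_of_le_of_card_ge C.le (by rw [hcard, h4])
    have htop : _root_.frattini ↥(S : Subgroup G) = ⊤ := top_le_iff.1 (by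
      rw [← subgroupOf_self (S : Subgroup G)]
      calc (S : Subgroup G).subgroupOf (S : Subgroup G) = A.subgroupOf (S : Subgroup G) := by rw [hAS]
        _ ≤ _ := hfr)
    haveI : Nontrivial ↥(S : Subgroup G) := Finite.one_lt_card_iff_nontrivial.1 (by rw [hcard]; norm_num)
    obtain ⟨M, hM, -⟩ := (eq_top_or_exists_le_coatom (⊥ : Subgroup ↥(S : Subgroup G))).resolve_left bot_ne_top
    exact hM.1 (top_unique (htop ▸ frattini_le_coatom hM))
  · have hn := BrauerHomo.normal_of_homocyclic hm _ G rfl S e fun N hN hodd =>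
      hN.eq_bot_or_eq_top.resolve_right fun e' => by
        subst e'
        rw [card_top] at hodd
        exact (Nat.not_even_iff_odd.2 hodd) (even_iff_two_dvd.2
          ((show 2 ∣ Nat.card ↥A by rw [h4]; norm_num).trans (card_subgroup_dvd_card A)))
    rcases hn.eq_bot_or_eq_top with h | h
    · exact C.ne (le_bot_iff.1 (h ▸ C.le))
    · exact hSne h

end Cfsg.Agent.Goldschmidt.General
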