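import Cfsg.Agent.Lib.Goldschmidt.General.Setup
import Cfsg.Agent.Lib.Goldschmidt.General.Four
import Cfsg.Agent.Lib.Goldschmidt.General.Targets
import Cfsg.Agent.Lib.ClosedPair.Product
import Cfsg.Agent.Lib.PGroup.Basic
import Cfsg.Agent.Lib.TwoFusion.Transfer

/-!
# `A` and the Frattini subgroup of a centralising Sylow subgroup (owner: helper64)

For `Ctx G S A` with `S ≤ C(A)`:

* `Ctx.frattini_inf_or_le` : `A ∩ Φ(S) = 1` or `A ≤ Φ(S)`
* `Ctx.sq_eq_one_of_frattini_inf` : if `A ∩ Φ(S) = 1` then the squares of `S` are trivial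
* `Ctx.elementary_of_frattini_inf` : so `S` is elementary abelian
* `Ctx.eq_of_frattini_inf` : and `A = S`, given `ElemSylowTarget`
* `reduceTarget` : `A ≤ Φ(S)` or `S` is elementary abelian
-/

set_option autoImplicit false
set_option linter.unusedSectionVars false
set_option linter.style.haveILetI false

namespace Cfsg.Agent.Goldschmidt.General

open Cfsg Subgroup
open scoped commutatorElement

universe u

namespace Ctx

variable {G : Type u} [Group G] [Finite G] {S : Sylow 2 G} {A : Subgroup G} (C : Ctx G S A)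
  (hS : (S : Subgroup G) ≤ centralizer (A : Set G))
include C hS

/-- Every element of `N(A)` is, modulo `C(A)`, in `N(S)`. -/
theorem exists_cent_mul_normalizer {n : G} (hn : n ∈ normalizer (A : Set G)) :
    ∃ c ∈ centralizer (A : Set G), ∀ s ∈ (S : Subgroup G), (c * n) * s * (c * n)⁻¹ ∈ (S : Subgroup G) := by
  haveI : Fact (Nat.Prime 2) := ⟨Nat.prime_two⟩
  set M := centralizer (A : Set G)
  have hle : ((n • S : Sylow 2 G) : Subgroup G) ≤ M := by
    intro x hx
    rw [Sylow.coe_subgroup_smul, Coprime.mem_conj] at hx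
    refine mem_centralizer_iff.2 fun a ha => ?_
    have h1 := mem_centralizer_iff.1 (hS hx) (n⁻¹ * a * n) (by
      have := (mem_normalizer_iff.1 (inv_mem hn) a).1 ha
      rwa [inv_inv] at this)
    calc a * x = n * ((n⁻¹ * a * n) * (n⁻¹ * x * n)) * n⁻¹ := by group
      _ = n * ((n⁻¹ * x * n) * (n⁻¹ * a * n)) * n⁻¹ := by rw [h1]
      _ = x * a := by group
  obtain ⟨c, hc⟩ := MulAction.exists_smul_eq ↥M ((n • S : Sylow 2 G).subtype hle) (S.subtype hS)
  refine ⟨c, c.2, fun s hs => ?_⟩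
  have h1 : n * s * n⁻¹ ∈ ((n • S : Sylow 2 G) : Subgroup G) := by
    rw [Sylow.coe_subgroup_smul, Coprime.mem_conj]
    simpa [mul_assoc] using hs
  have h2 : (⟨(c : G) * (n * s * n⁻¹) * (c : G)⁻¹, mul_mem (mul_mem c.2 (hle h1)) (inv_mem c.2)⟩ : ↥M) ∈
      ((S.subtype hS : Sylow 2 ↥M) : Subgroup ↥M) := by
    rw [← hc, Sylow.coe_subgroup_smul, Coprime.mem_conj]
    show c⁻¹ * _ * c ∈ (((n • S : Sylow 2 G) : Subgroup G)).subgroupOf M
    rw [mem_subgroupOf]
    simpa [mul_assoc] using h1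
  have h3 : (c : G) * (n * s * n⁻¹) * (c : G)⁻¹ ∈ (S : Subgroup G) := h2
  rwa [show (c : G) * n * s * ((c : G) * n)⁻¹ = (c : G) * (n * s * n⁻¹) * (c : G)⁻¹ by group]

/-- `A ∩ Φ(S) = 1` or `A ≤ Φ(S)`. -/
theorem frattini_inf_or_le :
    A.subgroupOf (S : Subgroup G) ⊓ _root_.frattini ↥(S : Subgroup G) = ⊥ ∨
      A.subgroupOf (S : Subgroup G) ≤ _root_.frattini ↥(S : Subgroup G) := by
  set Φ := _root_.frattini ↥(S : Subgroup G)
  set B := (A.subgroupOf (S : Subgroup G) ⊓ Φ).map (S : Subgroup G).subtype with hB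
  have hBA : B ≤ A := by
    rintro _ ⟨x, hx, rfl⟩
    exact mem_subgroupOf.1 hx.1
  have hN : normalizer (A : Set G) ≤ normalizer (B : Set G) := by
    intro n hn
    refine Coprime.mem_normalizer_of_forall ?_
    rintro _ ⟨x, hx, rfl⟩
    obtain ⟨c, hc, hcn⟩ := C.exists_cent_mul_normalizer hS hn
    have hxA : (x : G) ∈ A := mem_subgroupOf.1 hx.1
    have hnxA : n * x * n⁻¹ ∈ A := (mem_normalizer_iff.1 hn _).1 hxA
    have hg : c * n ∈ normalizer ((S : Subgroup G) : Set G) := Coprime.mem_normalizer_of_forall hcn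
    let α : MulAut ↥(S : Subgroup G) := (S : Subgroup G).normalizerMonoidHom ⟨c * n, hg⟩
    have hα : ((α x : ↥(S : Subgroup G)) : G) = n * x * n⁻¹ := by
      show c * n * x * (c * n)⁻¹ = _
      rw [show c * n * x * (c * n)⁻¹ = c * (n * x * n⁻¹) * c⁻¹ by group,
        ← mem_centralizer_iff.1 hc _ hnxA, mul_inv_cancel_right]
    refine ⟨α x, ⟨?_, ?_⟩, hα⟩
    · show α x ∈ A.subgroupOf (S : Subgroup G)
      rw [mem_subgroupOf, hα]
      exact hnxA
    · have : Φ.map α.toMonoidHom = Φ := Subgroup.characteristic_iff_map_eq.1 inferInstance α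
      exact this.le ⟨x, hx.2, rfl⟩
  rcases C.irred B hBA hN with h | h
  · exact Or.inl ((map_eq_bot_iff_of_injective _ (S : Subgroup G).subtype_injective).1 h)
  · refine Or.inr fun x hx => ?_
    obtain ⟨y, hy, he⟩ := h.ge (mem_subgroupOf.1 hx)
    exact (Subtype.ext he : y = x) ▸ hy.2

/-- If `A ∩ Φ(S) = 1` the squares of `S` are trivial. -/
theorem sq_eq_one_of_frattini_inf
    (hΦ : A.subgroupOf (S : Subgroup G) ⊓ _root_.frattini ↥(S : Subgroup G) = ⊥) {s : G}
    (hs : s ∈ (S : Subgroup G)) : s * s = 1 := by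
  haveI : Fact (Nat.Prime 2) := ⟨Nat.prime_two⟩
  set M := centralizer (A : Set G)
  -- the subgroup generated by the squares
  set K := closure {g : G | ∃ x ∈ M, g = x * x}
  have hKM : K ≤ M := (closure_le _).2 fun g ⟨x, hx, he⟩ => he ▸ mul_mem hx hx
  have hKn : ∀ n ∈ normalizer (A : Set G), ∀ k ∈ K, n * k * n⁻¹ ∈ K := by
    intro n hn k hk
    induction hk using closure_induction with
    | mem g hg =>
      obtain ⟨x, hx, rfl⟩ := hg
      refine subset_closure ⟨n * x * n⁻¹, mem_centralizer_iff.2 fun a ha => ?_, by group⟩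
      have h1 := mem_centralizer_iff.1 hx (n⁻¹ * a * n) (by
        have := (mem_normalizer_iff.1 (inv_mem hn) a).1 ha
        rwa [inv_inv] at this)
      calc a * (n * x * n⁻¹) = n * ((n⁻¹ * a * n) * x) * n⁻¹ := by group
        _ = n * (x * (n⁻¹ * a * n)) * n⁻¹ := by rw [h1]
        _ = n * x * n⁻¹ * a := by group
    | one => simp
    | mul a b _ _ ha hb =>
      rw [show n * (a * b) * n⁻¹ = (n * a * n⁻¹) * (n * b * n⁻¹) by group]
      exact mul_mem ha hb
    | inv a _ ha =>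
      rw [show n * a⁻¹ * n⁻¹ = (n * a * n⁻¹)⁻¹ by group]
      exact inv_mem ha
  -- `A ∩ K = 1` by transfer into `S / Φ(S)`
  have hAK : A ⊓ K = ⊥ := by
    rw [eq_bot_iff]
    rintro a ⟨haA, haK⟩
    let H := (S : Subgroup G).subgroupOf M
    let e : ↥H ≃* ↥(S : Subgroup G) := subgroupOfEquivOfLe hS
    let D := _root_.frattini ↥(S : Subgroup G)
    have hsq : ∀ z : ↥(S : Subgroup G) ⧸ D, z * z = 1 := fun z => by
      induction z using QuotientGroup.induction_on with
      | H x =>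
        rw [← QuotientGroup.mk_mul, QuotientGroup.eq_one_iff, ← pow_two]
        exact PGroup.pow_mem_frattini S.isPGroup' x
    letI : CommGroup (↥(S : Subgroup G) ⧸ D) :=
      { (inferInstance : Group (↥(S : Subgroup G) ⧸ D)) with
        mul_comm := fun x y => by
          calc x * y = (x * y)⁻¹ := eq_inv_of_mul_eq_one_left (hsq _)
            _ = y⁻¹ * x⁻¹ := mul_inv_rev x y
            _ = y * x := by
              rw [inv_eq_of_mul_eq_one_right (hsq x), inv_eq_of_mul_eq_one_right (hsq y)] }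
    let φ : ↥H →* ↥(S : Subgroup G) ⧸ D := (QuotientGroup.mk' D).comp e.toMonoidHom
    let g : ↥H := ⟨⟨a, hKM haK⟩, C.le haA⟩
    have hcentral : ∀ (x : ↥M) (k : ℕ), x * (g : ↥M) ^ k * x⁻¹ = (g : ↥M) ^ k := fun x k => by
      have hc : Commute x (g : ↥M) := Subtype.ext (mem_centralizer_iff.1 x.2 a haA).symm
      rw [(hc.pow_right k).eq, mul_inv_cancel_right]
    have h1 : MonoidHom.transfer φ (g : ↥M) = φ g ^ H.index :=
      TwoFusion.transfer_eq_pow_of_controlled φ g fun k x hm => by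
        rw [← map_pow]
        exact congrArg φ (Subtype.ext (hcentral x k))
    have hker : ∀ x : ↥M, (x : G) ∈ K → MonoidHom.transfer φ x = 1 := by
      have hle : K ≤ (MonoidHom.transfer φ).ker.map M.subtype := (closure_le _).2 fun y ⟨x, hx, he⟩ =>
        ⟨⟨x, hx⟩ * ⟨x, hx⟩, MonoidHom.mem_ker.2 (by rw [map_mul]; exact hsq _), he.symm⟩
      intro x hx
      obtain ⟨y, hy, he⟩ := hle hx
      exact (Subtype.ext he : y = x) ▸ hy
    have h2 : φ g ^ H.index = 1 := h1.symm.trans (hker _ haK)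
    obtain ⟨j, hj⟩ : Odd H.index := by
      rw [← Nat.not_even_iff_odd, even_iff_two_dvd]
      exact (S.subtype hS).not_dvd_index
    have h3 : φ g = 1 := by
      rwa [hj, pow_succ, pow_mul, pow_two, hsq, one_pow, one_mul] at h2
    have h4 : (⟨a, C.le haA⟩ : ↥(S : Subgroup G)) ∈
        A.subgroupOf (S : Subgroup G) ⊓ D := ⟨haA, (QuotientGroup.eq_one_iff _).1 h3⟩
    rw [hΦ, mem_bot] at h4
    exact mem_bot.2 (congrArg Subtype.val h4)
  -- `S ∩ K` is strongly closed
  have hsc : IsStronglyClosed ((S : Subgroup G) ⊓ K) (S : Subgroup G) := by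
    refine ⟨inf_le_left, fun x hx g hg => ⟨hg, ?_⟩⟩
    obtain ⟨n, hn, he⟩ := C.agree hx.1 hg
    exact he ▸ hKn n hn x hx.2
  have hd : A ⊓ ((S : Subgroup G) ⊓ K) = ⊥ :=
    eq_bot_iff.2 fun x hx => hAK.le ⟨hx.1, hx.2.2⟩
  have hcomm : ∀ a ∈ A, ∀ b ∈ (S : Subgroup G) ⊓ K, a * b = b * a := fun a ha b hb =>
    mem_centralizer_iff.1 (hS hb.1) a ha
  have hcc := ClosedPair.commute_normalClosure S C.closed hsc hcomm hd C.core_eq_bot
  haveI := C.simple
  have htop : normalClosure (A : Set G) = ⊤ :=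
    ((normalClosure_normal (s := (A : Set G))).eq_bot_or_eq_top).resolve_left fun e =>
      C.ne (le_bot_iff.1 (e ▸ subset_normalClosure))
  rw [htop] at hcc
  have hmem : s * s ∈ (S : Subgroup G) ⊓ K := ⟨mul_mem hs hs, subset_closure ⟨s, hS hs, rfl⟩⟩
  rw [← mem_bot, ← C.center_eq_bot, mem_center_iff]
  exact fun g => (mem_centralizer_iff.1 (hcc (mem_top g)) _ (subset_normalClosure hmem)).symm

/-- If `A ∩ Φ(S) = 1` then `S` is elementary abelian. -/
theorem elementary_of_frattini_inf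
    (hΦ : A.subgroupOf (S : Subgroup G) ⊓ _root_.frattini ↥(S : Subgroup G) = ⊥) :
    Cfsg.IsElementaryAbelian 2 (S : Subgroup G) := by
  refine ⟨⟨⟨fun x y => Subtype.ext ?_⟩⟩, fun x hx => by
    rw [pow_two]; exact C.sq_eq_one_of_frattini_inf hS hΦ hx⟩
  have h := fun z (hz : z ∈ (S : Subgroup G)) => inv_eq_of_mul_eq_one_right
    (C.sq_eq_one_of_frattini_inf hS hΦ hz)
  show (x : G) * y = y * x
  calc (x : G) * y = ((x : G) * y)⁻¹ := (h _ (mul_mem x.2 y.2)).symm
    _ = (y : G)⁻¹ * (x : G)⁻¹ := mul_inv_rev _ _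
    _ = y * x := by rw [h _ x.2, h _ y.2]

/-- If `A ∩ Φ(S) = 1` then `A = S`. -/
theorem eq_of_frattini_inf (hE : ElemSylowTarget.{u})
    (hΦ : A.subgroupOf (S : Subgroup G) ⊓ _root_.frattini ↥(S : Subgroup G) = ⊥) :
    A = (S : Subgroup G) :=
  hE G S A C (C.elementary_of_frattini_inf hS hΦ)

end Ctx

/-- `A ≤ Φ(S)` or `S` is elementary abelian. -/
theorem reduceTarget : ReduceTarget.{u} := fun _ _ _ _ _ C hS =>
  (C.frattini_inf_or_le hS).symm.imp_right fun h => C.elementary_of_frattini_inf hS h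

end Cfsg.Agent.Goldschmidt.General
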