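import Cfsg.Agent.Lib.Goldschmidt.General.Targets
import Cfsg.Agent.Lib.Goldschmidt.General.Reduce
import Cfsg.Agent.Lib.Goldschmidt.General.ElemSylow
import Cfsg.Agent.Lib.Goldschmidt.General.SmallFacts.Cycle
import Cfsg.Agent.Lib.Goldschmidt.General.Exceptional.Point

/-!
# `|A| = 8` with components of parameter four (owner: helper64; section Exceptional of `GENERAL.md`)

`N(A)` permutes the members of `A` transitively, so each is the fixer of a top component and the parts
are distinct.  If `A` is in `Φ(S)` every component is of type `U₃(4)`, the parts meet as their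
preimages in `S` do, and a square root of a member of `P_b` centralises the component at `a`.

* `Ctx.exists_cycle` : an element of `N(A)` transitive on `A#` by its powers
* `Ctx.exists_pt`, `Ctx.part_ne` : a component for each member, with distinct parts
* `Ctx.false_of_frattini` : `A ≤ Φ(S)` is impossible
* `exceptionalTarget`
-/

set_option autoImplicit false
set_option linter.unusedSectionVars false
set_option linter.style.haveILetI false

namespace Cfsg.Agent.Goldschmidt.General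

open Cfsg Subgroup Exceptional
open scoped commutatorElement

universe u

namespace Ctx

variable {G : Type u} [Group G] [Finite G] {S : Sylow 2 G} {A : Subgroup G} (C : Ctx G S A)
  (hS : (S : Subgroup G) ≤ centralizer (A : Set G)) (h8 : Nat.card ↥A = 8)
  {ℬ : Set (Subgroup G × Subgroup G)} (T : TopBlocks A 4 ℬ)
include C hS h8 T

/-- The fixers have order two. -/
theorem card_block {B : Subgroup G × Subgroup G} (hB : B ∈ ℬ) : Nat.card ↥B.1 = 2 := by
  obtain ⟨hsup, hinf, hcard, -⟩ := T.compl B hB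
  have hn : B.2 ≤ normalizer (B.1 : Set G) := fun x hx => centralizer_le_normalizer _
    (mem_centralizer_iff.2 fun y hy => C.comm (hsup ▸ mem_sup_left hy) (hsup ▸ mem_sup_right hx))
  let f : ↥B.1 × ↥B.2 → ↥A := fun p => ⟨p.1 * p.2, mul_mem (hsup ▸ mem_sup_left p.1.2) (hsup ▸ mem_sup_right p.2.2)⟩
  have hf : Function.Bijective f := by
    refine ⟨fun p q h => mul_injective_of_disjoint (disjoint_iff.2 hinf) (congrArg Subtype.val h),
      fun x => ?_⟩
    have hx : (x : G) ∈ ((B.1 ⊔ B.2 : Subgroup G) : Set G) := hsup.symm ▸ x.2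
    rw [coe_mul_of_right_le_normalizer_left B.1 B.2 hn] at hx
    obtain ⟨y, hy, z, hz, e⟩ := hx
    exact ⟨(⟨y, hy⟩, ⟨z, hz⟩), Subtype.ext e⟩
  have h := Nat.card_congr (Equiv.ofBijective f hf)
  rw [Nat.card_prod, hcard, h8] at h
  omega

/-- An element of `N(A)` transitive on `A#` by its powers. -/
theorem exists_cycle : ∃ (σ : ↥(normalizer (A : Set G))),
    SmallCycle.Trans (A.normalizerMonoidHom σ) := by
  haveI : Fact (Nat.Prime 2) := ⟨Nat.prime_two⟩
  set N := normalizer (A : Set G)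
  let φ : ↥N →* MulAut ↥A := A.normalizerMonoidHom
  have hφ : ∀ (n : ↥N) (v : ↥A), ((φ n v : ↥A) : G) = (n : G) * v * (n : G)⁻¹ := fun n v => rfl
  have hle : (S : Subgroup G).subgroupOf N ≤ φ.ker := fun n hn => by
    refine MonoidHom.mem_ker.2 (MulEquiv.ext fun v => Subtype.ext ?_)
    rw [hφ, MulAut.one_apply, ← mem_centralizer_iff.1 (hS (mem_subgroupOf.1 hn)) v v.2, mul_inv_cancel_right]
  have hidx : Odd ((S : Subgroup G).subgroupOf N).index := by
    rw [← Nat.not_even_iff_odd, even_iff_two_dvd]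
    exact (S.subtype C.sylow_le_normalizer).not_dvd_index
  have hodd : Odd (Nat.card ↥φ.range) := hidx.of_dvd_nat (index_ker φ ▸ index_dvd_of_le hle)
  have hV : ∀ v : ↥A, v * v = 1 := fun v => Subtype.ext (C.sq v.2)
  have hfix : ∀ v : ↥A, (∀ σ ∈ φ.range, σ v = v) → v = 1 := by
    intro v hv
    -- the fixed elements form an invariant subgroup
    let F : Subgroup G := A ⊓ centralizer (N : Set G)
    have hN : N ≤ normalizer (F : Set G) := fun n hn => Coprime.mem_normalizer_of_forall fun x hx => by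
      rw [mem_centralizer_iff.1 hx.2 n hn, mul_inv_cancel_right]; exact hx
    rcases C.irred F inf_le_left hN with h | h
    · have hvF : (v : G) ∈ F := ⟨v.2, mem_centralizer_iff.2 fun n hn => by
        have e := congrArg Subtype.val (hv _ ⟨⟨n, hn⟩, rfl⟩)
        rw [hφ] at e
        exact mul_inv_eq_iff_eq_mul.1 e⟩
      rw [h, mem_bot] at hvF
      exact Subtype.ext hvF
    exfalso
    obtain ⟨B, hB⟩ := T.nonempty
    obtain ⟨hsup, -, hcard, -⟩ := T.compl B hB
    obtain ⟨y, hy, -, -, htr, -⟩ := T.torus B hB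
    obtain ⟨x, hx, z, hz, hx1, hz1, hxz⟩ : ∃ x ∈ B.2, ∃ z ∈ B.2, x ≠ 1 ∧ z ≠ 1 ∧ x ≠ z := by
      by_contra! hall
      obtain ⟨x, hx, hx1⟩ := (bot_or_exists_ne_one B.2).resolve_left fun e => by
        rw [e, card_bot] at hcard; norm_num at hcard
      have : Nat.card ↥B.2 ≤ Nat.card (Fin 2) := Nat.card_le_card_of_surjective (![1, ⟨x, hx⟩]) fun w => by
        by_cases hw : w = 1
        · exact ⟨0, hw.symm⟩
        · exact ⟨1, Subtype.ext (hall x hx w w.2 hx1 fun e => hw (Subtype.ext e))⟩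
      rw [hcard, Nat.card_fin] at this
      omega
    obtain ⟨k, hk⟩ := htr x hx z hz hx1 hz1
    have hxF : x ∈ F := h.symm ▸ (hsup ▸ mem_sup_right hx)
    rw [mem_centralizer_iff.1 hxF.2 (y ^ k) (pow_mem hy k), mul_inv_cancel_right] at hk
    exact hxz hk
  obtain ⟨σ, ⟨n, rfl⟩, hσ⟩ := SmallCycle.exists_trans hV (Or.inr h8) hodd hfix
  exact ⟨n, hσ⟩

/-- Every member is in the fixer of a block. -/
theorem exists_block {a : G} (ha : a ∈ A) (ha1 : a ≠ 1) : ∃ B ∈ ℬ, a ∈ B.1 := by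
  obtain ⟨B, hB⟩ := T.nonempty
  obtain ⟨hsup, -, -, hne⟩ := T.compl B hB
  obtain ⟨c, hc, hc1⟩ := (bot_or_exists_ne_one B.1).resolve_left hne
  have hcA : c ∈ A := hsup ▸ mem_sup_left hc
  obtain ⟨σ, hσ⟩ := C.exists_cycle hS h8 T
  obtain ⟨k, hk⟩ := hσ ⟨c, hcA⟩ ⟨a, ha⟩ (fun e => hc1 (congrArg Subtype.val e))
    (fun e => ha1 (congrArg Subtype.val e))
  refine ⟨_, T.conj B hB _ (σ ^ k).2, ⟨c, hc, ?_⟩⟩
  rw [← map_pow] at hk
  exact congrArg Subtype.val hk

/-- A component for each member. -/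
theorem exists_pt {B : Subgroup G × Subgroup G} (hB : B ∈ ℬ) {a : G} (ha : a ∈ B.1) (ha1 : a ≠ 1) :
    ∃ M : Subgroup (Bar a), Pt A a M B.2 := by
  obtain ⟨M, hM, hfix, hpart⟩ := T.everywhere B hB a ha ha1
  refine ⟨M, hM, ?_, hpart, (T.compl B hB).2.2.1⟩
  rw [hfix]
  refine (eq_of_le_of_card_ge (zpowers_le.2 ha) (le_of_eq ?_)).symm
  rw [C.card_block hS h8 T hB, Nat.card_zpowers, orderOf_eq_prime (p := 2) ?_ ha1]
  rw [pow_two]
  exact C.sq hM.mem

/-- Different members have different parts. -/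
theorem part_ne {B B' : Subgroup G × Subgroup G} (hB : B ∈ ℬ) (hB' : B' ∈ ℬ) {a b : G}
    (ha : a ∈ B.1) (hb : b ∈ B'.1) (ha1 : a ≠ 1) (hb1 : b ≠ 1) (hab : a ≠ b) : B.2 ≠ B'.2 := by
  intro he
  obtain ⟨hsup, -, hcard, -⟩ := T.compl B hB
  have haA : a ∈ A := hsup ▸ mem_sup_left ha
  have hbA : b ∈ A := (T.compl B' hB').1 ▸ mem_sup_left hb
  obtain ⟨σ, hσ⟩ := C.exists_cycle hS h8 T
  obtain ⟨k, hk⟩ := hσ ⟨a, haA⟩ ⟨b, hbA⟩ (fun e => ha1 (congrArg Subtype.val e))
    (fun e => hb1 (congrArg Subtype.val e))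
  set τ := A.normalizerMonoidHom σ ^ k
  have hτ1 : τ ≠ 1 := fun e => hab (congrArg Subtype.val (show (⟨a, haA⟩ : ↥A) = ⟨b, hbA⟩ by
    rw [← hk, e, MulAut.one_apply]))
  have hord : orderOf (A.normalizerMonoidHom σ) = 7 := by
    rw [SmallCycle.orderOf_of_trans (Or.inr h8) hσ, h8]
  have hτ : SmallCycle.Trans τ := SmallCycle.trans_of_orderOf (Or.inr h8) (by
    rw [h8]
    haveI : Fact (Nat.Prime 7) := ⟨by norm_num⟩
    refine orderOf_eq_prime ?_ hτ1
    rw [← pow_mul, mul_comm, pow_mul, show (8 : ℕ) - 1 = 7 from rfl, ← hord, pow_orderOf_eq_one, one_pow])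
  have hτn : ∀ v : ↥A, ((τ v : ↥A) : G) = ((σ ^ k : ↥(normalizer (A : Set G))) : G) * v *
      ((σ ^ k : ↥(normalizer (A : Set G))) : G)⁻¹ := fun v => by
    show (((A.normalizerMonoidHom σ ^ k) v : ↥A) : G) = _
    rw [← map_pow]
    rfl
  set g := ((σ ^ k : ↥(normalizer (A : Set G))) : G)
  -- the element carrying `a` to `b` fixes the part
  have hconj := T.conj B hB g (σ ^ k).2
  have hbg : b ∈ B.1.map (MulAut.conj g).toMonoidHom :=
    ⟨a, ha, (hτn ⟨a, haA⟩).symm.trans (congrArg Subtype.val hk)⟩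
  have hfst : B.1.map (MulAut.conj g).toMonoidHom = B'.1 := by
    have h1 : zpowers b = B.1.map (MulAut.conj g).toMonoidHom := eq_of_le_of_card_ge (zpowers_le.2 hbg)
      (le_of_eq (by
        rw [C.card_block hS h8 T hconj, Nat.card_zpowers, orderOf_eq_prime (p := 2) (by rw [pow_two]; exact C.sq hbA) hb1]))
    have h2 : zpowers b = B'.1 := eq_of_le_of_card_ge (zpowers_le.2 hb)
      (le_of_eq (by
        rw [C.card_block hS h8 T hB', Nat.card_zpowers, orderOf_eq_prime (p := 2) (by rw [pow_two]; exact C.sq hbA) hb1]))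
    rw [← h1, h2]
  have hsnd : B.2.map (MulAut.conj g).toMonoidHom = B.2 := by
    exact (congrArg Prod.snd (T.func _ hconj B' hB' hfst)).trans he.symm
  obtain ⟨x, hx, hx1⟩ := (bot_or_exists_ne_one B.2).resolve_left fun e => by
    rw [e, card_bot] at hcard; norm_num at hcard
  have hxA : x ∈ A := hsup ▸ mem_sup_right hx
  have hall : A ≤ B.2 := by
    intro y hy
    by_cases hy1 : y = 1
    · exact hy1 ▸ one_mem _
    obtain ⟨j, hj⟩ := hτ ⟨x, hxA⟩ ⟨y, hy⟩ (fun e => hx1 (congrArg Subtype.val e))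
      (fun e => hy1 (congrArg Subtype.val e))
    have hpow : ∀ i : ℕ, (((τ ^ i) ⟨x, hxA⟩ : ↥A) : G) ∈ B.2 := by
      intro i
      induction i with
      | zero => simpa using hx
      | succ i ih =>
        rw [pow_succ', MulAut.mul_apply, hτn]
        exact hsnd.le ⟨_, ih, rfl⟩
    have e : (((τ ^ j) ⟨x, hxA⟩ : ↥A) : G) = y := congrArg Subtype.val hj
    rw [← e]
    exact hpow j
  have := card_le_of_le hall
  omega

/-- `A ≤ Φ(S)` is impossible. -/
theorem false_of_frattini (L : LocalsHold A)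
    (hΦ : A.subgroupOf (S : Subgroup G) ≤ _root_.frattini ↥(S : Subgroup G)) : False := by
  obtain ⟨B, hB⟩ := T.nonempty
  obtain ⟨hsup, -, hcard, hne⟩ := T.compl B hB
  obtain ⟨a, ha, ha1⟩ := (bot_or_exists_ne_one B.1).resolve_left hne
  obtain ⟨b, hb, hb1⟩ := (bot_or_exists_ne_one B.2).resolve_left fun e => by
    rw [e, card_bot] at hcard; norm_num at hcard
  have hbA : b ∈ A := hsup ▸ mem_sup_right hb
  have hab : a ≠ b := fun e => hb1 (mem_bot.1 ((T.compl B hB).2.1 ▸ ⟨e ▸ ha, hb⟩))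
  obtain ⟨B', hB', hb'⟩ := C.exists_block hS h8 T hbA hb1
  obtain ⟨M, p⟩ := C.exists_pt hS h8 T hB ha ha1
  obtain ⟨M', p'⟩ := C.exists_pt hS h8 T hB' hb' hb1
  have hne' := C.part_ne hS h8 T hB hB' ha hb' ha1 hb1 hab
  have hnle : ¬ B.2 ≤ B'.2 := fun h => hne' (eq_of_le_of_card_ge h (by rw [p.card, p'.card]))
  set Na := Top (le_cent hS p.moved.mem) M
  set Nb := Top (le_cent hS p'.moved.mem) M'
  haveI : Na.Normal := p.top_normal C hS L
  haveI : Nb.Normal := p'.top_normal C hS L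
  by_cases hflat : ∀ x ∈ Nb, (x : G) ∈ B'.2
  · exact p'.false_of_flat C hS L h8 hΦ hflat
  -- a member of `P_a` which is a commutator in both
  have hkey : ∀ x ∈ Na, (x : G) ∉ B.2 → ¬ ∀ r ∈ Na, ⁅r, x⁆ ∈ Nb := by
    intro x hx hxP h
    refine hnle fun z hz => ?_
    obtain ⟨r, hr, he⟩ := p.comm_surj C hS L hx hxP hz
    rw [he] at hz ⊢
    exact (p'.mem_part_iff C hS (p.mem_part C hz)).2 (h r hr)
  have hW : ∀ x ∈ Na, x ∈ Nb → (x : G) ∈ B.2 := fun x hxa hxb => by
    by_contra hxP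
    refine hkey x hxa hxP fun r _ => ?_
    rw [show ⁅r, x⁆ = (r * x * r⁻¹) * x⁻¹ from rfl]
    exact mul_mem (Subgroup.Normal.conj_mem inferInstance _ hxb r) (inv_mem hxb)
  -- square roots in `Nb` centralise `M`
  have hsq : ∀ y ∈ Nb, sproj (le_cent hS p.moved.mem) (y * y) ∈ centralizer (M : Set (Bar a)) := by
    intro y hy
    have hcomm : ∀ x ∈ Na, x⁻¹ * (y * x * y⁻¹) ∈ Na ∧ x⁻¹ * (y * x * y⁻¹) ∈ Nb := fun x hx =>
      ⟨mul_mem (inv_mem hx) (Subgroup.Normal.conj_mem inferInstance _ hx y), by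
        rw [show x⁻¹ * (y * x * y⁻¹) = (x⁻¹ * y * x⁻¹⁻¹) * y⁻¹ by group]
        exact mul_mem (Subgroup.Normal.conj_mem inferInstance _ hy _) (inv_mem hy)⟩
    obtain ⟨s, hs, hact, hfin⟩ := p.exists_inner C hS L (y := y) fun x hx =>
      hW _ (hcomm x hx).1 (hcomm x hx).2
    refine hfin ?_
    by_contra hsP
    refine hkey s hs hsP fun r hr => ?_
    rw [← commutatorElement_inv s r]
    refine inv_mem ?_
    rw [show ⁅s, r⁆ = (s * r * s⁻¹) * r⁻¹ from rfl, ← hact r hr,
      show y * r * y⁻¹ * r⁻¹ = y * (r * y⁻¹ * r⁻¹) by group]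
    exact mul_mem hy (Subgroup.Normal.conj_mem inferInstance _ (inv_mem hy) r)
  push Not at hflat
  have hle : B'.2 ≤ zpowers a := fun z hz => by
    obtain ⟨y, hy, he⟩ := p'.exists_sqrt C hS L hflat hz
    rw [← p.fixer]
    subst he
    exact (C.mem_pull p.moved.mem (p'.mem_part C hz)).2 (hsq y hy)
  have h := card_le_of_le hle
  rw [p'.card, Nat.card_zpowers, orderOf_eq_prime (p := 2) (by rw [pow_two]; exact C.sq p.moved.mem) ha1] at h
  omega

end Ctx

/-- `|A| = 8` with components of parameter four: the Sylow subgroup is elementary of order eight. -/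
theorem exceptionalTarget : ExceptionalTarget.{u} := by
  intro G _ _ S A C L h8 hS ℬ T
  rcases reduceTarget G S A C hS with h | h
  · exact (C.false_of_frattini hS h8 T L h).elim
  · exact ⟨h, by rw [← elemSylowTarget G S A C h]; exact h8⟩

end Cfsg.Agent.Goldschmidt.General
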