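import Cfsg.Agent.Lib.Goldschmidt.General.Pieces
import Cfsg.Agent.Lib.Goldschmidt.General.Reduce
import Cfsg.Agent.Lib.Goldschmidt.General.Exceptional
import Cfsg.Agent.Lib.Goldschmidt.General.Corner.Assembly
import Cfsg.Agent.Lib.Goldschmidt.General.Corner.Functor
import Cfsg.Agent.Lib.Goldschmidt.General.Corner.Maximal
import Cfsg.Agent.Lib.Goldschmidt.General.Corner.Eight
import Cfsg.Agent.Lib.Goldschmidt.General.Corner.Sixteen
import Cfsg.Agent.Lib.Goldschmidt.General.Corner.Module
import Cfsg.Agent.Lib.Goldschmidt.General.Corner.Good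

/-!
# Goldschmidt's theorem from the open pieces (owner: helper29)

* `remaining` : `Remaining` from the three-involution theorem
* `goldschmidt_of` : statement S1169 from them
* `cornerTarget` : the corner
-/

set_option autoImplicit false
set_option linter.unusedSectionVars false

namespace Cfsg.Agent.Goldschmidt.General

open Cfsg Subgroup

universe u

/-- The corner. -/
theorem cornerTarget : CornerTarget.{u} :=
  Corner.cornerTarget_of ⟨Corner.goodTarget, Corner.maximalTarget, Corner.eightTarget, Corner.sixteenTarget,
    Corner.cornerFunctorTarget, Corner.moduleTarget⟩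

/-- `Remaining` from the open pieces. -/
theorem remaining (hT : ThreeInv.ThreeInvTarget.{u}) : Remaining.{u} :=
  remaining_of reduceTarget exceptionalTarget hT cornerTarget

/-- Goldschmidt's theorem from the open pieces. -/
theorem goldschmidt_of (hT : ThreeInv.ThreeInvTarget.{u}) {G : Type u} [Group G]
    [Finite G] [IsSimpleGroup G] (S : Sylow 2 G) (A : Subgroup G) (hA : A ≠ ⊥) (hAcomm : IsMulCommutative A)
    (hsc : Cfsg.IsStronglyClosed A (S : Subgroup G)) :
    IsMulCommutative (S : Subgroup G) ∨ ∃ H : Subgroup G, Cfsg.IsStronglyEmbedded H :=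
  goldschmidt (remaining hT) S A hA hAcomm hsc

/-- Goldschmidt's theorem at every finite group, from the open pieces. -/
theorem mainAt_of (hT : ThreeInv.ThreeInvTarget.{u}) (G : Type u) [Group G] [Finite G] :
    MainAt G :=
  mainAt (remaining hT) G

end Cfsg.Agent.Goldschmidt.General
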