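import Cfsg.Agent.Lib.Goldschmidt.General.Targets
import Cfsg.Agent.Lib.Goldschmidt.General.SmallFacts.Cycle
import Cfsg.Agent.Lib.HallOrders.Basic
import Cfsg.Agent.Lib.ZStar.Apply
import Cfsg.Agent.Lib.ZStarPrimePower.Proved
import Cfsg.Agent.Lib.Aschbacher.Criterion
import Cfsg.Agent.Lib.SmallOrders.Basic
import Cfsg.Agent.Lib.Coprime.Basic
import Mathlib.GroupTheory.Transfer

/-!
# Simple groups with elementary Sylow subgroup of order four or eight (owner: helper64)

* `eq_one_of_central_normalizer` : transfer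
* `SmallCycle.exists_torus` : the torus
* `smallTarget` : the facts
-/

set_option autoImplicit false
set_option linter.unusedSectionVars false
set_option linter.style.haveILetI false

namespace Cfsg.Agent.Goldschmidt.General

open Cfsg Subgroup
open scoped IsMulCommutative

universe u

variable {L : Type u} [Group L] [Finite L]

/-- In a simple group an element of an abelian Sylow subgroup centralised by its normaliser is trivial. -/
theorem eq_one_of_central_normalizer (hs : IsSimpleGroup L) (hna : ∃ a b : L, a * b ≠ b * a)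
    (S : Sylow 2 L) (hS : IsMulCommutative (S : Subgroup L)) {x : L} (hx : x ∈ (S : Subgroup L))
    (hc : ∀ n ∈ normalizer ((S : Subgroup L) : Set L), n * x = x * n) : x = 1 := by
  haveI : Fact (Nat.Prime 2) := ⟨Nat.prime_two⟩
  haveI := hS
  haveI := hs
  set H := (S : Subgroup L)
  have key : ∀ (k : ℕ) (g : L), g⁻¹ * x ^ k * g ∈ H → g⁻¹ * x ^ k * g = x ^ k := fun k g hg => by
    obtain ⟨n, hn, he⟩ := S.conj_eq_normalizer_conj_of_mem (x ^ k) g (pow_mem hx k) hg
    have hnx : n * x ^ k = x ^ k * n := ((show Commute n x from hc n hn).pow_right k).eq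
    rw [he, mul_assoc, ← hnx, inv_mul_cancel_left]
  let V : L →* ↥H := MonoidHom.transfer (MonoidHom.id ↥H)
  have h1 := MonoidHom.transfer_eq_pow (MonoidHom.id ↥H) x key
  have hV : V = 1 := by
    by_contra hne
    rcases (inferInstance : V.ker.Normal).eq_bot_or_eq_top with h | h
    · obtain ⟨a, b, hab⟩ := hna
      refine hab ((MonoidHom.ker_eq_bot_iff V).1 h ?_)
      rw [map_mul, map_mul, mul_comm]
    · exact hne (MonoidHom.ext fun g => MonoidHom.mem_ker.1 (h ▸ mem_top g))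
  have h2 : V x = 1 := by rw [hV]; rfl
  have h3 : x ^ H.index = 1 := congrArg Subtype.val (h1.symm.trans h2)
  obtain ⟨n, hn⟩ := S.isPGroup' ⟨x, hx⟩
  have h4 : x ^ 2 ^ n = 1 := congrArg Subtype.val hn
  have hcop : Nat.Coprime (2 ^ n) H.index :=
    Nat.Coprime.pow_left n ((Nat.Prime.coprime_iff_not_dvd Nat.prime_two).2 S.not_dvd_index)
  exact orderOf_eq_one_iff.1 (Nat.eq_one_of_dvd_coprimes hcop (orderOf_dvd_of_pow_eq_one h4)
    (orderOf_dvd_of_pow_eq_one h3))

/-- The torus. -/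
theorem SmallCycle.exists_torus (hs : IsSimpleGroup L) (hna : ∃ a b : L, a * b ≠ b * a)
    (Q : Sylow 2 L) (hQ : Cfsg.IsElementaryAbelian 2 (Q : Subgroup L))
    (hq : Nat.card (Q : Subgroup L) = 4 ∨ Nat.card (Q : Subgroup L) = 8) :
    ∃ h : L, Torus (Q : Subgroup L) h := by
  haveI : Fact (Nat.Prime 2) := ⟨Nat.prime_two⟩
  haveI := hQ.1
  set H := (Q : Subgroup L)
  set N := normalizer (H : Set L)
  let φ : ↥N →* MulAut ↥H := H.normalizerMonoidHom
  have hφ : ∀ (n : ↥N) (v : ↥H), ((φ n v : ↥H) : L) = (n : L) * v * (n : L)⁻¹ := fun n v => rfl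
  have hφk : ∀ (n : ↥N) (k : ℕ) (v : ↥H),
      (((φ n ^ k) v : ↥H) : L) = (n : L) ^ k * v * ((n : L) ^ k)⁻¹ := fun n k v => by
    rw [← map_pow, hφ, coe_pow]
  have hV : ∀ v : ↥H, v * v = 1 := fun v => Subtype.ext (by
    rw [coe_mul, coe_one, ← pow_two]; exact hQ.2 _ v.2)
  have hle : H.subgroupOf N ≤ φ.ker := fun n hn => by
    refine MonoidHom.mem_ker.2 (MulEquiv.ext fun v => Subtype.ext ?_)
    rw [hφ, MulAut.one_apply, mul_inv_eq_iff_eq_mul]
    exact setLike_mul_comm (mem_subgroupOf.1 hn) v.2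
  have hidx : Odd (H.subgroupOf N).index := by
    rw [← Nat.not_even_iff_odd, even_iff_two_dvd]
    exact (Q.subtype le_normalizer).not_dvd_index
  have hodd : Odd (Nat.card ↥φ.range) := hidx.of_dvd_nat (index_ker φ ▸ index_dvd_of_le hle)
  have hfix : ∀ v : ↥H, (∀ σ ∈ φ.range, σ v = v) → v = 1 := fun v h => Subtype.ext
    (eq_one_of_central_normalizer hs hna Q hQ.1 v.2 fun n hn => by
      have e := congrArg Subtype.val (h _ ⟨⟨n, hn⟩, rfl⟩)
      rw [hφ] at e
      exact mul_inv_eq_iff_eq_mul.1 e)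
  obtain ⟨σ, ⟨n, rfl⟩, hσ⟩ := SmallCycle.exists_trans hV hq hodd hfix
  -- an odd power of `n`
  obtain ⟨a, m, hm, hnm⟩ := Nat.exists_eq_two_pow_mul_odd (orderOf_pos n).ne'
  set h := n ^ 2 ^ a with hh
  have hho : Odd (orderOf h) := by
    rw [hh, orderOf_pow' _ (pow_ne_zero a two_ne_zero), hnm, Nat.gcd_mul_right_left,
      Nat.mul_div_cancel_left _ (pow_pos two_pos a)]
    exact hm
  have hord : orderOf (φ h) = Nat.card ↥H - 1 := by
    have hr : (Nat.card ↥H - 1).Prime := by rcases hq with e | e <;> rw [e] <;> norm_num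
    rw [hh, map_pow, (Nat.Coprime.orderOf_pow ?_), SmallCycle.orderOf_of_trans hq hσ]
    rw [SmallCycle.orderOf_of_trans hq hσ]
    exact (Nat.Coprime.pow_left a ((Nat.coprime_primes Nat.prime_two hr).2 (by
      rcases hq with e | e <;> rw [e] <;> norm_num))).symm
  have htr : SmallCycle.Trans (φ h) := SmallCycle.trans_of_orderOf hq hord
  refine ⟨h, h.2, by rwa [← orderOf_coe] at hho, fun x hx y hy hx1 hy1 => ?_, fun w hw hwt => ?_⟩
  · obtain ⟨k, hk⟩ := htr ⟨x, hx⟩ ⟨y, hy⟩ (fun e => hx1 (congrArg Subtype.val e))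
      (fun e => hy1 (congrArg Subtype.val e))
    have e := congrArg Subtype.val hk
    rw [hφk] at e
    exact ⟨k, e⟩
  · have hwT : SmallCycle.Trans (φ ⟨w, hw⟩) := fun x y hx hy => by
      obtain ⟨k, hk⟩ := hwt x x.2 y y.2 (fun e => hx (Subtype.ext e)) (fun e => hy (Subtype.ext e))
      exact ⟨k, Subtype.ext (by rw [hφk]; exact hk)⟩
    obtain ⟨k, hk⟩ := SmallCycle.exists_pow_of_trans hV hq hodd (I := φ.range) ⟨h, rfl⟩ ⟨⟨w, hw⟩, rfl⟩ htr hwT
    refine ⟨k, fun z hz => ?_⟩
    have e := congrArg Subtype.val (DFunLike.congr_fun hk ⟨z, hz⟩)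
    rw [hφ, hφk] at e
    exact e

theorem isSimple_nonab_center (hs : IsSimpleGroup L) (hna : ∃ a b : L, a * b ≠ b * a) :
    Subgroup.center L = ⊥ :=
  haveI := hs
  SmallOrders.center_eq_bot fun h => hna.elim fun a ⟨b, hab⟩ => hab (h.is_comm.comm a b)

theorem pPrimeCore_eq_bot_of_simple (hs : IsSimpleGroup L) (hev : 2 ∣ Nat.card L) :
    pPrimeCore 2 L = ⊥ := by
  haveI := hs
  refine (Cores.pPrimeCore_normal 2 L).eq_bot_or_eq_top.resolve_right fun h => ?_
  have hc := Cores.coprime_card_pPrimeCore (G := L) 2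
  rw [h, card_top] at hc
  exact Nat.not_coprime_of_dvd_of_dvd one_lt_two hev (dvd_refl 2) hc

/-- Elementary Sylow subgroup of order at most eight, no strongly embedded subgroup. -/
theorem smallTarget : SmallTarget.{u} := by
  intro hC L _ _ hs hna hSE S hS h8
  haveI : Fact (Nat.Prime 2) := ⟨Nat.prime_two⟩
  haveI := hs
  set q := Nat.card (S : Subgroup L) with hqdef
  -- the order
  obtain ⟨n, hn⟩ := S.isPGroup'.exists_card_eq
  have hn2 : 2 ≤ n := by
    by_contra hlt
    have h4 : ¬ 4 ∣ Nat.card L := fun h => by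
      have h' : 2 ^ 2 ∣ Nat.card (S : Subgroup L) := S.pow_dvd_card_of_pow_dvd_card (by simpa using h)
      rw [hn] at h'
      exact hlt ((Nat.pow_dvd_pow_iff_le_right (by norm_num)).1 h')
    obtain ⟨a, b, hab⟩ := hna
    haveI := HallOrders.solvable_of_not_four_dvd h4
    exact hab (IsSimpleGroup.comm_iff_isSolvable.2 inferInstance a b)
  have hn3 : n ≤ 3 := by
    by_contra hlt
    have : 2 ^ 4 ≤ Nat.card (S : Subgroup L) := hn ▸ Nat.pow_le_pow_right two_pos (by omega)
    norm_num at this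
    omega
  have hq : q = 4 ∨ q = 8 := by
    rw [hqdef, hn]
    interval_cases n <;> norm_num
  have hZ := isSimple_nonab_center hs hna
  -- all Sylow subgroups
  have hsyl : ∀ Q : Sylow 2 L, Cfsg.IsElementaryAbelian 2 (Q : Subgroup L) ∧
      Nat.card ↥(Q : Subgroup L) = q := fun Q => by
    have e : ↥(S : Subgroup L) ≃* ↥(Q : Subgroup L) := Sylow.equiv S Q
    refine ⟨⟨⟨⟨fun a b => ?_⟩⟩, fun x hx => ?_⟩, (Nat.card_congr e.toEquiv).symm⟩
    · obtain ⟨a, rfl⟩ := e.surjective a
      obtain ⟨b, rfl⟩ := e.surjective b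
      rw [← map_mul, ← map_mul, hS.1.is_comm.comm a b]
    · obtain ⟨y, hy⟩ := e.surjective ⟨x, hx⟩
      have : (⟨x, hx⟩ : ↥(Q : Subgroup L)) ^ 2 = 1 := by
        rw [← hy, ← map_pow, show y ^ 2 = 1 from Subtype.ext (hS.2 _ y.2), map_one]
      exact congrArg Subtype.val this
  refine ⟨q, hq, hs, hZ, hSE, hsyl, fun Q => ?_, fun Q => ?_, fun Q F hF hF1 hqF => ?_, ?_⟩
  · exact SmallCycle.exists_torus hs hna Q (hsyl Q).1 ((hsyl Q).2.symm ▸ hq)
  · -- the centralisers generate
    by_contra hne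
    refine hSE (Aschbacher.criterion_strongly_closed hC Q (Q : Subgroup L) ?_
      ⟨le_rfl, fun x _ g hg => hg⟩ fun e => hne (top_le_iff.1 (e ▸ iSup_le fun t => ?_)))
    · intro h
      have := (hsyl Q).2
      rw [h, card_bot] at this
      omega
    · exact le_iSup (fun p : {p : L // p ∈ Q ∧ p ≠ 1} => centralizer ({(p : L)} : Set L))
        ⟨t.1, t.2.1, fun e => by simpa [e] using t.2.2⟩
  · -- solvable centralisers
    set C := centralizer (F : Set L)
    have hFC : F ≤ C := fun f hf g hg =>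
      congrArg Subtype.val ((hsyl Q).1.1.is_comm.comm ⟨g, hF hg⟩ ⟨f, hF hf⟩)
    set F' := F.subgroupOf C
    have hc : F' ≤ Subgroup.center ↥C := fun f hf => mem_center_iff.2 fun g =>
      Subtype.ext (g.2 f (mem_subgroupOf.1 hf)).symm
    haveI : F'.Normal := ⟨fun f hf g => by
      rw [mem_center_iff.1 (hc hf) g, mul_inv_cancel_right]; exact hf⟩
    have h4 : ¬ 4 ∣ Nat.card (↥C ⧸ F') := fun h => by
      have h1 : Nat.card ↥F * 4 ∣ Nat.card ↥C := by
        rw [Subgroup.card_eq_card_quotient_mul_card_subgroup F', mul_comm (Nat.card ↥F),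
          Nat.card_congr (subgroupOfEquivOfLe hFC).toEquiv]
        exact mul_dvd_mul_right h _
      have h2 := h1.trans (card_subgroup_dvd_card C)
      obtain ⟨f, hf⟩ := (Q.isPGroup'.to_le hF).exists_card_eq
      rw [hf, show (4 : ℕ) = 2 ^ 2 from rfl, ← pow_add] at h2
      have h3 : 2 ^ (f + 2) ∣ Nat.card (Q : Subgroup L) := Q.pow_dvd_card_of_pow_dvd_card h2
      have h5 : q ≤ 2 ^ (f + 1) := by rw [pow_succ, ← hf, mul_comm]; exact hqF
      have h6 : 2 ^ (f + 2) ≤ q := (hsyl Q).2 ▸ Nat.le_of_dvd Nat.card_pos h3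
      have : 2 ^ (f + 1) < 2 ^ (f + 2) := Nat.pow_lt_pow_right one_lt_two (by omega)
      omega
    haveI := HallOrders.solvable_of_not_four_dvd h4
    haveI : Group.IsSolvable ↥F' := Group.isSolvable_of_comm fun a b =>
      Subtype.ext ((mem_center_iff.1 (hc a.2) b).symm)
    exact (Solvable.isSolvable_subgroup_quotient_iff F').2 ⟨inferInstance, inferInstance⟩
  · -- automorphisms
    intro Q α hα hfix
    obtain ⟨k, hk⟩ := hα
    haveI := (hsyl Q).1.1
    obtain ⟨j, -, hj⟩ := (Nat.dvd_prime_pow Nat.prime_two).1 (orderOf_dvd_of_pow_eq_one hk)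
    have hev : 2 ∣ Nat.card L := dvd_trans ((hsyl Q).2.symm ▸ (by rcases hq with e | e <;> rw [e] <;> norm_num))
      (card_subgroup_dvd_card (Q : Subgroup L))
    obtain ⟨s, hs'⟩ := ZStar.aut_inner_of_abelian_sylow ZStarPrimePower.uniqueInvolutionZStar_proved hZ
      (pPrimeCore_eq_bot_of_simple hs hev) Q α
      ⟨j, hj⟩ hfix
    have hs2 : s ^ 2 ^ k = 1 := by
      rw [← mem_bot, ← hZ, mem_center_iff]
      intro g
      have e : MulAut.conj (s ^ 2 ^ k) g = g := by
        rw [map_pow, hs', hk, MulAut.one_apply]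
      rw [MulAut.conj_apply] at e
      exact (mul_inv_eq_iff_eq_mul.1 e).symm
    have hcent : s ∈ normalizer ((Q : Subgroup L) : Set L) := centralizer_le_normalizer _ fun x hx => by
      have e := hfix x hx
      rw [← hs', MulAut.conj_apply] at e
      exact (mul_inv_eq_iff_eq_mul.1 e).symm
    have hp : IsPGroup 2 ↥((Q : Subgroup L) ⊔ zpowers s) :=
      Q.isPGroup'.to_sup_of_normal_left' (fun ⟨y, hy⟩ => by
        obtain ⟨i, rfl⟩ := mem_zpowers_iff.1 hy
        refine ⟨k, Subtype.ext ?_⟩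
        rw [coe_pow, coe_one, ← zpow_natCast, zpow_comm, zpow_natCast, hs2, one_zpow])
        (zpowers_le.2 hcent)
    exact ⟨s, (Q.is_maximal' hp le_sup_left).le (mem_sup_right (mem_zpowers s)), hs'.symm⟩

end Cfsg.Agent.Goldschmidt.General
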