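import Cfsg.Agent.Lib.Goldschmidt.General.Targets
import Cfsg.Agent.Lib.Goldschmidt.General.RankFacts.Linear
import Cfsg.Agent.Lib.Goldschmidt.General.RankFacts.Suzuki
import Cfsg.Agent.Lib.Goldschmidt.General.RankFacts.Unitary
import Cfsg.Agent.Lib.Suzuki.LieModel

/-!
# Goldschmidt's theorem, general case: the facts about `L₂(q)`, `Sz(q)`, `U₃(q)` (owner: helper72)

* `rankTarget` : the three families give `RankFacts`
-/

set_option autoImplicit false
set_option linter.unusedSectionVars false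
set_option linter.style.haveILetI false

namespace Cfsg.Agent.Goldschmidt.General

universe u

theorem rankTarget : RankTarget.{u} := by
  intro L _ _ hs h
  haveI := hs
  rcases h with ⟨F, _, _, n, hn, hF, ⟨e⟩⟩ | ⟨F, _, _, m, hm, hF, ⟨e⟩⟩ | ⟨F, _, _, n, hn, hF, ⟨e⟩⟩
  · obtain ⟨e'⟩ := Rank.pgl_equiv_psl (n := n) (by omega) hF
    exact ⟨_, Rank.rankFacts_of_equiv (Rank.model_pgl hn hF) (e.trans e')⟩
  · exact ⟨_, Rank.rankFacts_of_equiv (Rank.model_sz hm hF) (e.trans (Suzuki.lieEquiv hm hF).symm)⟩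
  · exact ⟨_, Rank.rankFacts_of_equiv (Rank.model_psu hn hF).1 e⟩

end Cfsg.Agent.Goldschmidt.General
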