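import Cfsg.Agent.Lib.Goldschmidt.General.Inner
import Cfsg.Agent.Lib.Goldschmidt.ThreePrime.BlockCore

/-!
# The data of a moved component (owner: helper96)

* `Chart.sup`, `Chart.card`, `Chart.exists_complement` : the decomposition of `A` along a component
* `Chart.solv` : centralisers in the component of large subgroups of `A`
* `Chart.center_eq_bot_of_commute` : no centre when the Sylow subgroup centralises `A`
* `Chart.cover` : the structure of a covering component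
* `compData` : the data of a moved component
-/

set_option autoImplicit false
set_option linter.unusedSectionVars false
set_option linter.style.haveILetI false

namespace Cfsg.Agent.Goldschmidt.General

open Cfsg Subgroup Cfsg.Agent.Components
open scoped commutatorElement

universe u

variable {X : Type u} [Group X] [Finite X] {T : Set X} {A K : Subgroup X} {q : ℕ}
  {Qb : Sylow 2 (↥K ⧸ center ↥K)} {h : ↥K}

theorem cproj_surjective (K : Subgroup X) : Function.Surjective (cproj K) :=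
  QuotientGroup.mk'_surjective _

theorem cproj_eq_one {k : ↥K} : cproj K k = 1 ↔ k ∈ center ↥K := QuotientGroup.eq_one_iff k

theorem mem_center_of_fixer {k : ↥K} (hk : (k : X) ∈ fixer A K) : k ∈ center ↥K :=
  mem_center_iff.2 fun g => Subtype.ext (mem_centralizer_iff.1 hk.2 g g.2)

theorem mem_fixer_of_center {k : ↥K} (hkA : (k : X) ∈ A) (hk : k ∈ center ↥K) :
    (k : X) ∈ fixer A K :=
  ⟨hkA, mem_centralizer_iff.2 fun g hg => congrArg Subtype.val (mem_center_iff.1 hk ⟨g, hg⟩)⟩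

namespace Chart

variable (c : Chart A K q Qb h)
include c

theorem sup : (A ⊓ K) ⊔ fixer A K = A := by
  refine le_antisymm (sup_le inf_le_left inf_le_left) fun a ha => ?_
  obtain ⟨b, hb, hf⟩ := c.act a ha
  rw [show a = b * (b⁻¹ * a) by group]
  exact mul_mem_sup hb hf

theorem fixer_relIndex_sup {F : Subgroup X} (hF : F ≤ A) :
    (fixer A K).relIndex (F ⊔ fixer A K) = (fixer A K).relIndex F := by
  haveI : ((fixer A K).subgroupOf A).Normal :=
    ⟨fun n hn g => by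
      have e : g * n * g⁻¹ = n := Subtype.ext (by simp [c.commute g g.2 n n.2])
      rw [e]; exact hn⟩
  have h2 := relIndex_sup_right (F.subgroupOf A) ((fixer A K).subgroupOf A)
  rwa [← subgroupOf_sup hF inf_le_left, relIndex_subgroupOf (sup_le hF inf_le_left),
    relIndex_subgroupOf hF] at h2

/-- The image of a subgroup between the fixer and `A`. -/
theorem card_image {F : Subgroup X} (hF : F ≤ A) (hfF : fixer A K ≤ F) :
    Nat.card ↥((F.subgroupOf K).map (cproj K)) = (fixer A K).relIndex F := by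
  have hsplit : (F ⊓ K) ⊔ fixer A K = F := by
    refine le_antisymm (sup_le inf_le_left hfF) fun a ha => ?_
    obtain ⟨b, hb, hf⟩ := c.act a (hF ha)
    rw [show a = b * (b⁻¹ * a) by group]
    refine mul_mem_sup ⟨?_, hb.2⟩ hf
    simpa using F.mul_mem ha (F.inv_mem (hfF hf))
  rw [← relIndex_ker, QuotientGroup.ker_mk']
  have hc : center ↥K = (centralizer (K : Set X)).subgroupOf K := by
    ext k
    rw [mem_center_iff, mem_subgroupOf, mem_centralizer_iff]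
    exact ⟨fun hh g hg => congrArg Subtype.val (hh ⟨g, hg⟩), fun hh g => Subtype.ext (hh g g.2)⟩
  rw [hc, show F.subgroupOf K = (F ⊓ K).subgroupOf K from (inf_subgroupOf_right F K).symm,
    relIndex_subgroupOf inf_le_right]
  conv_rhs => rw [← hsplit, c.fixer_relIndex_sup (inf_le_left.trans hF)]
  rw [← inf_relIndex_right (centralizer (K : Set X)), ← inf_relIndex_right (fixer A K)]
  congr 1
  ext x
  simp only [mem_inf]
  exact ⟨fun ⟨h1, h2⟩ => ⟨⟨hF h2.1, h1⟩, h2⟩, fun ⟨h1, h2⟩ => ⟨h1.2, h2⟩⟩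

theorem map_image : (A.subgroupOf K).map (cproj K) = centre (Qb : Subgroup (↥K ⧸ center ↥K)) := by
  ext z
  constructor
  · rintro ⟨b, hb, rfl⟩
    exact c.mem_centre b hb
  · intro hz
    obtain ⟨b, hb, e⟩ := c.onto z hz
    exact ⟨b, hb, e⟩

theorem card : Nat.card ↥A = q * Nat.card ↥(fixer A K) := by
  have h1 := c.card_image le_rfl inf_le_left
  rw [c.map_image, c.facts.card_centre Qb] at h1
  have h2 := Subgroup.relIndex_mul_relIndex ⊥ (fixer A K) A bot_le inf_le_left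
  rw [relIndex_bot_left, relIndex_bot_left, ← h1, mul_comm] at h2
  exact h2.symm

theorem norm_pow (k : ℕ) : (h : X) ^ k ∈ normalizer (A : Set X) := pow_mem c.norm_A k

/-- The torus fixes no non-trivial element of the centre. -/
theorem fpf {z : ↥K ⧸ center ↥K} (hz : z ∈ centre (Qb : Subgroup (↥K ⧸ center ↥K)))
    (hfix : cproj K h * z * (cproj K h)⁻¹ = z) : z = 1 := by
  classical
  by_contra hne
  set Z := centre (Qb : Subgroup (↥K ⧸ center ↥K)) with hZ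
  have hfixn : ∀ j : ℕ, cproj K h ^ j * z * (cproj K h ^ j)⁻¹ = z := by
    intro j
    induction j with
    | zero => simp
    | succ j ih =>
      calc cproj K h ^ (j + 1) * z * (cproj K h ^ (j + 1))⁻¹
          = cproj K h * (cproj K h ^ j * z * (cproj K h ^ j)⁻¹) * (cproj K h)⁻¹ := by
            rw [pow_succ']; group
        _ = z := by rw [ih, hfix]
  have hsub : ∀ y ∈ Z, y = 1 ∨ y = z := fun y hy => or_iff_not_imp_left.2 fun hy1 => by
    obtain ⟨j, hj⟩ := c.torus.trans z hz y hy hne hy1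
    rw [← hj, hfixn j]
  have h6 : Nat.card ↥Z ≤ 2 := by
    refine (Nat.card_le_card_of_injective
      (fun y : ↥Z => if (y : ↥K ⧸ center ↥K) = 1 then (0 : Fin 2) else 1) fun a b hab => ?_).trans_eq
      (Nat.card_fin 2)
    rcases hsub a a.2 with ha | ha <;> rcases hsub b b.2 with hb' | hb'
    · exact Subtype.ext (ha.trans hb'.symm)
    · simp only at hab
      rw [if_pos ha, if_neg (fun e => hne (hb'.symm.trans e))] at hab
      exact absurd hab (by decide)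
    · simp only at hab
      rw [if_pos hb', if_neg (fun e => hne (ha.symm.trans e))] at hab
      exact absurd hab (by decide)
    · exact Subtype.ext (ha.trans hb'.symm)
  rw [hZ, c.facts.card_centre] at h6
  have := c.facts.four
  omega

/-- The complement `[A, h]` of the fixer. -/
theorem exists_complement : ∃ P : Subgroup X, P ≤ A ⊓ K ∧ P ⊓ fixer A K = ⊥ ∧
    P ⊔ fixer A K = A ∧ (h : X) ∈ normalizer (P : Set X) ∧
    (∀ z ∈ centre (Qb : Subgroup (↥K ⧸ center ↥K)), ∃ p : ↥K, (p : X) ∈ P ∧ cproj K p = z) ∧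
    ∀ x ∈ P, ∀ y ∈ P, x ≠ 1 → y ≠ 1 → ∃ k : ℕ, (h : X) ^ k * x * ((h : X) ^ k)⁻¹ = y := by
  classical
  set π := cproj K with hπ
  set Z := centre (Qb : Subgroup (↥K ⧸ center ↥K)) with hZ
  have hconjA : ∀ a : A, (h : X) * a * (h : X)⁻¹ ∈ A := fun a =>
    (mem_normalizer_iff.1 c.norm_A _).1 a.2
  have hhfix : ∀ f ∈ fixer A K, (h : X) * f * (h : X)⁻¹ = f := fun f hf => by
    rw [mem_centralizer_iff.1 hf.2 h h.2, mul_inv_cancel_right]
  let φ : A →* A :=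
    { toFun := fun a => ⟨(a : X) * ((h : X) * a * (h : X)⁻¹), A.mul_mem a.2 (hconjA a)⟩
      map_one' := Subtype.ext (by simp)
      map_mul' := fun a b => Subtype.ext (by
        show (a : X) * b * ((h : X) * ((a : X) * b) * (h : X)⁻¹) = _
        calc _ = (a : X) * ((b : X) * ((h : X) * a * (h : X)⁻¹)) * ((h : X) * b * (h : X)⁻¹) := by group
          _ = (a : X) * (((h : X) * a * (h : X)⁻¹) * b) * ((h : X) * b * (h : X)⁻¹) := by
            rw [c.commute _ b.2 _ (hconjA a)]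
          _ = _ := by simp [mul_assoc]) }
  have hφfix : ∀ f : A, (f : X) ∈ fixer A K → φ f = 1 := fun f hf => Subtype.ext (by
    show (f : X) * ((h : X) * f * (h : X)⁻¹) = 1
    rw [hhfix _ hf]; exact c.sq_one _ f.2)
  have hφb : ∀ a : A, ∃ b : ↥K, ∃ hb : (b : X) ∈ A, φ a = φ ⟨b, hb⟩ ∧
      ((φ a : A) : X) = ((b * (h * b * h⁻¹) : ↥K) : X) := by
    intro a
    obtain ⟨b, hb, hf⟩ := c.act a a.2
    have e : φ a = φ ⟨b, hb.1⟩ := by
      rw [show a = ⟨b, hb.1⟩ * (⟨b, hb.1⟩⁻¹ * a) by group, map_mul,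
        hφfix (⟨b, hb.1⟩⁻¹ * a) hf, mul_one]
    exact ⟨⟨b, hb.2⟩, hb.1, e, by rw [e]; rfl⟩
  have hπφ : ∀ b : ↥K, π (b * (h * b * h⁻¹)) = π b * (π h * π b * (π h)⁻¹) := fun b => by
    rw [map_mul, map_mul, map_mul, map_inv]
  have hzero : ∀ b : ↥K, (b : X) ∈ A → π (b * (h * b * h⁻¹)) = 1 → π b = 1 := by
    intro b hb e
    rw [hπφ] at e
    refine c.fpf (c.mem_centre b hb) ?_
    rw [eq_inv_of_mul_eq_one_right e]
    refine inv_eq_of_mul_eq_one_right ?_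
    rw [← map_mul, show b * b = 1 from Subtype.ext (c.sq_one _ hb), map_one]
  set P : Subgroup X := φ.range.map A.subtype with hP
  have hPle : P ≤ A ⊓ K := by
    rintro _ ⟨_, ⟨a, rfl⟩, rfl⟩
    obtain ⟨b, -, -, e⟩ := hφb a
    exact ⟨(φ a).2, by rw [Subgroup.coe_subtype, e]; exact SetLike.coe_mem _⟩
  have hPfix : P ⊓ fixer A K = ⊥ := by
    refine (Subgroup.eq_bot_iff_forall _).2 ?_
    rintro _ ⟨⟨_, ⟨a, rfl⟩, rfl⟩, hf⟩
    obtain ⟨b, hbA, e₁, e⟩ := hφb a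
    rw [Subgroup.coe_subtype, e] at hf ⊢
    have h1 := hzero b hbA (cproj_eq_one.2 (mem_center_of_fixer hf))
    rw [← e, e₁, hφfix _ (mem_fixer_of_center hbA (cproj_eq_one.1 h1))]
    rfl
  have hhP : (h : X) ∈ normalizer (P : Set X) := by
    refine Coprime.mem_normalizer_of_forall ?_
    rintro _ ⟨_, ⟨a, rfl⟩, rfl⟩
    refine ⟨φ ⟨_, hconjA a⟩, ⟨_, rfl⟩, ?_⟩
    show (h : X) * a * (h : X)⁻¹ * ((h : X) * ((h : X) * a * (h : X)⁻¹) * (h : X)⁻¹) =
      (h : X) * ((a : X) * ((h : X) * a * (h : X)⁻¹)) * (h : X)⁻¹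
    group
  -- `P` covers the centre
  have hhZ : ∀ z ∈ Z, π h * z * (π h)⁻¹ ∈ Z := by
    intro z hz
    exact (mem_normalizer_iff.1 c.torus.mem z).1 hz
  have hPonto : ∀ z ∈ Z, ∃ p : ↥K, (p : X) ∈ P ∧ π p = z := by
    intro z hz
    let ψ : ↥Z → ↥Z := fun w => ⟨w.1 * (π h * w.1 * (π h)⁻¹), mul_mem w.2 (hhZ _ w.2)⟩
    have hψ : Function.Injective ψ := by
      intro w₁ w₂ e
      obtain ⟨b₁, hb₁, e₁⟩ := c.onto w₁.1 w₁.2
      obtain ⟨b₂, hb₂, e₂⟩ := c.onto w₂.1 w₂.2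
      have e' : π (b₁ * (h * b₁ * h⁻¹)) = π (b₂ * (h * b₂ * h⁻¹)) := by
        rw [hπφ, hπφ, e₁, e₂]; exact congrArg Subtype.val e
      have hA12 : ((b₁⁻¹ * b₂ : ↥K) : X) ∈ A := A.mul_mem (A.inv_mem hb₁) hb₂
      have h3 : ((b₁⁻¹ * b₂ * (h * (b₁⁻¹ * b₂) * h⁻¹) : ↥K) : X) =
          (((b₁ * (h * b₁ * h⁻¹))⁻¹ * (b₂ * (h * b₂ * h⁻¹)) : ↥K) : X) := by
        have hh1 := hconjA ⟨b₁, hb₁⟩
        simp only [Subgroup.coe_mul, InvMemClass.coe_inv]
        have hcm := c.commute _ (A.inv_mem hh1) _ hb₂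
        have hcm2 := c.commute _ (A.inv_mem hb₁) _ (A.inv_mem hh1)
        calc (b₁ : X)⁻¹ * b₂ * ((h : X) * ((b₁ : X)⁻¹ * b₂) * (h : X)⁻¹)
            = (b₁ : X)⁻¹ * ((b₂ : X) * ((h : X) * b₁ * (h : X)⁻¹)⁻¹) *
              ((h : X) * b₂ * (h : X)⁻¹) := by group
          _ = (b₁ : X)⁻¹ * (((h : X) * b₁ * (h : X)⁻¹)⁻¹ * b₂) *
              ((h : X) * b₂ * (h : X)⁻¹) := by rw [hcm]
          _ = ((b₁ : X)⁻¹ * ((h : X) * b₁ * (h : X)⁻¹)⁻¹) * b₂ *
              ((h : X) * b₂ * (h : X)⁻¹) := by group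
          _ = (((h : X) * b₁ * (h : X)⁻¹)⁻¹ * (b₁ : X)⁻¹) * b₂ *
              ((h : X) * b₂ * (h : X)⁻¹) := by rw [hcm2]
          _ = _ := by group
      have h4 := hzero _ hA12 (by
        rw [show b₁⁻¹ * b₂ * (h * (b₁⁻¹ * b₂) * h⁻¹) =
          (b₁ * (h * b₁ * h⁻¹))⁻¹ * (b₂ * (h * b₂ * h⁻¹)) from Subtype.ext h3, map_mul π _ (b₂ * _),
          map_inv, e', inv_mul_cancel])
      rw [map_mul, map_inv, e₁, e₂, inv_mul_eq_one] at h4
      exact Subtype.ext h4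
    obtain ⟨w, hw⟩ := Finite.surjective_of_injective hψ ⟨z, hz⟩
    obtain ⟨b, hb, e⟩ := c.onto w.1 w.2
    refine ⟨b * (h * b * h⁻¹), ⟨φ ⟨b, hb⟩, ⟨_, rfl⟩, rfl⟩, ?_⟩
    rw [hπφ, e]
    exact congrArg Subtype.val hw
  have hPsup : P ⊔ fixer A K = A := by
    refine le_antisymm (sup_le (hPle.trans inf_le_left) inf_le_left) fun a ha => ?_
    obtain ⟨b, hb, hf⟩ := c.act a ha
    obtain ⟨p, hp, e⟩ := hPonto _ (c.mem_centre ⟨b, hb.2⟩ hb.1)
    have h1 : ((p⁻¹ * ⟨b, hb.2⟩ : ↥K) : X) ∈ fixer A K :=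
      mem_fixer_of_center (A.mul_mem (A.inv_mem (hPle hp).1) hb.1)
        (cproj_eq_one.1 (by rw [map_mul, map_inv, ← hπ, e, inv_mul_cancel]))
    rw [show a = (p : X) * (((p : X)⁻¹ * b) * (b⁻¹ * a)) by group]
    exact mul_mem_sup hp (mul_mem h1 hf)
  refine ⟨P, hPle, hPfix, hPsup, hhP, hPonto, fun x hx y hy hx1 hy1 => ?_⟩
  have hne : ∀ p : ↥K, (p : X) ∈ P → π p = 1 → (p : X) = 1 := fun p hp e =>
    (Subgroup.eq_bot_iff_forall _).1 hPfix _
      ⟨hp, mem_fixer_of_center (hPle hp).1 (cproj_eq_one.1 e)⟩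
  obtain ⟨hxA, hxK⟩ := hPle hx
  obtain ⟨hyA, hyK⟩ := hPle hy
  obtain ⟨k, hk⟩ := c.torus.trans _ (c.mem_centre ⟨x, hxK⟩ hxA) _ (c.mem_centre ⟨y, hyK⟩ hyA)
    (fun e => hx1 (hne ⟨x, hxK⟩ hx e)) (fun e => hy1 (hne ⟨y, hyK⟩ hy e))
  refine ⟨k, ?_⟩
  have hx' : (h : X) ^ k * x * ((h : X) ^ k)⁻¹ ∈ P := (mem_normalizer_iff.1 (pow_mem hhP k) x).1 hx
  have h1 := hne ((h ^ k * ⟨x, hxK⟩ * (h ^ k)⁻¹)⁻¹ * ⟨y, hyK⟩)
    (by simpa using P.mul_mem (P.inv_mem hx') hy)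
    (by rw [map_mul, map_inv, map_mul, map_mul, map_inv, map_pow, hπ, hk, inv_mul_cancel])
  exact inv_mul_eq_one.1 (by simpa only [Subgroup.coe_mul, InvMemClass.coe_inv, SubmonoidClass.coe_pow] using h1)

/-- Another transitive element of the component acts like a power of `h`. -/
theorem unique {w : X} (hwK : w ∈ K) (hw : w ∈ normalizer (A : Set X))
    (ht : TransMod A (fixer A K) w) :
    ∃ k : ℕ, ∀ a ∈ A, w * a * w⁻¹ * ((h : X) ^ k * a * ((h : X) ^ k)⁻¹)⁻¹ ∈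
      K ⊓ centralizer (K : Set X) := by
  set π := cproj K with hπ
  set w' : ↥K := ⟨w, hwK⟩ with hw'
  set Z := centre (Qb : Subgroup (↥K ⧸ center ↥K)) with hZ
  have hpowA : ∀ (k : ℕ) (b : ↥K), (b : X) ∈ A → ((w' ^ k * b * (w' ^ k)⁻¹ : ↥K) : X) ∈ A := by
    intro k b hb
    simpa [hw'] using (mem_normalizer_iff.1 (pow_mem hw k) (b : X)).1 hb
  have hwN : π w' ∈ normalizer (Z : Set (↥K ⧸ center ↥K)) := by
    refine Coprime.mem_normalizer_of_forall fun z hz => ?_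
    obtain ⟨b, hb, rfl⟩ := c.onto z hz
    rw [← map_inv, ← map_mul, ← map_mul]
    exact c.mem_centre _ (by simpa using hpowA 1 b hb)
  have htr : ∀ x ∈ Z, ∀ y ∈ Z, x ≠ 1 → y ≠ 1 → ∃ k : ℕ, π w' ^ k * x * (π w' ^ k)⁻¹ = y := by
    intro x hx y hy hx1 hy1
    obtain ⟨b, hb, rfl⟩ := c.onto x hx
    obtain ⟨d, hd, rfl⟩ := c.onto y hy
    obtain ⟨k, hk⟩ := ht b hb d hd (fun e => hx1 (cproj_eq_one.2 (mem_center_of_fixer e)))
      (fun e => hy1 (cproj_eq_one.2 (mem_center_of_fixer e)))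
    refine ⟨k, ?_⟩
    have h1 : π ((w' ^ k * b * (w' ^ k)⁻¹)⁻¹ * d) = 1 :=
      cproj_eq_one.2 (mem_center_of_fixer (by simpa [hw'] using hk))
    rw [map_mul, map_inv, inv_mul_eq_one, map_mul, map_mul, map_inv, map_pow] at h1
    exact h1
  obtain ⟨k, hk⟩ := c.torus.unique (π w') hwN htr
  refine ⟨k, fun a ha => ?_⟩
  obtain ⟨b, hb, hf⟩ := c.act a ha
  have hfixw : ∀ g : ↥K, (g : X) * (b⁻¹ * a) * (g : X)⁻¹ = b⁻¹ * a := fun g => by
    rw [mem_centralizer_iff.1 hf.2 g g.2, mul_inv_cancel_right]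
  set e : ↥K := (w' * ⟨b, hb.2⟩ * w'⁻¹) * (h ^ k * ⟨b, hb.2⟩ * (h ^ k)⁻¹)⁻¹ with he
  have heq : w * a * w⁻¹ * ((h : X) ^ k * a * ((h : X) ^ k)⁻¹)⁻¹ = (e : X) := by
    have h1 : w * a * w⁻¹ = w * b * w⁻¹ * (b⁻¹ * a) := by
      conv_rhs => rw [← hfixw w']
      rw [hw']; group
    have h2 : (h : X) ^ k * a * ((h : X) ^ k)⁻¹
        = (h : X) ^ k * b * ((h : X) ^ k)⁻¹ * (b⁻¹ * a) := by
      conv_rhs => rw [← hfixw (h ^ k)]
      rw [SubmonoidClass.coe_pow]; group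
    rw [h1, h2, he]
    simp [hw', mul_assoc]
  have hπe : π e = 1 := by
    rw [he, map_mul, map_inv, map_mul, map_mul, map_mul, map_mul, map_inv, map_inv, map_pow,
      hk _ (c.mem_centre ⟨b, hb.2⟩ hb.1), mul_inv_cancel]
  rw [heq]
  exact ⟨e.2, mem_centralizer_iff.2 fun g hg =>
    congrArg Subtype.val (mem_center_iff.1 (cproj_eq_one.1 hπe) ⟨g, hg⟩)⟩

/-- Centralisers in the component. -/
theorem solv {F : Subgroup X} (hF : F ≤ A) (hne : ¬ F ≤ fixer A K)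
    (hsh : RankFacts (↥K ⧸ center ↥K) q ∨
      q * Nat.card ↥(F ⊓ fixer A K : Subgroup X) ≤ 2 * Nat.card ↥F) :
    Group.IsSolvable ↥(K ⊓ centralizer (F : Set X) : Subgroup X) := by
  set π := cproj K with hπ
  set F' := F ⊔ fixer A K with hF'
  have hF'A : F' ≤ A := sup_le hF inf_le_left
  set Fb := (F'.subgroupOf K).map π with hFb
  have hcard : Nat.card ↥Fb = (fixer A K).relIndex F := by
    rw [hFb, hπ, c.card_image hF'A le_sup_right, hF', c.fixer_relIndex_sup hF]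
  have hFbne : Fb ≠ ⊥ := fun e => by
    rw [e, Subgroup.card_bot] at hcard
    exact hne (relIndex_eq_one.1 hcard.symm)
  have hFbQ : Fb ≤ centre (Qb : Subgroup (↥K ⧸ center ↥K)) := by
    rintro _ ⟨b, hb, rfl⟩
    exact c.mem_centre b (hF'A hb)
  set S0 := (K ⊓ centralizer (F : Set X)).subgroupOf K with hS0
  have hmap : ∀ k : S0, π (k : ↥K) ∈ centralizer (Fb : Set (↥K ⧸ center ↥K)) := by
    rintro ⟨k, hk⟩
    refine mem_centralizer_iff.2 ?_
    rintro _ ⟨b, hb, rfl⟩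
    rw [← map_mul, ← map_mul]
    refine congrArg _ (Subtype.ext ?_)
    have hle : F' ≤ centralizer ({(k : X)} : Set X) := sup_le
      (fun f hf => mem_centralizer_singleton_iff.2 (mem_centralizer_iff.1 hk.2 f hf))
      fun f hf => mem_centralizer_singleton_iff.2 (mem_centralizer_iff.1 hf.2 k k.2).symm
    exact mem_centralizer_singleton_iff.1 (hle hb)
  haveI hsolC : Group.IsSolvable ↥(centralizer (Fb : Set (↥K ⧸ center ↥K))) := by
    have hrank : RankFacts (↥K ⧸ center ↥K) q →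
        Group.IsSolvable ↥(centralizer (Fb : Set (↥K ⧸ center ↥K))) := by
      intro R
      obtain ⟨⟨z, hz⟩, hz1⟩ := ne_bot_iff_exists_ne_one.1 hFbne
      have hz1' : z ≠ 1 := fun e => hz1 (Subtype.ext e)
      have hle : centralizer (Fb : Set (↥K ⧸ center ↥K)) ≤
          normalizer ((Qb : Subgroup (↥K ⧸ center ↥K)) : Set (↥K ⧸ center ↥K)) :=
        (centralizer_le (Set.singleton_subset_iff.2 hz)).trans (R.cent Qb z (hFbQ hz) hz1')
      haveI := R.solvable Qb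
      exact Group.isSolvable_of_isSolvable_injective (inclusion_injective hle)
    rcases hsh with R | hle
    · exact hrank R
    rcases c.shape with R | S
    · exact hrank R
    · refine S.solv Qb Fb (hFbQ.trans inf_le_left) hFbne ?_
      have h2 := Subgroup.relIndex_mul_relIndex ⊥ (F ⊓ fixer A K) F bot_le inf_le_left
      rw [relIndex_bot_left, relIndex_bot_left, inf_relIndex_left] at h2
      rw [hcard]
      rw [← h2] at hle
      refine Nat.le_of_mul_le_mul_right (hle.trans_eq ?_) (Nat.card_pos (α := ↥(F ⊓ fixer A K : Subgroup X)))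
      ring
  haveI : Group.IsSolvable ↥((center ↥K).subgroupOf S0) :=
    Group.isSolvable_of_comm fun a b => Subtype.ext (Subtype.ext
      (mem_center_iff.1 (mem_subgroupOf.1 b.2) (a : S0)))
  let f : ↥S0 →* ↥(centralizer (Fb : Set (↥K ⧸ center ↥K))) :=
    (π.comp S0.subtype).codRestrict _ hmap
  haveI : Group.IsSolvable ↥S0 := Group.isSolvable_of_ker_le_range
    ((center ↥K).subgroupOf S0).subtype f fun k hk =>
      ⟨⟨k, mem_subgroupOf.2 (cproj_eq_one.1 (congrArg Subtype.val hk))⟩, rfl⟩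
  exact Group.isSolvable_of_surjective
    (f := (subgroupOfEquivOfLe (inf_le_left : K ⊓ centralizer (F : Set X) ≤ K)).toMonoidHom)
    (subgroupOfEquivOfLe _).surjective

/-- The preimage of the centre. -/
theorem exists_of_centre {y : ↥K} (hy : cproj K y ∈ centre (Qb : Subgroup (↥K ⧸ center ↥K))) :
    ∃ b : ↥K, (b : X) ∈ A ∧ b⁻¹ * y ∈ center ↥K := by
  obtain ⟨b, hb, e⟩ := c.onto _ hy
  exact ⟨b, hb, cproj_eq_one.1 (by rw [map_mul, map_inv, e, inv_mul_cancel])⟩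

/-- Commutators of the Sylow subgroup with `A` are central members. -/
theorem comm_mem {y b : ↥K} (hy : cproj K y ∈ (Qb : Subgroup (↥K ⧸ center ↥K))) (hb : (b : X) ∈ A) :
    (⁅y, b⁆ : ↥K) ∈ center ↥K ∧ ((⁅y, b⁆ : ↥K) : X) ∈ A := by
  refine ⟨cproj_eq_one.1 ?_, ?_⟩
  · rw [map_commutatorElement]
    exact commutatorElement_eq_one_iff_mul_comm.2
      (mem_centralizer_iff.1 (c.mem_centre b hb).2 _ hy)
  · rw [commutatorElement_def]
    exact A.mul_mem (c.conj_mem y hy b hb) (A.inv_mem hb)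

omit c in
theorem comm_congr {y y' b b' : ↥K} (hy : cproj K y' = cproj K y) (hb : cproj K b' = cproj K b) :
    (⁅y', b'⁆ : ↥K) = ⁅y, b⁆ := by
  have hu : y⁻¹ * y' ∈ center ↥K := cproj_eq_one.1 (by rw [map_mul, map_inv, hy, inv_mul_cancel])
  have hw : b⁻¹ * b' ∈ center ↥K := cproj_eq_one.1 (by rw [map_mul, map_inv, hb, inv_mul_cancel])
  rw [show y' = y * (y⁻¹ * y') by group, show b' = b * (b⁻¹ * b') by group]
  generalize y⁻¹ * y' = u at hu
  generalize b⁻¹ * b' = w at hw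
  rw [commutatorElement_def, commutatorElement_def]
  have h1 : ∀ g : ↥K, g * u = u * g := mem_center_iff.1 hu
  have h2 : ∀ g : ↥K, g * w = w * g := mem_center_iff.1 hw
  calc y * u * (b * w) * (y * u)⁻¹ * (b * w)⁻¹
      = y * (u * b) * w * u⁻¹ * y⁻¹ * w⁻¹ * b⁻¹ := by group
    _ = y * b * ((u * w) * u⁻¹) * y⁻¹ * w⁻¹ * b⁻¹ := by rw [← h1 b]; group
    _ = y * b * (w * y⁻¹) * w⁻¹ * b⁻¹ := by rw [← h1 w]; group
    _ = y * b * y⁻¹ * b⁻¹ := by rw [← h2 y⁻¹]; group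

/-- If no commutator pairing exists the Sylow subgroup commutes with `A ∩ K`. -/
theorem commute_of_noDelta
    (hd : NoDelta (Qb : Subgroup (↥K ⧸ center ↥K)) (centre (Qb : Subgroup (↥K ⧸ center ↥K))) (cproj K h)) :
    ∀ y : ↥K, cproj K y ∈ (Qb : Subgroup (↥K ⧸ center ↥K)) → ∀ b : ↥K, (b : X) ∈ A → y * b = b * y := by
  classical
  set π := cproj K with hπ
  letI : CommGroup ↥(center ↥K) :=
    { (inferInstance : Group ↥(center ↥K)) with
      mul_comm := fun a b => Subtype.ext (mem_center_iff.1 b.2 a) }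
  let M := ↥((A.subgroupOf K).subgroupOf (center ↥K))
  let sec := Function.surjInv (cproj_surjective K)
  have hsec : ∀ x, π (sec x) = x := Function.surjInv_eq (cproj_surjective K)
  let β : (↥K ⧸ center ↥K) → (↥K ⧸ center ↥K) → M := fun x z =>
    if h : ⁅sec x, sec z⁆ ∈ center ↥K ∧ ((⁅sec x, sec z⁆ : ↥K) : X) ∈ A then
      ⟨⟨_, h.1⟩, h.2⟩ else 1
  have hval : ∀ y b : ↥K, π y ∈ (Qb : Subgroup (↥K ⧸ center ↥K)) → (b : X) ∈ A →
      (((β (π y) (π b) : M) : ↥(center ↥K)) : ↥K) = ⁅y, b⁆ := by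
    intro y b hy hb
    have e := Chart.comm_congr (hsec (π y)) (hsec (π b))
    have hm := c.comm_mem hy hb
    rw [← e] at hm
    show (((if h : _ then _ else _ : M) : ↥(center ↥K)) : ↥K) = _
    rw [dif_pos hm]
    exact e
  have hcl : ∀ u v : M, ((u : ↥(center ↥K)) : ↥K) = ((v : ↥(center ↥K)) : ↥K) → u = v :=
    fun u v e => Subtype.ext (Subtype.ext e)
  have hcen : ∀ y b : ↥K, π y ∈ (Qb : Subgroup (↥K ⧸ center ↥K)) → (b : X) ∈ A →
      ∀ g : ↥K, g * ⁅y, b⁆ = ⁅y, b⁆ * g := fun y b hy hb => mem_center_iff.1 (c.comm_mem hy hb).1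
  have key := hd M (fun m => hcl _ _ (by
      have := c.sq_one _ (mem_subgroupOf.1 (mem_subgroupOf.1 m.2))
      exact Subtype.ext this)) β ?_ ?_ ?_ ?_
  · intro y hy b hb
    have h1 := hval y b hy hb
    rw [key _ hy _ (c.mem_centre b hb)] at h1
    exact commutatorElement_eq_one_iff_mul_comm.1 h1.symm
  · intro x hx x' hx' z hz
    obtain ⟨y, rfl⟩ := cproj_surjective K x
    obtain ⟨y', rfl⟩ := cproj_surjective K x'
    obtain ⟨b, hb, rfl⟩ := c.onto z hz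
    apply hcl
    rw [← map_mul, hval _ b (by rw [map_mul]; exact mul_mem hx hx') hb, Subgroup.coe_mul,
      Subgroup.coe_mul, hval y b hx hb, hval y' b hx' hb]
    calc ⁅y * y', b⁆ = y * ⁅y', b⁆ * y⁻¹ * ⁅y, b⁆ := by simp [commutatorElement_def, mul_assoc]
      _ = ⁅y', b⁆ * ⁅y, b⁆ := by rw [hcen y' b hx' hb y, mul_inv_cancel_right]
      _ = ⁅y, b⁆ * ⁅y', b⁆ := hcen y b hx hb _
  · intro x hx z hz z' hz'
    obtain ⟨y, rfl⟩ := cproj_surjective K x
    obtain ⟨b, hb, rfl⟩ := c.onto z hz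
    obtain ⟨b', hb', rfl⟩ := c.onto z' hz'
    apply hcl
    rw [← map_mul, hval y _ hx (A.mul_mem hb hb'), Subgroup.coe_mul,
      Subgroup.coe_mul, hval y b hx hb, hval y b' hx hb']
    calc ⁅y, b * b'⁆ = ⁅y, b⁆ * (b * ⁅y, b'⁆ * b⁻¹) := by simp [commutatorElement_def, mul_assoc]
      _ = ⁅y, b⁆ * ⁅y, b'⁆ := by rw [hcen y b' hx hb' b, mul_inv_cancel_right]
  · intro x hx z hz
    obtain ⟨y, hy, rfl⟩ := c.onto x hx
    obtain ⟨b, hb, rfl⟩ := c.onto z hz
    apply hcl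
    rw [hval y b (c.mem_centre y hy).1 hb]
    exact commutatorElement_eq_one_iff_mul_comm.2 (Subtype.ext (c.commute _ hy _ hb))
  · intro x hx z hz
    obtain ⟨y, rfl⟩ := cproj_surjective K x
    obtain ⟨b, hb, rfl⟩ := c.onto z hz
    apply hcl
    rw [← map_inv, ← map_mul, ← map_mul, ← map_mul, ← map_mul, hval y b hx hb,
      hval _ _ (by rw [map_mul, map_mul, map_inv]; exact (mem_normalizer_iff.1 c.mem_norm _).1 hx)
        (by simpa using (mem_normalizer_iff.1 c.norm_A (b : X)).1 hb)]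
    calc ⁅h * y * h⁻¹, h * b * h⁻¹⁆ = h * ⁅y, b⁆ * h⁻¹ := by simp [commutatorElement_def, mul_assoc]
      _ = ⁅y, b⁆ := by rw [hcen y b hx hb h, mul_inv_cancel_right]

/-- No centre when the Sylow subgroup commutes with `A ∩ K`. -/
theorem center_eq_bot_of_commute
    (hd : ∀ y : ↥K, cproj K y ∈ (Qb : Subgroup (↥K ⧸ center ↥K)) → ∀ b : ↥K, (b : X) ∈ A →
      y * b = b * y) : center ↥K = ⊥ := by
  classical
  haveI : Fact (Nat.Prime 2) := ⟨Nat.prime_two⟩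
  set π := cproj K with hπ
  set Z := centre (Qb : Subgroup (↥K ⧸ center ↥K)) with hZ
  obtain ⟨P, hPle, hPfix, -, hhP, hPonto, -⟩ := c.exists_complement
  -- the preimage of the centre is central in the preimage of the Sylow subgroup
  have hMc : ∀ m y : ↥K, π m ∈ Z → π y ∈ (Qb : Subgroup (↥K ⧸ center ↥K)) → y * m = m * y := by
    intro m y hm hy
    obtain ⟨b, hb, hz⟩ := c.exists_of_centre hm
    calc y * m = y * b * (b⁻¹ * m) := by group
      _ = b * (y * (b⁻¹ * m)) := by rw [hd y hy b hb, mul_assoc]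
      _ = b * ((b⁻¹ * m) * y) := by rw [mem_center_iff.1 hz y]
      _ = m * y := by group
  have huniq : ∀ p p' : ↥K, (p : X) ∈ P → (p' : X) ∈ P → π p = π p' → p = p' := by
    intro p p' hp hp' e
    refine inv_mul_eq_one.1 (Subtype.ext ?_)
    exact (Subgroup.eq_bot_iff_forall _).1 hPfix _ ⟨P.mul_mem (P.inv_mem hp) hp',
      mem_fixer_of_center (A.mul_mem (A.inv_mem (hPle hp).1) (hPle hp').1)
        (cproj_eq_one.1 (by rw [map_mul, map_inv, ← hπ, e, inv_mul_cancel]))⟩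
  let pz : (↥K ⧸ center ↥K) → ↥K := fun z =>
    if hz : z ∈ Z then (hPonto z hz).choose else 1
  have hpz : ∀ z ∈ Z, (pz z : X) ∈ P ∧ π (pz z) = z := fun z hz => by
    simp only [pz, dif_pos hz]; exact (hPonto z hz).choose_spec
  letI : CommGroup ↥(center ↥K) :=
    { (inferInstance : Group ↥(center ↥K)) with
      mul_comm := fun a b => Subtype.ext (mem_center_iff.1 b.2 a) }
  let O : Subgroup ↥(center ↥K) :=
    { carrier := {v | v * v = 1}
      one_mem' := mul_one 1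
      mul_mem' := fun {a b} (ha : a * a = 1) (hb : b * b = 1) => by
        show a * b * (a * b) = 1
        rw [mul_mul_mul_comm, ha, hb, one_mul]
      inv_mem' := fun {a} (ha : a * a = 1) => by
        show a⁻¹ * a⁻¹ = 1
        rw [← mul_inv, ha, inv_one] }
  let sec := Function.surjInv (cproj_surjective K)
  have hsec : ∀ x, π (sec x) = x := Function.surjInv_eq (cproj_surjective K)
  let val : ↥K → ↥K := fun e => e * (pz (π e))⁻¹
  let β : (↥K ⧸ center ↥K) → (↥K ⧸ center ↥K) → ↥O := fun x y =>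
    if h : val ⁅sec x, sec y⁆ ∈ center ↥K ∧ val ⁅sec x, sec y⁆ * val ⁅sec x, sec y⁆ = 1 then
      ⟨⟨_, h.1⟩, Subtype.ext h.2⟩ else 1
  -- commutators in the preimage of the Sylow subgroup
  have hcZ : ∀ y y' : ↥K, π y ∈ (Qb : Subgroup (↥K ⧸ center ↥K)) →
      π y' ∈ (Qb : Subgroup (↥K ⧸ center ↥K)) → π ⁅y, y'⁆ ∈ Z := fun y y' hy hy' => by
    rw [map_commutatorElement]; exact c.facts.comm Qb _ hy _ hy'
  have hcen : ∀ y y' g : ↥K, π y ∈ (Qb : Subgroup (↥K ⧸ center ↥K)) →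
      π y' ∈ (Qb : Subgroup (↥K ⧸ center ↥K)) → π g ∈ (Qb : Subgroup (↥K ⧸ center ↥K)) →
      g * ⁅y, y'⁆ = ⁅y, y'⁆ * g := fun y y' g hy hy' hg => hMc _ _ (hcZ y y' hy hy') hg
  have hsq : ∀ y y' : ↥K, π y ∈ (Qb : Subgroup (↥K ⧸ center ↥K)) →
      π y' ∈ (Qb : Subgroup (↥K ⧸ center ↥K)) → (⁅y, y'⁆ : ↥K) * ⁅y, y'⁆ = 1 := by
    intro y y' hy hy'
    have h1 : (⁅y * y, y'⁆ : ↥K) = 1 := commutatorElement_eq_one_iff_mul_comm.2
      (hMc _ _ (by rw [map_mul]; exact c.facts.sq Qb _ hy) hy').symm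
    have h2 : (⁅y * y, y'⁆ : ↥K) = y * ⁅y, y'⁆ * y⁻¹ * ⁅y, y'⁆ := by
      simp [commutatorElement_def, mul_assoc]
    rw [h2, hcen y y' y hy hy' hy, mul_inv_cancel_right] at h1
    exact h1
  have hval : ∀ y y' : ↥K, π y ∈ (Qb : Subgroup (↥K ⧸ center ↥K)) →
      π y' ∈ (Qb : Subgroup (↥K ⧸ center ↥K)) →
      (((β (π y) (π y') : ↥O) : ↥(center ↥K)) : ↥K) = ⁅y, y'⁆ * (pz (π ⁅y, y'⁆))⁻¹ := by
    intro y y' hy hy'
    have e := Chart.comm_congr (hsec (π y)) (hsec (π y'))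
    obtain ⟨hp, hpe⟩ := hpz _ (hcZ y y' hy hy')
    have hm1 : ⁅y, y'⁆ * (pz (π ⁅y, y'⁆))⁻¹ ∈ center ↥K :=
      cproj_eq_one.1 (by rw [map_mul, map_inv, ← hπ, hpe, mul_inv_cancel])
    have hm : val ⁅sec (π y), sec (π y')⁆ ∈ center ↥K ∧
        val ⁅sec (π y), sec (π y')⁆ * val ⁅sec (π y), sec (π y')⁆ = 1 := by
      simp only [val, e]
      refine ⟨hm1, ?_⟩
      have hp2 : pz (π ⁅y, y'⁆) * pz (π ⁅y, y'⁆) = 1 := Subtype.ext (c.sq_one _ (hPle hp).1)
      have hpQ : π (pz (π ⁅y, y'⁆)) ∈ (Qb : Subgroup (↥K ⧸ center ↥K)) := by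
        rw [hpe]; exact (hcZ y y' hy hy').1
      rw [inv_eq_of_mul_eq_one_right hp2]
      generalize hpz' : pz (π ⁅y, y'⁆) = p at hp2 hpQ
      calc ⁅y, y'⁆ * p * (⁅y, y'⁆ * p) = ⁅y, y'⁆ * (p * ⁅y, y'⁆) * p := by group
        _ = (⁅y, y'⁆ * ⁅y, y'⁆) * (p * p) := by rw [hcen y y' p hy hy' hpQ]; group
        _ = 1 := by rw [hsq y y' hy hy', hp2, one_mul]
    show (((if h : _ then _ else _ : ↥O) : ↥(center ↥K)) : ↥K) = _
    rw [dif_pos hm]
    show val _ = _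
    simp only [val, e]
  have hcl : ∀ u v : ↥O, ((u : ↥(center ↥K)) : ↥K) = ((v : ↥(center ↥K)) : ↥K) → u = v :=
    fun u v e => Subtype.ext (Subtype.ext e)
  have hmulval : ∀ e e' : ↥K, π e ∈ Z → π e' ∈ Z →
      e * e' * (pz (π (e * e')))⁻¹ = e * (pz (π e))⁻¹ * (e' * (pz (π e'))⁻¹) := by
    intro e e' he he'
    obtain ⟨hp, hpe⟩ := hpz _ he
    obtain ⟨hp', hpe'⟩ := hpz _ he'
    obtain ⟨hp'', hpe''⟩ := hpz (π (e * e')) (by rw [map_mul]; exact mul_mem he he')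
    have h1 : pz (π (e * e')) = pz (π e) * pz (π e') :=
      huniq _ _ hp'' (P.mul_mem hp hp') (by rw [hpe'', map_mul, map_mul, hpe, hpe'])
    rw [h1]
    generalize hx : pz (π e) = p at hp hpe
    generalize hx' : pz (π e') = p' at hp' hpe'
    have hcomm : e' * p'⁻¹ * p⁻¹ = p⁻¹ * (e' * p'⁻¹) := by
      refine mem_center_iff.1 (cproj_eq_one.1 ?_) p⁻¹ |>.symm
      rw [map_mul, map_inv, ← hπ, hpe', mul_inv_cancel]
    calc e * e' * (p * p')⁻¹ = e * (e' * p'⁻¹ * p⁻¹) := by group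
      _ = _ := by rw [hcomm]; group
  have key := c.noForm ↥O (fun m => Subtype.ext m.2) β ?_ ?_ ?_ ?_ ?_
  · -- the derived group lies in `P`
    by_contra hne
    obtain ⟨⟨z, hz⟩, hz1⟩ := ne_bot_iff_exists_ne_one.1 hne
    obtain ⟨R, hR⟩ := ((Qb.isPGroup').comap_of_ker_isPGroup π (by
      rw [hπ, QuotientGroup.ker_mk']; exact c.two_center)).exists_le_sylow
    have hRQ : (R : Subgroup ↥K).map π = (Qb : Subgroup (↥K ⧸ center ↥K)) :=
      Qb.is_maximal' (R.isPGroup'.map π) fun x hx => by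
        obtain ⟨y, rfl⟩ := cproj_surjective K x
        exact ⟨y, hR hx, rfl⟩
    have hzR : z ∈ (R : Subgroup ↥K) := hR (by
      show π z ∈ (Qb : Subgroup (↥K ⧸ center ↥K))
      rw [show π z = 1 from cproj_eq_one.2 hz]; exact one_mem _)
    have hperf : commutator ↥K = ⊤ := c.comp.2.1.commutator_eq_top
    have h1 := ThreePrime.mem_commutator_sylow_of_center hperf R ⟨z, hzR⟩ hz
    have h2 : commutator ↥(R : Subgroup ↥K) ≤ (P.comap K.subtype).subgroupOf (R : Subgroup ↥K) := by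
      rw [_root_.commutator_def, commutator_le]
      intro a _ b _
      have ha : π (a : ↥K) ∈ (Qb : Subgroup (↥K ⧸ center ↥K)) := hRQ.le ⟨_, a.2, rfl⟩
      have hb : π (b : ↥K) ∈ (Qb : Subgroup (↥K ⧸ center ↥K)) := hRQ.le ⟨_, b.2, rfl⟩
      have h3 := hval a b ha hb
      rw [key _ ha _ hb] at h3
      show ((⁅(a : ↥K), (b : ↥K)⁆ : ↥K) : X) ∈ P
      rw [mul_inv_eq_one.1 h3.symm]
      exact (hpz _ (hcZ _ _ ha hb)).1
    have h4 : (z : X) ∈ P := h2 h1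
    refine hz1 (Subtype.ext (Subtype.ext ?_))
    exact (Subgroup.eq_bot_iff_forall _).1 hPfix _ ⟨h4, mem_fixer_of_center (hPle h4).1 hz⟩
  · intro x hx x' hx' w hw
    obtain ⟨y, rfl⟩ := cproj_surjective K x
    obtain ⟨y', rfl⟩ := cproj_surjective K x'
    obtain ⟨v, rfl⟩ := cproj_surjective K w
    apply hcl
    rw [← map_mul, hval _ v (by rw [map_mul]; exact mul_mem hx hx') hw, Subgroup.coe_mul,
      Subgroup.coe_mul, hval y v hx hw, hval y' v hx' hw,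
      ← hmulval _ _ (hcZ y v hx hw) (hcZ y' v hx' hw)]
    have : (⁅y * y', v⁆ : ↥K) = ⁅y, v⁆ * ⁅y', v⁆ := by
      calc ⁅y * y', v⁆ = y * ⁅y', v⁆ * y⁻¹ * ⁅y, v⁆ := by simp [commutatorElement_def, mul_assoc]
        _ = ⁅y', v⁆ * ⁅y, v⁆ := by rw [hcen y' v y hx' hw hx, mul_inv_cancel_right]
        _ = ⁅y, v⁆ * ⁅y', v⁆ := hcen y v _ hx hw (hcZ y' v hx' hw).1
    rw [this]
  · intro x hx x' hx' w hw
    obtain ⟨y, rfl⟩ := cproj_surjective K x
    obtain ⟨y', rfl⟩ := cproj_surjective K x'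
    obtain ⟨v, rfl⟩ := cproj_surjective K w
    apply hcl
    rw [← map_mul, hval v _ hw (by rw [map_mul]; exact mul_mem hx hx'), Subgroup.coe_mul,
      Subgroup.coe_mul, hval v y hw hx, hval v y' hw hx',
      ← hmulval _ _ (hcZ v y hw hx) (hcZ v y' hw hx')]
    have : (⁅v, y * y'⁆ : ↥K) = ⁅v, y⁆ * ⁅v, y'⁆ := by
      calc ⁅v, y * y'⁆ = ⁅v, y⁆ * (y * ⁅v, y'⁆ * y⁻¹) := by simp [commutatorElement_def, mul_assoc]
        _ = ⁅v, y⁆ * ⁅v, y'⁆ := by rw [hcen v y' y hw hx' hx, mul_inv_cancel_right]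
    rw [this]
  · intro x hx
    obtain ⟨y, rfl⟩ := cproj_surjective K x
    apply hcl
    rw [hval y y hx hx, commutatorElement_self, one_mul, map_one,
      huniq (pz 1) 1 (hpz 1 (one_mem _)).1 P.one_mem (by rw [(hpz 1 (one_mem _)).2, map_one]),
      inv_one]
    rfl
  · intro z hz x hx
    obtain ⟨m, rfl⟩ := cproj_surjective K z
    obtain ⟨y, rfl⟩ := cproj_surjective K x
    apply hcl
    have h1 : (⁅m, y⁆ : ↥K) = 1 := commutatorElement_eq_one_iff_mul_comm.2 (hMc m y hz hx).symm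
    rw [hval m y hz.1 hx, h1, one_mul, map_one,
      huniq (pz 1) 1 (hpz 1 (one_mem _)).1 P.one_mem (by rw [(hpz 1 (one_mem _)).2, map_one]),
      inv_one]
    rfl
  · intro x hx x' hx'
    obtain ⟨y, rfl⟩ := cproj_surjective K x
    obtain ⟨y', rfl⟩ := cproj_surjective K x'
    apply hcl
    have hn : ∀ w : ↥K, π w ∈ (Qb : Subgroup (↥K ⧸ center ↥K)) →
        π (h * w * h⁻¹) ∈ (Qb : Subgroup (↥K ⧸ center ↥K)) := fun w hw => by
      rw [map_mul, map_mul, map_inv]; exact (mem_normalizer_iff.1 c.mem_norm _).1 hw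
    have e : ∀ w : ↥K, π h * π w * (π h)⁻¹ = π (h * w * h⁻¹) := fun w => by
      rw [map_mul, map_mul, map_inv]
    rw [e, e, hval _ _ (hn y hx) (hn y' hx'), hval y y' hx hx']
    have hcm : (⁅h * y * h⁻¹, h * y' * h⁻¹⁆ : ↥K) = h * ⁅y, y'⁆ * h⁻¹ := by
      simp [commutatorElement_def, mul_assoc]
    obtain ⟨hp, hpe⟩ := hpz _ (hcZ y y' hx hx')
    obtain ⟨hp', hpe'⟩ := hpz (π (h * ⁅y, y'⁆ * h⁻¹)) (hcm ▸ hcZ _ _ (hn y hx) (hn y' hx'))
    have h1 : pz (π (h * ⁅y, y'⁆ * h⁻¹)) = h * pz (π ⁅y, y'⁆) * h⁻¹ :=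
      huniq _ _ hp' (by simpa using (mem_normalizer_iff.1 hhP _).1 hp)
        (by rw [hpe', map_mul π _ h⁻¹, map_mul π h, map_mul π _ h⁻¹, map_mul π h, hpe])
    rw [hcm, h1]
    calc h * ⁅y, y'⁆ * h⁻¹ * (h * pz (π ⁅y, y'⁆) * h⁻¹)⁻¹
        = h * (⁅y, y'⁆ * (pz (π ⁅y, y'⁆))⁻¹) * h⁻¹ := by group
      _ = ⁅y, y'⁆ * (pz (π ⁅y, y'⁆))⁻¹ := by
        rw [mem_center_iff.1 (cproj_eq_one.1 (by rw [map_mul, map_inv, ← hπ, hpe, mul_inv_cancel])) h,
          mul_inv_cancel_right]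

omit c in
theorem card_comap (S : Subgroup (↥K ⧸ center ↥K)) :
    Nat.card ↥(S.comap (cproj K)) = Nat.card ↥(center ↥K) * Nat.card ↥S := by
  have hk : (cproj K).ker ≤ S.comap (cproj K) := MonoidHom.ker_le_comap _ _
  have h := Subgroup.relIndex_mul_relIndex ⊥ (cproj K).ker (S.comap (cproj K)) bot_le hk
  rw [relIndex_bot_left, relIndex_bot_left, ← MonoidHom.comap_bot, relIndex_comap,
    map_comap_eq_self_of_surjective (cproj_surjective K), relIndex_bot_left,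
    MonoidHom.comap_bot, QuotientGroup.ker_mk'] at h
  exact h.symm

/-- The structure of a covering component. -/
theorem cover (hV : center ↥K ≠ ⊥) : q = 8 ∧ ∃ (Q : Subgroup X) (h' : X), CoverData A K Q h' := by
  classical
  set π := cproj K with hπ
  set Qs := (Qb : Subgroup (↥K ⧸ center ↥K)) with hQs
  set Z := centre Qs with hZ
  obtain ⟨hq, h64, htm⟩ := c.delta.resolve_left fun hd =>
    hV (c.center_eq_bot_of_commute (c.commute_of_noDelta hd))
  refine ⟨hq, (Qs.comap π).map K.subtype, h, ?_⟩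
  have hmemQ : ∀ x : X, x ∈ (Qs.comap π).map K.subtype ↔ ∃ y : ↥K, π y ∈ Qs ∧ (y : X) = x :=
    fun x => Iff.rfl
  have hcentA : ∀ y : ↥K, π y ∈ Z → (y : X) ∈ centralizer (A : Set X) := by
    intro y hy
    obtain ⟨b, hb, hz⟩ := c.exists_of_centre hy
    have hz' : ((b⁻¹ * y : ↥K) : X) ∈ centralizer (A : Set X) := by
      refine mem_centralizer_iff.2 fun a ha => ?_
      obtain ⟨b', hb', hf⟩ := c.act a ha
      have h1 : b' * ((b⁻¹ * y : ↥K) : X) = ((b⁻¹ * y : ↥K) : X) * b' :=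
        congrArg Subtype.val (mem_center_iff.1 hz ⟨b', hb'.2⟩)
      have h2 := mem_centralizer_iff.1 hf.2 _ (b⁻¹ * y).2
      generalize ((b⁻¹ * y : ↥K) : X) = z at h1 h2
      calc a * z = b' * (b'⁻¹ * a * z) := by group
        _ = b' * z * (b'⁻¹ * a) := by rw [← h2]; group
        _ = z * a := by rw [h1]; group
    have hb' : (b : X) ∈ centralizer (A : Set X) :=
      mem_centralizer_iff.2 fun a ha => c.commute a ha _ hb
    simpa using mul_mem hb' hz'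
  have hhpow : ∀ (k : ℕ) (g : X), g ∈ centralizer (A : Set X) →
      (h : X) ^ k * g * ((h : X) ^ k)⁻¹ ∈ centralizer (A : Set X) := by
    intro k g hg
    refine mem_centralizer_iff.2 fun a ha => ?_
    have h1 : ((h : X) ^ k)⁻¹ * a * (h : X) ^ k ∈ A := by
      have := (mem_normalizer_iff.1 (inv_mem (c.norm_pow k)) a).1 ha
      rwa [inv_inv] at this
    have h2 := mem_centralizer_iff.1 hg _ h1
    calc a * ((h : X) ^ k * g * ((h : X) ^ k)⁻¹)
        = (h : X) ^ k * ((((h : X) ^ k)⁻¹ * a * (h : X) ^ k) * g) * ((h : X) ^ k)⁻¹ := by group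
      _ = _ := by rw [h2]; group
  -- elements outside the preimage of the centre move `A`
  have hnc : ∀ y : ↥K, π y ∈ Qs → π y ∉ Z → (y : X) ∉ centralizer (A : Set X) := by
    intro y hy hyZ hyC
    refine hV (c.center_eq_bot_of_commute fun x hx b hb => ?_)
    refine Subtype.ext (Eq.symm ?_)
    show (b : X) * x = x * b
    refine mem_centralizer_iff.1 ?_ _ hb
    by_cases hxZ : π x ∈ Z
    · exact hcentA x hxZ
    obtain ⟨k, hk⟩ := htm _ hy _ hx hyZ hxZ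
    have h1 : π ((h ^ k * y * (h ^ k)⁻¹)⁻¹ * x) ∈ Z := by
      rwa [map_mul, map_inv, map_mul, map_mul, map_inv, map_pow]
    have h2 := mul_mem (hhpow k _ hyC) (hcentA _ h1)
    simpa [mul_assoc] using h2
  have hC : (Qs.comap π).map K.subtype ⊓ centralizer (A : Set X) = (Z.comap π).map K.subtype := by
    ext x
    constructor
    · rintro ⟨⟨y, hy, rfl⟩, hx⟩
      exact ⟨y, by_contra fun hyZ => hnc y hy hyZ hx, rfl⟩
    · rintro ⟨y, hy, rfl⟩
      exact ⟨⟨y, hy.1, rfl⟩, hcentA y hy⟩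
  have hcomm : ∀ a ∈ A, ∀ y : ↥K, π y ∈ Qs → (⁅a, (y : X)⁆ : X) ∈ fixer A K ⊓ K := by
    intro a ha y hy
    obtain ⟨b, hb, hf⟩ := c.act a ha
    have hfy : (b⁻¹ * a) * (y : X) = (y : X) * (b⁻¹ * a) :=
      (mem_centralizer_iff.1 hf.2 _ y.2).symm
    have h1 : (⁅a, (y : X)⁆ : X) = ((⁅y, ⟨b, hb.2⟩⁆⁻¹ : ↥K) : X) := by
      rw [commutatorElement_inv]
      show a * y * a⁻¹ * (y : X)⁻¹ = b * y * b⁻¹ * (y : X)⁻¹
      calc a * y * a⁻¹ * (y : X)⁻¹ = b * ((b⁻¹ * a) * y) * a⁻¹ * (y : X)⁻¹ := by group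
        _ = _ := by rw [hfy]; group
    rw [h1]
    exact ⟨(fixer A K).inv_mem (mem_fixer_of_center (c.comm_mem hy hb.1).2 (c.comm_mem hy hb.1).1),
      SetLike.coe_mem _⟩
  have hcardC : Nat.card ↥Qs = 64 := h64
  have hcardZ : Nat.card ↥Z = 8 := by rw [hZ, hQs, c.facts.card_centre, hq]
  refine ⟨map_subtype_le _, h.2, c.norm_A, ?_, ?_, ?_, ?_, ?_, ?_, ?_, ?_⟩
  · refine Coprime.mem_normalizer_of_forall ?_
    rintro _ ⟨y, hy, rfl⟩
    refine ⟨h * y * h⁻¹, ?_, rfl⟩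
    show π (h * y * h⁻¹) ∈ Qs
    rw [map_mul, map_mul, map_inv]
    exact (mem_normalizer_iff.1 c.mem_norm _).1 hy
  · rintro _ ⟨y, hy, rfl⟩
    exact Coprime.mem_normalizer_of_forall fun a ha => c.conj_mem y hy a ha
  · rintro _ ⟨y, -, rfl⟩
    exact mem_centralizer_iff.2 fun f hf => (mem_centralizer_iff.1 hf.2 _ y.2).symm
  · refine commutator_le.2 fun a ha x hx => ?_
    obtain ⟨y, hy, rfl⟩ := (hmemQ x).1 hx
    exact hcomm a ha y hy
  · intro hle
    refine hV (c.center_eq_bot_of_commute fun y hy b hb => Subtype.ext ?_)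
    exact (mem_centralizer_iff.1 (hle ⟨y, hy, rfl⟩) _ hb).symm
  · rw [hC, card_map_of_injective K.subtype_injective, card_map_of_injective K.subtype_injective,
      Chart.card_comap, Chart.card_comap, hcardC, hcardZ]
    exact le_of_eq (by ring)
  · rintro _ ⟨x, hx, rfl⟩ _ ⟨y, hy, rfl⟩ hxC hyC
    obtain ⟨k, hk⟩ := htm _ hx _ hy (fun e => hxC ⟨⟨x, hx, rfl⟩, hcentA x e⟩)
      (fun e => hyC ⟨⟨y, hy, rfl⟩, hcentA y e⟩)
    refine ⟨k, ?_⟩
    rw [hC]
    refine ⟨(h ^ k * x * (h ^ k)⁻¹)⁻¹ * y, ?_, by simp⟩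
    show π ((h ^ k * x * (h ^ k)⁻¹)⁻¹ * y) ∈ Z
    rwa [map_mul, map_inv, map_mul, map_mul, map_inv, map_pow]
  · intro p hp
    obtain ⟨x₀, hx₀, hx₀Z⟩ : ∃ x₀ ∈ Qs, x₀ ∉ Z := by
      by_contra hno
      push Not at hno
      have := Subgroup.card_le_card_group (H := Z.subgroupOf Qs)
      have h1 : Qs ≤ Z := fun x hx => hno x hx
      have := Subgroup.card_le_of_le h1
      omega
    obtain ⟨y₀, rfl⟩ := cproj_surjective K x₀
    obtain ⟨b, hb, hf⟩ := c.act p hp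
    have hmove : ∀ x : ↥K, π x ∈ Qs → π x ∉ Z → (x : X) * b = b * x →
        ∃ x' ∈ (Qs.comap π).map K.subtype, x' ∉ centralizer (A : Set X) ∧ x' * p = p * x' := by
      intro x hx hxZ hxb
      refine ⟨x, ⟨x, hx, rfl⟩, hnc x hx hxZ, ?_⟩
      have h1 := mem_centralizer_iff.1 hf.2 _ x.2
      calc (x : X) * p = (x : X) * b * (b⁻¹ * p) := by group
        _ = b * ((x : X) * (b⁻¹ * p)) := by rw [hxb]; group
        _ = p * x := by rw [h1]; group
    by_cases hz1 : π ⟨b, hb.2⟩ = 1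
    · exact hmove y₀ hx₀ hx₀Z
        (congrArg Subtype.val (mem_center_iff.1 (cproj_eq_one.1 hz1) y₀))
    obtain ⟨k, hk⟩ := c.torus.trans _ (c.facts.sq Qb _ hx₀) _ (c.mem_centre ⟨b, hb.2⟩ hb.1)
      (fun e => hx₀Z ((c.facts.omega Qb _ hx₀).1 e)) hz1
    have hpowQ : ∀ j : ℕ, π h ^ j * π y₀ * (π h ^ j)⁻¹ ∈ Qs ∧ π h ^ j * π y₀ * (π h ^ j)⁻¹ ∉ Z := by
      intro j
      have hN := pow_mem c.mem_norm j
      have hZn : π h ^ j ∈ normalizer (Z : Set (↥K ⧸ center ↥K)) := pow_mem c.torus.mem j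
      exact ⟨(mem_normalizer_iff.1 hN _).1 hx₀, fun e => hx₀Z ((mem_normalizer_iff.1 hZn _).2 e)⟩
    set x := h ^ k * y₀ * (h ^ k)⁻¹ with hx
    have hπx : π x = π h ^ k * π y₀ * (π h ^ k)⁻¹ := by
      rw [hx, map_mul, map_mul, map_inv, map_pow]
    refine hmove x (hπx ▸ (hpowQ k).1) (hπx ▸ (hpowQ k).2) ?_
    have hz : (x * x)⁻¹ * ⟨b, hb.2⟩ ∈ center ↥K := cproj_eq_one.1 (by
      rw [map_mul, map_inv, map_mul, ← hπ, hπx, ← hk, hπ]
      group)
    have h2 : x * ⟨b, hb.2⟩ = ⟨b, hb.2⟩ * x := by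
      calc x * ⟨b, hb.2⟩ = x * x * (x * ((x * x)⁻¹ * ⟨b, hb.2⟩)) := by group
        _ = x * x * (((x * x)⁻¹ * ⟨b, hb.2⟩) * x) := by rw [mem_center_iff.1 hz x]
        _ = _ := by group
    exact congrArg Subtype.val h2

end Chart

/-- The data of a moved component. -/
theorem compData (L : Local X T A) (hM : Moved A K) : ∃ q : ℕ, CompData A K q := by
  obtain ⟨q, Qb, h, c⟩ := exists_chart L hM
  obtain ⟨P, hP1, hP2, hP3, hP4, -, hP5⟩ := c.exists_complement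
  exact ⟨q, c.shape, c.norm, c.two_center, c.sup, c.card,
    ⟨h, h.2, c.norm_A, by rw [Subgroup.orderOf_coe]; exact c.odd, ⟨P, hP1, hP2, hP3, hP4, hP5⟩,
      fun w hwK hw ht => c.unique hwK hw ht⟩,
    fun F hF hne hs => c.solv hF hne hs, c.cover⟩

end Cfsg.Agent.Goldschmidt.General
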