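import Cfsg.Agent.Lib.Goldschmidt.General.Setup
import Cfsg.Agent.Lib.Goldschmidt.General.Targets
import Cfsg.Agent.Lib.Signalizer.SSFT.Main
import Cfsg.Agent.Lib.Signalizer.KFamily
import Cfsg.Agent.Lib.Components.KBalance
import Cfsg.Agent.Lib.Components.LocalBalance
import Cfsg.Agent.Lib.OddOrderTheorem.Basic

/-!
# The signalizer functor for a frame (owner: helper60)

* `balanced_wrt` : `Δ(D) ∩ C(a) ≤ O(C(a))` for `D ≤ A` of order `2 ^ k`
* `isSignalizerFunctor_delta` : the functor of a family balanced with respect to `A`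
* `functorTarget`
-/

set_option autoImplicit false
set_option linter.unusedSectionVars false
set_option linter.style.haveILetI false

namespace Cfsg.Agent.Goldschmidt.General

open Cfsg Subgroup

universe u

/-- The balanced functor, with balance only assumed inside `A`. -/
theorem isSignalizerFunctor_delta {G : Type u} [Group G] [Finite G] {p k : ℕ} [hp : Fact p.Prime] (hk : 1 ≤ k)
    {A : Subgroup G} (hA : Cfsg.IsElementaryAbelian p A) (hAk : p ^ (k + 2) ≤ Nat.card A)
    (hbal : ∀ D : Subgroup G, D ≤ A → Nat.card D = p ^ k → ∀ a ∈ A, a ≠ 1 →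
      Cfsg.signalizerDelta p D ⊓ centralizer {a} ≤ Cfsg.centralizerPPrimeCore p a)
    (hsolv : ∀ a ∈ A, a ≠ 1 → Group.IsSolvable ↥(Cfsg.centralizerPPrimeCore p a)) :
    Cfsg.IsSignalizerFunctor p A (fun a => ⨆ D : {D : Subgroup G // D ≤ A ∧ Nat.card ↥D = p ^ k},
      Cfsg.signalizerDelta p (D : Subgroup G) ⊓ centralizer {a}) := by
  have hA1 : A ≠ ⊥ := Signalizer.ne_bot_of_pow_le (by omega) hAk
  have hΔA : ∀ D : Subgroup G, D ≤ A → A ≤ normalizer (Cfsg.signalizerDelta p D : Set G) :=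
    fun D hD => Signalizer.le_normalizer_of_conj_mem fun a ha x hx => mem_iInf.2 fun d =>
      Signalizer.conj_mem (Signalizer.invariant_core hA.1 (hD d.2.1)) ha (mem_iInf.1 hx d)
  have hCA : ∀ a ∈ A, A ≤ normalizer (centralizer ({a} : Set G) : Set G) := by
    intro a ha
    rw [← centralizer_closure, ← zpowers_eq_closure]
    exact Signalizer.le_normalizer_centralizer (Signalizer.le_normalizer_of_commute fun u hu v hv =>
      Signalizer.commute_of_isMulCommutative hA.1 hu (zpowers_le.2 ha hv))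
  have hθcore : ∀ a ∈ A, a ≠ 1 → (⨆ D : {D : Subgroup G // D ≤ A ∧ Nat.card ↥D = p ^ k},
      Cfsg.signalizerDelta p (D : Subgroup G) ⊓ centralizer {a}) ≤
        Cfsg.centralizerPPrimeCore p a :=
    fun a ha ha1 => iSup_le fun D => hbal D D.2.1 D.2.2 a ha ha1
  refine ⟨fun a _ _ => iSup_le fun D => inf_le_right,
    fun a ha ha1 => Signalizer.not_dvd_card_of_le (hθcore a ha ha1) (Signalizer.not_dvd_card_core a),
    fun a ha _ c hc x hx => Signalizer.conj_mem (Signalizer.le_normalizer_iSup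
      fun D : {D : Subgroup G // D ≤ A ∧ Nat.card ↥D = p ^ k} =>
      Signalizer.le_normalizer_inf (hΔA D D.2.1) (hCA a ha)) hc hx, fun a ha ha1 b hb' hb1 => ?_⟩
  have hfam : Signalizer.IsKFamily p k A (Cfsg.centralizerPPrimeCore p a)
      (fun D => Cfsg.signalizerDelta p D ⊓ centralizer {a}) := by
    refine ⟨fun D hD hDk => le_inf (hbal D hD hDk a ha ha1) fun x hx => mem_centralizer_iff.2
        fun d hd => ?_, fun D hD _ => Signalizer.le_normalizer_inf (hΔA D hD) (hCA a ha),
      fun D hD hDk D' hD' hDk' x hx => ⟨mem_iInf.2 fun d => ?_, hx.1.2⟩⟩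
    · by_cases hd1 : d = 1
      · rw [hd1, one_mul, mul_one]
      · exact (mem_centralizer_singleton_iff.1 (Signalizer.core_le_centralizer (p := p) d
          (mem_iInf.1 hx.1 ⟨d, hd, hd1⟩))).symm
    · exact hbal D hD hDk d (hD' d.2.1) d.2.2
        ⟨hx.1.1, Signalizer.centralizer_le_singleton d.2.1 hx.2⟩
  refine Signalizer.le_of_hyperplanes hA hA1 _ _
    (Signalizer.not_dvd_card_of_le (inf_le_left.trans (hθcore a ha ha1)) (Signalizer.not_dvd_card_core a))
    (Signalizer.le_normalizer_inf (Signalizer.le_normalizer_iSup fun D =>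
      Signalizer.le_normalizer_inf (hΔA D D.2.1) (hCA a ha)) (hCA b hb')) fun H hH hi => ?_
  have hHk : p ^ k ≤ Nat.card H := by
    have h := Signalizer.card_hyperplane_mul hH hi
    rw [← h, show k + 2 = (k + 1) + 1 by omega, pow_succ] at hAk
    exact (Nat.pow_le_pow_right hp.out.pos (by omega)).trans
      (Nat.le_of_mul_le_mul_right hAk hp.out.pos)
  obtain ⟨D, -, hDH, hDk⟩ := Signalizer.exists_between hA (bot_le : ⊥ ≤ H) hH
    (by rw [card_bot]; exact Nat.one_le_pow _ _ hp.out.pos) hHk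
  intro x hx
  refine le_iSup (fun D : {D : Subgroup G // D ≤ A ∧ Nat.card ↥D = p ^ k} =>
    Cfsg.signalizerDelta p (D : Subgroup G) ⊓ centralizer {b}) ⟨D, hDH.trans hH, hDk⟩ ⟨?_, hx.1.2⟩
  exact (hfam.inf_centralizer_le hk hA hAk (hsolv a ha ha1) (Signalizer.not_dvd_card_core a)
    (Signalizer.invariant_core hA.1 ha) (hDH.trans hH) hDk ⟨hx.1.1, centralizer_le hDH hx.2⟩).1

variable {G : Type u} [Group G] [Finite G] {S : Sylow 2 G} {A : Subgroup G}

/-- `Δ(D) ∩ C(a) ≤ O(C(a))`. -/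
theorem balanced_wrt (C : Ctx G S A) (hloc : LocalsHold A) {k : ℕ} {Ps : Set (Subgroup G)} (hF : Frame A k Ps)
    (D : Subgroup G) (hD : D ≤ A) (hDk : Nat.card D = 2 ^ k) (a : G) (ha : a ∈ A) (ha1 : a ≠ 1) :
    signalizerDelta 2 D ⊓ centralizer {a} ≤ centralizerPPrimeCore 2 a := by
  haveI : Fact (Nat.Prime 2) := ⟨Nat.prime_two⟩
  have hDC : D ≤ centralizer ({a} : Set G) := hD.trans (C.le_centralizer_of_mem ha)
  set E := (D.subgroupOf (centralizer ({a} : Set G))).map (proj a) with hEdef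
  have hEA : E ≤ bar A a := map_mono fun x hx => hD hx
  have hEk : Nat.card ↥E = 2 ^ k := by
    rw [← hDk, ← Nat.card_congr (subgroupOfEquivOfLe hDC).toEquiv]
    have hinj : Function.Injective ((proj a).comp (D.subgroupOf (centralizer ({a} : Set G))).subtype) := by
      rw [injective_iff_map_eq_one]
      exact fun x hx => Subtype.ext (Subtype.ext (C.eq_one_of_proj ha (hD x.2) hx))
    rw [hEdef, Nat.card_congr (MonoidHom.ofInjective hinj).toEquiv, MonoidHom.range_comp, range_subtype]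
  have hEne : E ≠ ⊥ := fun e => by
    rw [e, card_bot] at hEk
    have : 2 ^ 1 ≤ 2 ^ k := Nat.pow_le_pow_right (by norm_num) hF.pos
    omega
  have hF' := hloc a ha ha1
  have hbar : signalizerDelta 2 E = ⊥ := by
    rw [eq_bot_iff]
    intro x hx
    refine hF'.balanced E hEA hEne (fun b => centralizerPPrimeCore 2 b) (fun b _ _ =>
      ⟨Nat.coprime_two_right.1 (Components.coprime_card_centralizerPPrimeCore (p := 2) b),
        Components.centralizerPPrimeCore_le_centralizer_singleton b,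
        Components.centralizer_le_normalizer_centralizerPPrimeCore b⟩) (fun K hK => ?_) x
      (fun b hb hb1 => mem_iInf.1 hx ⟨b, hb, hb1⟩)
    obtain ⟨q, hq⟩ := hF'.data K hK
    obtain ⟨hz, hkind, -, -⟩ := hF.kind a K q ⟨ha, ha1, hK, hq⟩
    rcases hkind with hr | hlt
    · exact Or.inr ⟨hz, q, hr⟩
    refine Or.inl fun e => ?_
    have hcomm : fixer (bar A a) K ≤ normalizer (E : Set (Bar a)) := by
      refine Signalizer.le_normalizer_of_commute fun u hu v hv => ?_
      obtain ⟨u', hu', rfl⟩ := hu.1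
      obtain ⟨v', hv', rfl⟩ := hEA hv
      rw [← map_mul, ← map_mul]
      exact congrArg _ (Subtype.ext (C.comm hu' hv'))
    have h1 := PLocal.card_sup_mul_card_inf (H := E) (K := fixer (bar A a) K) hcomm
    rw [e, card_bot, mul_one, hEk] at h1
    have h2 : Nat.card ↥(E ⊔ fixer (bar A a) K) ≤ q * Nat.card ↥(fixer (bar A a) K) :=
      (card_le_of_le (sup_le hEA inf_le_left)).trans_eq hq.card
    rw [h1] at h2
    exact hlt.not_ge (Nat.le_of_mul_le_mul_right h2 Nat.card_pos)
  have h1 := Components.map_signalizerDelta_inf_le (p := 2) a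
    (fun b hb => by rw [pow_two]; exact C.sq (hD hb)) hDC
  rw [← hEdef, hbar, le_bot_iff, Subgroup.map_eq_bot_iff, QuotientGroup.ker_mk'] at h1
  rintro x ⟨hx, hxC⟩
  exact ⟨⟨x, hxC⟩, h1 (mem_subgroupOf.mpr ⟨hx, hxC⟩), rfl⟩

/-- The functor gives a strongly embedded subgroup unless all the signalizers are trivial. -/
theorem functorTarget : FunctorTarget.{u} := by
  intro hC G _ _ S A C hloc k Ps hF
  haveI : Fact (Nat.Prime 2) := ⟨Nat.prime_two⟩
  haveI := C.simple
  have hbal := balanced_wrt C hloc hF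
  have hodd : ∀ a : G, Odd (Nat.card ↥(centralizerPPrimeCore 2 a)) := fun a =>
    Nat.coprime_two_right.1 (Components.coprime_card_centralizerPPrimeCore (p := 2) a)
  have hsolv : ∀ a ∈ A, a ≠ 1 → Group.IsSolvable ↥(centralizerPPrimeCore 2 a) :=
    fun a _ _ => OddOrderTheorem.solvable (hodd a)
  have hfun := isSignalizerFunctor_delta hF.pos C.elemAb hF.card hbal hsolv
  set θ : G → Subgroup G := fun a => ⨆ D : {D : Subgroup G // D ≤ A ∧ Nat.card ↥D = 2 ^ k},
      Cfsg.signalizerDelta 2 (D : Subgroup G) ⊓ centralizer {a} with hθdef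
  have hθcore : ∀ a ∈ A, a ≠ 1 → θ a ≤ centralizerPPrimeCore 2 a := fun a ha ha1 =>
    iSup_le fun D => hbal D D.2.1 D.2.2 a ha ha1
  have hθs : IsSolvableSignalizerFunctor 2 A θ := ⟨hfun, fun a ha ha1 =>
    OddOrderTheorem.solvable ((hodd a).of_dvd_nat (card_dvd_of_le (hθcore a ha ha1)))⟩
  have hA3 : 2 ^ 3 ≤ Nat.card ↥A := (Nat.pow_le_pow_right (by norm_num) (by have := hF.pos; omega)).trans hF.card
  obtain ⟨-, hWodd, -⟩ := Signalizer.solvable_signalizer_functor C.elemAb hA3 hθs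
  set W := ⨆ a : {a : G // a ∈ A ∧ a ≠ 1}, θ a with hW
  have hle : ∀ a ∈ A, a ≠ 1 → θ a ≤ W := fun a ha ha1 =>
    le_iSup (fun a : {a : G // a ∈ A ∧ a ≠ 1} => θ a) ⟨a, ha, ha1⟩
  have hΔodd : ∀ D : Subgroup G, D ≤ A → Nat.card D = 2 ^ k → ¬ 2 ∣ Nat.card ↥(signalizerDelta 2 D) := by
    intro D hD hDk
    obtain ⟨⟨b, hb⟩, hb1'⟩ := ne_bot_iff_exists_ne_one.1
      (Signalizer.ne_bot_of_pow_le (p := 2) (Nat.one_le_iff_ne_zero.1 hF.pos) hDk.ge)
    exact Signalizer.not_dvd_card_of_le
      (Components.signalizerDelta_le hb fun h => hb1' (Subtype.ext h)) (Signalizer.not_dvd_card_core b)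
  have hΔA : ∀ D : Subgroup G, D ≤ A → A ≤ normalizer (signalizerDelta 2 D : Set G) :=
    fun D hD => Signalizer.le_normalizer_of_conj_mem fun a ha x hx => mem_iInf.2 fun d =>
      Signalizer.conj_mem (Signalizer.invariant_core C.elemAb.1 (hD d.2.1)) ha (mem_iInf.1 hx d)
  -- every `Δ(D)` lies in `W`
  have hΔW : ∀ D : Subgroup G, D ≤ A → Nat.card D = 2 ^ k → signalizerDelta 2 D ≤ W := fun D hD hDk =>
    Signalizer.le_of_elements C.elemAb ((Nat.pow_le_pow_right (by norm_num) (by norm_num)).trans hA3) _ _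
      (hΔodd D hD hDk) (hΔA D hD) fun a ha ha1 => le_trans
        (le_iSup (fun D : {D : Subgroup G // D ≤ A ∧ Nat.card ↥D = 2 ^ k} =>
          Cfsg.signalizerDelta 2 (D : Subgroup G) ⊓ centralizer {a}) ⟨D, hD, hDk⟩) (hle a ha ha1)
  by_cases hW1 : W = ⊥
  · exact Or.inr fun D hD hDk => le_bot_iff.1 ((hΔW D hD hDk).trans hW1.le)
  left
  set M := normalizer (W : Set G) with hM
  have hMtop : M ≠ ⊤ := fun e => by
    rcases (normalizer_eq_top_iff.1 e).eq_bot_or_eq_top with h | h
    · exact hW1 h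
    · obtain ⟨a, ha, ha1⟩ := (Subgroup.bot_or_exists_ne_one A).resolve_left C.ne
      refine hWodd (h ▸ ?_)
      rw [Subgroup.card_top, ← orderOf_eq_prime (p := 2) (by rw [pow_two, C.sq ha]) ha1]
      exact orderOf_dvd_natCard a
  have hnorm : ∀ g : G, W.map (MulAut.conj g).toMonoidHom ≤ W → g ∈ M := fun g hg =>
    mem_normalizer_iff_map_conj_eq.2
      (eq_of_le_of_card_ge hg (card_map_of_injective (MulAut.conj g).injective).ge)
  -- conjugates of `Δ(D)`
  have hΔconj : ∀ (g : G) (D : Subgroup G), (signalizerDelta 2 D).map (MulAut.conj g).toMonoidHom ≤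
      signalizerDelta 2 (D.map (MulAut.conj g).toMonoidHom) := by
    intro g D
    refine le_iInf ?_
    rintro ⟨_, ⟨d, hd, rfl⟩, hd1⟩
    exact (map_mono (Components.signalizerDelta_le hd fun h => hd1 (by rw [h, map_one]))).trans
      (Components.centralizerPPrimeCore_map_le (MulAut.conj g) d)
  have hWle : W ≤ ⨆ D : {D : Subgroup G // D ≤ A ∧ Nat.card ↥D = 2 ^ k}, signalizerDelta 2 (D : Subgroup G) :=
    iSup_le fun a => iSup_le fun D => le_iSup_of_le D inf_le_left
  have hNA : normalizer (A : Set G) ≤ M := fun g hg => hnorm g (by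
    refine (map_mono hWle).trans ?_
    rw [Subgroup.map_iSup]
    refine iSup_le fun D => (hΔconj g D).trans (hΔW _ ?_ ?_)
    · rintro _ ⟨d, hd, rfl⟩
      exact (mem_normalizer_iff.1 hg d).1 (D.2.1 hd)
    · rw [card_map_of_injective (MulAut.conj g).injective, D.2.2])
  have hcentE : ∀ E : Subgroup G, E ≤ A → 2 ^ (k + 1) ≤ Nat.card ↥E → centralizer (E : Set G) ≤ M := by
    intro E hEA hE g hg
    have hEe := Signalizer.elemAb_of_le C.elemAb hEA
    have hWE : W ≤ ⨆ D : {D : Subgroup G // D ≤ E ∧ Nat.card ↥D = 2 ^ k}, signalizerDelta 2 (D : Subgroup G) := by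
      refine hWle.trans (iSup_le fun D => ?_)
      refine Signalizer.le_of_hyperplanes hEe (Signalizer.ne_bot_of_pow_le (p := 2) (Nat.succ_ne_zero k) hE) _ _
        (hΔodd D D.2.1 D.2.2) (hEA.trans (hΔA D D.2.1)) fun H hHE hi => ?_
      have hHk : 2 ^ k ≤ Nat.card ↥H := by
        have := Signalizer.card_hyperplane_mul hHE hi
        rw [← this, pow_succ] at hE
        exact Nat.le_of_mul_le_mul_right hE (by norm_num)
      obtain ⟨D', -, hD'H, hD'k⟩ := Signalizer.exists_between hEe (bot_le : ⊥ ≤ H) hHE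
        (by rw [card_bot]; exact Nat.one_le_two_pow) hHk
      refine le_iSup_of_le ⟨D', hD'H.trans hHE, hD'k⟩ (le_iInf fun e => ?_)
      exact (inf_le_inf_left _ (Signalizer.centralizer_le_singleton (hD'H e.2.1))).trans
        (hbal D D.2.1 D.2.2 e (hEA (hHE (hD'H e.2.1))) e.2.2)
    refine hnorm g ((map_mono hWE).trans ?_)
    rw [Subgroup.map_iSup]
    refine iSup_le fun D => (hΔconj g D).trans ?_
    have e : (D : Subgroup G).map (MulAut.conj g).toMonoidHom = D := by
      have hfix : ∀ d ∈ (D : Subgroup G), g * d * g⁻¹ = d := fun d hd => by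
        rw [← mem_centralizer_iff.1 hg d (D.2.1 hd), mul_inv_cancel_right]
      ext y
      exact ⟨fun ⟨d, hd, hy⟩ => hy ▸ ((hfix d hd).symm ▸ hd : g * d * g⁻¹ ∈ (D : Subgroup G)),
        fun hy => ⟨y, hy, hfix y hy⟩⟩
    rw [e]
    exact hΔW D (D.2.1.trans hEA) D.2.2
  refine C.se_of_le hC hMtop fun a ha ha1 => ?_
  set H := centralizer ({a} : Set G) with hH
  have hRM : pPrimeCore 2 ↥H ≤ M.subgroupOf H := by
    have h1 : centralizerPPrimeCore 2 a ≤ M :=
      Signalizer.le_of_hyperplanes C.elemAb C.ne _ _ (Signalizer.not_dvd_card_core a)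
        (Signalizer.invariant_core C.elemAb.1 ha) fun B hB hi => inf_le_right.trans (hcentE B hB (by
          have h := Signalizer.card_hyperplane_mul hB hi
          have h2 := hF.card
          rw [← h, pow_succ] at h2
          exact Nat.le_of_mul_le_mul_right h2 (by norm_num)))
    exact fun r hr => mem_subgroupOf.2 (h1 ⟨r, hr, rfl⟩)
  have key : (M.subgroupOf H).map (proj a) = ⊤ := by
    refine (hloc a ha ha1).decomp _ (fun x hx => ?_) fun K hK x hxK => ?_
    · obtain ⟨z, rfl⟩ := QuotientGroup.mk'_surjective _ x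
      obtain ⟨y, hy, hye⟩ := C.normalizer_lift (C.le_centralizer_of_mem ha) hx
      exact ⟨y, mem_subgroupOf.2 (hNA hy), hye⟩
    · obtain ⟨q, hq⟩ := (hloc a ha ha1).data K hK
      obtain ⟨-, -, hbig, -⟩ := hF.kind a K q ⟨ha, ha1, hK, hq⟩
      set B := fixerAt A a K with hB
      have hBA : B ≤ A := inf_le_left
      have hBH : B ≤ H := hBA.trans (C.le_centralizer_of_mem ha)
      have hB2 : IsPGroup 2 ↥(B.subgroupOf H) :=
        (C.two.to_le hBA).comap_of_injective H.subtype H.subtype_injective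
      obtain ⟨z, rfl⟩ := QuotientGroup.mk'_surjective _ x
      have hzc : proj a z ∈ centralizer ((((B.subgroupOf H).map (proj a)) : Subgroup (Bar a)) : Set (Bar a)) := by
        refine mem_centralizer_iff.2 ?_
        rintro _ ⟨w, hw, rfl⟩
        have h1 := (C.mem_pull ha (hBA hw)).1 hw
        exact (mem_centralizer_iff.1 h1 _ hxK).symm
      rw [Components.centralizer_map_of_coprime hB2 _ (Cores.coprime_card_pPrimeCore 2)] at hzc
      obtain ⟨y, hy, hye⟩ := hzc
      refine ⟨y, mem_subgroupOf.2 (hcentE B hBA hbig (mem_centralizer_iff.2 fun b hb => ?_)), hye⟩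
      exact congrArg Subtype.val (mem_centralizer_iff.1 hy ⟨b, hBH hb⟩ (mem_subgroupOf.2 hb))
  intro x hx
  obtain ⟨m, hm, hme⟩ := (key ▸ mem_top (proj a ⟨x, hx⟩) : proj a ⟨x, hx⟩ ∈ (M.subgroupOf H).map (proj a))
  have h1 : m⁻¹ * (⟨x, hx⟩ : ↥H) ∈ M.subgroupOf H := hRM (QuotientGroup.eq.1 hme)
  have h2 := mul_mem hm h1
  rw [mul_inv_cancel_left] at h2
  exact mem_subgroupOf.1 h2

end Cfsg.Agent.Goldschmidt.General
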