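import Cfsg.Agent.Lib.Goldschmidt.General.Layers.Basic
import Cfsg.Agent.Lib.Goldschmidt.General.Targets

/-!
# The layers, when the signalizers are trivial (owner: helper87; section Layers of `GENERAL.md`)

Without blocks the centralisers of members lie in `N(A)`.  Otherwise `J = ⟨L_P⟩`: two layers
normalise each other, so `J` is proper, and `N(J)` contains `N(A)`, the centraliser of each complement
`C_R = L_R (N(A) ∩ C(C_R))` and of each hyperplane, so the centralisers of all members.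

* `Hyp.layer_le_normalizer` : two layers normalise each other
* `Hyp.co_le_normalizer_all`, `Hyp.hyperplane_le` : the centralisers in `N(J)`
* `layersTarget` : the target
-/

set_option autoImplicit false
set_option linter.unusedSectionVars false
set_option linter.style.haveILetI false

namespace Cfsg.Agent.Goldschmidt.General.Layers

open Cfsg Subgroup

universe u

variable {G : Type u} [Group G] [Finite G] {S : Sylow 2 G} {A : Subgroup G} {k : ℕ}
  {Ps : Set (Subgroup G)} (H : Hyp S A k Ps)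
include H

theorem Hyp.exists_third {P R : Subgroup G} (hP : P ∈ Ps) :
    ∃ Q ∈ Ps, Q ≠ P ∧ Q ≠ R := by
  by_contra! hall
  have h3 := H.frame.three ⟨P, hP⟩
  have hsub : Ps ⊆ {P, R} := fun Q hQ => by
    by_cases e : Q = P
    · exact Or.inl e
    · exact Or.inr (hall Q hQ e)
  have h4 := Set.ncard_le_ncard hsub (Set.toFinite _)
  have h5 := Set.ncard_insert_le P ({R} : Set (Subgroup G))
  rw [Set.ncard_singleton] at h5
  omega

/-- Two layers normalise each other. -/
theorem Hyp.layer_le_normalizer {P R : Subgroup G} (hP : P ∈ Ps) (hR : R ∈ Ps) (hne : R ≠ P) :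
    blockLayer Ps R ≤ normalizer (blockLayer Ps P : Set G) := by
  haveI : Fact (Nat.Prime 2) := ⟨Nat.prime_two⟩
  set E := coBlock Ps P ⊓ coBlock Ps R with hEdef
  have hEle : E ≤ coBlock Ps P := inf_le_left
  have hER : ∀ {y : G}, y ∈ blockLayer Ps R → y ∈ centralizer (E : Set G) := fun hy =>
    centralizer_le (inf_le_right : E ≤ coBlock Ps R) (H.layer_le hR hy)
  have hcoR : ∀ R' ∈ Ps, R' ≠ P → E ≤ coBlock Ps R' → R' = R := by
    intro R' hR' hne' hle
    by_contra hneR
    exact H.not_le_co hR' ((le_inf (H.le_co hR' hne') (H.le_co hR' hneR)).trans hle)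
  by_cases hk : 2 ^ k ≤ Nat.card ↥E
  · exact fun x hx => H.mem_normalizer_layer hP hEle hk (hER hx) fun R' hR' hne' hle => by
      obtain rfl := hcoR R' hR' hne' hle
      exact H.layer_le hR hx
  obtain ⟨Q, hQ, hQP, hQR⟩ := H.exists_third (R := R) hP
  have hQE : Q ≤ E := le_inf (H.le_co hQ hQP) (H.le_co hQ hQR)
  have hQ2 := Nat.le_of_dvd Nat.card_pos (Subgroup.card_dvd_of_le hQE)
  have hk1 : k ≠ 1 := fun e => hk (by
    have := H.frame.four Q hQ
    rw [e, pow_one]
    omega)
  -- centralisers of the non-trivial members of `R`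
  set N := blockLayer Ps R ⊓ normalizer (blockLayer Ps P : Set G) with hN
  have key : ∀ p ∈ R, p ≠ 1 → ∀ y ∈ blockLayer Ps R, Commute y p → y ∈ N := by
    intro p hp hp1 y hy hyp
    have hpA := (H.frame.le R hR).1 hp
    have hpR : p ∉ coBlock Ps R := fun h => hp1 ((Subgroup.eq_bot_iff_forall _).1
      (H.frame.indep R hR) p ⟨hp, h⟩)
    set E' := E ⊔ zpowers p
    have hzp : zpowers p ≤ coBlock Ps P := zpowers_le.2 (H.le_co hR hne hp)
    have hk' : 2 ^ k ≤ Nat.card ↥E' := by
      have hinf : E ⊓ zpowers p = ⊥ := (Subgroup.eq_bot_iff_forall _).2 fun z hz => by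
        obtain ⟨i, hi⟩ := mem_zpowers_iff.1 hz.2
        rcases Int.even_or_odd' i with ⟨j, rfl | rfl⟩
        · rw [← hi, zpow_mul, zpow_two, H.ctx.sq hpA, one_zpow]
        · exfalso
          refine hpR ?_
          rw [zpow_add, zpow_one, zpow_mul, zpow_two, H.ctx.sq hpA, one_zpow, one_mul] at hi
          exact hi ▸ hz.1.2
      rw [H.card_sup (hEle.trans (H.co_le P)) (zpowers_le.2 hpA) hinf, Nat.card_zpowers,
        orderOf_eq_prime (p := 2) (by rw [pow_two, H.ctx.sq hpA]) hp1]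
      have h1 := (H.frame.small P hP).resolve_left hk1
      rw [H.frame.same P hP Q hQ] at h1
      omega
    refine ⟨hy, H.mem_normalizer_layer hP (sup_le hEle hzp) hk' ?_ fun R' hR' hne' hle => ?_⟩
    · refine mem_centralizer_iff.2 fun z hz => ?_
      obtain ⟨s, hs, t, ht, rfl⟩ := H.exists_mul (hEle.trans (H.co_le P)) (zpowers_le.2 hpA) hz
      obtain ⟨i, rfl⟩ := mem_zpowers_iff.1 ht
      exact (Commute.mul_left (mem_centralizer_iff.1 (hER hy) s hs : Commute s y)
        (hyp.symm.zpow_left i)).eq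
    · obtain rfl := hcoR R' hR' hne' (le_sup_left.trans hle)
      exact absurd (hle (mem_sup_right (mem_zpowers p))) hpR
  -- they generate `L_R`
  obtain ⟨f, hf, hf1⟩ := (Subgroup.bot_or_exists_ne_one (coBlock Ps R)).resolve_left fun hb => by
    have h1 := H.frame.big R hR
    rw [hb, Subgroup.card_bot] at h1
    have := Nat.pow_le_pow_right (n := 2) two_pos (show 1 ≤ k + 1 by omega)
    omega
  obtain ⟨M, hM, hsm⟩ := H.exists_top hR hf hf1
  have hsmall := hsm.resolve_left hk1
  set X := centralizer ({f} : Set G)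
  set π : ↥M →* ↥M ⧸ Subgroup.center ↥M := QuotientGroup.mk' _
  have hπ : Function.Injective π := by
    rw [← MonoidHom.ker_eq_bot_iff, QuotientGroup.ker_mk']
    exact (H.frame.kind f M _ hM.moved).1
  have hRX : R ≤ X := (H.frame.le R hR).1.trans (H.ctx.le_centralizer_of_mem hM.moved.mem)
  have hRM : ∀ (r : G) (hr : r ∈ R), proj f ⟨r, hRX hr⟩ ∈ M := fun r hr =>
    (mem_pre.1 ((hM.part_eq.ge hr).2 : r ∈ pre f M)).2
  let ψ : ↥R →* ↥M ⧸ Subgroup.center ↥M :=
    π.comp (((proj f).comp (Subgroup.inclusion hRX)).codRestrict M fun r => hRM r r.2)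
  have hψ : Function.Injective ψ := by
    rw [injective_iff_map_eq_one]
    intro r hr
    by_contra hr1
    have h1 := hπ (hr.trans (map_one π).symm)
    exact H.proj_ne_one hM.moved.mem ((H.frame.le R hR).1 r.2) (fun e => hr1 (Subtype.ext e))
      (congrArg Subtype.val h1)
  have h2 : IsPGroup 2 ↥ψ.range := by
    refine IsPGroup.of_surjective ?_ ψ.rangeRestrict ψ.rangeRestrict_surjective
    exact H.ctx.two.to_le (H.frame.le R hR).1
  obtain ⟨Syl, hSyl⟩ := h2.exists_le_sylow
  have hSeq : ψ.range = (Syl : Subgroup _) := eq_of_le_of_card_ge hSyl (by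
    rw [(hsmall.sylow Syl).2, ← Nat.card_congr (MonoidHom.ofInjective hψ).toEquiv])
  -- the image of `N`
  set I : Subgroup (↥M ⧸ Subgroup.center ↥M) :=
    (((N.subgroupOf X).map (proj f)).subgroupOf M).map π
  have hI : I = ⊤ := by
    refine top_unique ((hsmall.gen Syl).ge.trans (iSup_le ?_))
    rintro ⟨z, hz, hz1⟩
    obtain ⟨r, rfl⟩ : z ∈ ψ.range := hSeq ▸ hz
    have hr1 : (r : G) ≠ 1 := fun e => hz1 (by rw [show r = 1 from Subtype.ext e, map_one])
    intro w hw
    obtain ⟨m, rfl⟩ := QuotientGroup.mk'_surjective _ w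
    have hc : m * ⟨proj f ⟨r, hRX r.2⟩, hRM r r.2⟩ = ⟨proj f ⟨r, hRX r.2⟩, hRM r r.2⟩ * m :=
      hπ (by rw [map_mul, map_mul]; exact mem_centralizer_singleton_iff.1 hw)
    obtain ⟨y, hy, hyX, hym⟩ := H.covers hR hf hM m.2
    have hrL : (r : G) ∈ blockLayer Ps R := H.le_layer R r.2
    have hcomm : y * r * y⁻¹ * (r : G)⁻¹ = 1 := by
      refine H.eq_one_of_layer hR hf
        (mul_mem (mul_mem (mul_mem hy hrL) (inv_mem hy)) (inv_mem hrL))
        (mul_mem (mul_mem (mul_mem hyX (hRX r.2)) (inv_mem hyX)) (inv_mem (hRX r.2))) ?_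
      show proj f (⟨y, hyX⟩ * ⟨r, hRX r.2⟩ * ⟨y, hyX⟩⁻¹ * ⟨r, hRX r.2⟩⁻¹) = 1
      rw [map_mul, map_mul, map_mul, map_inv, map_inv, hym]
      have hc' := congrArg Subtype.val hc
      simp only [Subgroup.coe_mul] at hc'
      rw [hc', mul_inv_cancel_right, mul_inv_cancel]
    have hyr : Commute y (r : G) := by
      rw [mul_inv_eq_one, mul_inv_eq_iff_eq_mul] at hcomm
      exact hcomm
    exact ⟨m, mem_subgroupOf.2 ⟨⟨y, hyX⟩, mem_subgroupOf.2 (key r r.2 hr1 y hy hyr), hym⟩, rfl⟩
  intro y hy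
  obtain ⟨hyX, hyM⟩ := mem_pre.1 (H.layer_le_pre hf hM hy)
  obtain ⟨m, hm, hme⟩ := (hI ▸ mem_top (π ⟨_, hyM⟩) : π ⟨_, hyM⟩ ∈ I)
  obtain ⟨z, hz, hzm⟩ := mem_subgroupOf.1 hm
  rw [hπ hme] at hzm
  have hzN : (z : G) ∈ N := mem_subgroupOf.1 hz
  have h4 : (z : G)⁻¹ * y = 1 := H.eq_one_of_layer hR hf (mul_mem (inv_mem hzN.1) hy)
    (mul_mem (inv_mem z.2) hyX) (by
      show proj f (z⁻¹ * ⟨y, hyX⟩) = 1
      rw [map_mul, map_inv, hzm]
      exact inv_mul_cancel _)
  exact (inv_mul_eq_one.1 h4) ▸ hzN.2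

/-- The centraliser of a complement. -/
theorem Hyp.co_le_normalizer_all {R : Subgroup G} (hR : R ∈ Ps) {M : Subgroup G}
    (hN : normalizer (A : Set G) ≤ M) (hL : blockLayer Ps R ≤ M) :
    centralizer (coBlock Ps R : Set G) ≤ M := by
  haveI : Fact (Nat.Prime 2) := ⟨Nat.prime_two⟩
  intro w hw
  set L := blockLayer Ps R
  have hRA := (H.frame.le R hR).1
  have hR2 : IsPGroup 2 ↥(R.subgroupOf L) :=
    (H.ctx.two.to_le hRA).comap_of_injective L.subtype L.subtype_injective
  obtain ⟨P₁, hP₁⟩ := hR2.exists_le_sylow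
  set R' := R.map (MulAut.conj w).toMonoidHom
  have hR'L : R' ≤ L := by
    rintro _ ⟨r, hr, rfl⟩
    exact (mem_normalizer_iff.1 (H.co_le_normalizer_layer R hw) r).1 (H.le_layer R hr)
  have hR'2 : IsPGroup 2 ↥(R'.subgroupOf L) :=
    ((H.ctx.two.to_le hRA).map _).comap_of_injective L.subtype L.subtype_injective
  obtain ⟨P₂, hP₂⟩ := hR'2.exists_le_sylow
  obtain ⟨l, hl⟩ := MulAction.exists_smul_eq ↥L P₂ P₁
  set n := (l : G) * w with hn
  have hlC : (l : G) ∈ centralizer (coBlock Ps R : Set G) := H.layer_le hR l.2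
  have hnC : n ∈ centralizer (coBlock Ps R : Set G) := mul_mem hlC hw
  have hP2 : IsPGroup 2 ↥((P₁ : Subgroup ↥L).map L.subtype ⊔ A : Subgroup G) := by
    refine IsPGroup.to_sup_of_normal_right' (P₁.isPGroup'.map L.subtype) H.ctx.two ?_
    rintro _ ⟨z, hz, rfl⟩
    refine Coprime.mem_normalizer_of_forall fun x hx => ?_
    obtain ⟨r, hr, c, hc, rfl⟩ := H.exists_mul hRA (H.co_le R) ((H.frame.sup R hR).ge hx)
    have hzc : (z : G) * c = c * z := (mem_centralizer_iff.1 (H.layer_le hR z.2) c hc).symm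
    rw [show L.subtype z * (r * c) * (L.subtype z)⁻¹ = (z : G) * r * (z : G)⁻¹ * ((z : G) * c * (z : G)⁻¹) by
      show (z : G) * (r * c) * (z : G)⁻¹ = _; group, hzc, mul_inv_cancel_right]
    refine A.mul_mem ?_ (H.co_le R hc)
    have hmem : (z : G) * r * (z : G)⁻¹ ∈ (P₁ : Subgroup ↥L).map L.subtype :=
      ⟨z * ⟨r, H.le_layer R hr⟩ * z⁻¹,
        mul_mem (mul_mem hz (hP₁ (mem_subgroupOf.2 hr))) (inv_mem hz), rfl⟩
    have hT : (z : G) * r * (z : G)⁻¹ ∈ classSet A :=
      H.ctx.elemT.closed.conj _ _ (H.ctx.subset (hRA hr))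
    -- a 2-group over `A` holding `P₁`
    have hcP : coBlock Ps R ≤ normalizer (((P₁ : Subgroup ↥L).map L.subtype : Subgroup G) : Set G) := by
      refine fun c hc => centralizer_le_normalizer _ (mem_centralizer_iff.2 ?_)
      rintro _ ⟨y, hy, rfl⟩
      exact (mem_centralizer_iff.1 (H.layer_le hR y.2) c hc).symm
    have hQ2 := IsPGroup.to_sup_of_normal_left' (P₁.isPGroup'.map L.subtype)
      (H.ctx.two.to_le (H.co_le R)) hcP
    refine H.ctx.mem_of_mem hQ2 ?_ (mem_sup_left hmem) hT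
    rw [← H.frame.sup R hR]
    exact sup_le_sup_right (fun r hr => ⟨⟨r, H.le_layer R hr⟩, hP₁ (mem_subgroupOf.2 hr), rfl⟩) _
  have hnA : n ∈ normalizer (A : Set G) := by
    refine Coprime.mem_normalizer_of_forall fun x hx => ?_
    obtain ⟨r, hr, c, hc, rfl⟩ := H.exists_mul hRA (H.co_le R) ((H.frame.sup R hR).ge hx)
    rw [show n * (r * c) * n⁻¹ = n * r * n⁻¹ * (n * c * n⁻¹) by group,
      ← mem_centralizer_iff.1 hnC c hc, mul_inv_cancel_right]
    refine A.mul_mem ?_ (H.co_le R hc)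
    have hmem : n * r * n⁻¹ ∈ (P₁ : Subgroup ↥L).map L.subtype := by
      refine ⟨l * ⟨w * r * w⁻¹, hR'L ⟨r, hr, rfl⟩⟩ * l⁻¹, ?_, ?_⟩
      · rw [SetLike.mem_coe, ← hl, Sylow.coe_subgroup_smul, Coprime.mem_conj]
        have h1 : (⟨w * r * w⁻¹, hR'L ⟨r, hr, rfl⟩⟩ : ↥L) ∈ (P₂ : Subgroup ↥L) :=
          hP₂ (mem_subgroupOf.2 ⟨r, hr, rfl⟩)
        simpa [mul_assoc] using h1
      · show (l : G) * (w * r * w⁻¹) * (l : G)⁻¹ = _
        rw [hn]
        group
    exact H.ctx.mem_of_mem hP2 le_sup_right (mem_sup_left hmem)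
      (H.ctx.elemT.closed.conj _ _ (H.ctx.subset (hRA hr)))
  have h1 := mul_mem (inv_mem (hL l.2)) (hN hnA)
  rwa [hn, inv_mul_cancel_left] at h1

/-- The centraliser of a hyperplane normalises every layer. -/
theorem Hyp.hyperplane_le {P : Subgroup G} (hP : P ∈ Ps) {B : Subgroup G} (hBA : B ≤ A)
    (hB : B.relIndex A = 2) : centralizer (B : Set G) ≤ normalizer (blockLayer Ps P : Set G) := by
  intro x hx
  have hle : (B ⊓ coBlock Ps P).relIndex (coBlock Ps P) ≤ 2 := by
    rw [inf_relIndex_right]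
    exact hB ▸ relIndex_le_of_le_right (H.co_le P) (by rw [hB]; norm_num)
  have hcard : Nat.card ↥(coBlock Ps P) ≤ 2 * Nat.card ↥(B ⊓ coBlock Ps P : Subgroup G) := by
    have h1 := card_mul_index ((B ⊓ coBlock Ps P).subgroupOf (coBlock Ps P))
    rw [Nat.card_congr (subgroupOfEquivOfLe inf_le_right).toEquiv] at h1
    rw [← h1, mul_comm 2]
    exact Nat.mul_le_mul_left _ hle
  refine H.mem_normalizer_layer hP inf_le_right ?_ (centralizer_le inf_le_left hx)
    fun R hR hne hER => ?_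
  · have h1 := H.frame.big P hP
    rw [pow_succ] at h1
    omega
  · exfalso
    have h1 := H.card_co_inf hR hne
    have h2 := Nat.le_of_dvd Nat.card_pos (Subgroup.card_dvd_of_le
      (le_inf inf_le_right hER : B ⊓ coBlock Ps P ≤ coBlock Ps P ⊓ coBlock Ps R))
    have h3 := H.frame.four R hR
    have h4 : 0 < Nat.card ↥(B ⊓ coBlock Ps P : Subgroup G) := Nat.card_pos
    nlinarith

/-- Without moved components the cores are trivial. -/
theorem Hyp.core_eq_bot (hPs : Ps = ∅) {a : G} (ha : a ∈ A) :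
    centralizerPPrimeCore 2 a = ⊥ := by
  haveI : Fact (Nat.Prime 2) := ⟨Nat.prime_two⟩
  have hA2 : 2 ^ 2 ≤ Nat.card ↥A := le_trans (Nat.pow_le_pow_right two_pos (by omega)) H.frame.card
  have hO := Components.coprime_card_centralizerPPrimeCore (p := 2) a
  refine le_bot_iff.1 (Signalizer.le_of_hyperplanes H.ctx.elemAb H.ctx.ne ⊥ _
    ((Fact.out : Nat.Prime 2).coprime_iff_not_dvd.1 hO.symm) ?_ fun B hBA hB x hx => ?_)
  · exact (H.ctx.le_centralizer_of_mem ha).trans
      (Components.centralizer_le_normalizer_centralizerPPrimeCore a)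
  -- `x` lies in all cores at members of the hyperplane
  have key : ∀ h ∈ B, h ≠ 1 → x ∈ centralizerPPrimeCore 2 h := by
    intro h hh hh1
    have hhA := hBA hh
    set X := centralizer ({h} : Set G)
    set D₀ := centralizerPPrimeCore 2 a ⊓ X
    set aX : ↥X := ⟨a, H.ctx.le_centralizer_of_mem hhA ha⟩
    have hab : proj h aX * proj h aX = 1 := by
      rw [← map_mul, show aX * aX = 1 from Subtype.ext (H.ctx.sq ha), map_one]
    refine mem_core.2 ⟨mem_centralizer_singleton_iff.2 (mem_centralizer_iff.1 hx.2 h hh).symm, ?_⟩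
    by_cases ha1 : proj h aX = 1
    · have ha1' : a = 1 := H.ctx.eq_one_of_proj hhA ha ha1
      subst ha1'
      have hx1 : x ∈ centralizerPPrimeCore 2 (1 : G) := hx.1
      have hcore : centralizerPPrimeCore 2 (1 : G) = ⊥ := by
        refine le_bot_iff.1 fun z hz => ?_
        obtain ⟨y, hy, rfl⟩ := hz
        have e : centralizer ({(1 : G)} : Set G) = ⊤ := by
          rw [centralizer_eq_top_iff_subset]; simp
        have h1 := Cores.map_pPrimeCore_le (centralizer ({(1 : G)} : Set G)).subtype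
          (fun g => ⟨⟨g, e ▸ mem_top g⟩, rfl⟩) 2 ⟨y, hy, rfl⟩
        rwa [H.ctx.core_eq_bot] at h1
      rw [hcore, mem_bot] at hx1
      rw [show (⟨x, _⟩ : ↥X) = 1 from Subtype.ext hx1, map_one]
    refine (H.loc h hhA hh1).balanced (zpowers (proj h aX))
      (zpowers_le.2 ⟨aX, mem_subgroupOf.2 ha, rfl⟩) (fun e => ha1 (zpowers_eq_bot.1 e))
      (fun _ => (D₀.subgroupOf X).map (proj h)) (fun b hb hb1 => ?_) (fun K hK => ?_) _ fun b hb hb1 => ?_
    · obtain rfl : b = proj h aX := by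
        obtain ⟨i, rfl⟩ := mem_zpowers_iff.1 hb
        rcases Int.even_or_odd' i with ⟨j, rfl | rfl⟩
        · exact absurd (by rw [zpow_mul, zpow_two, hab, one_zpow]) hb1
        · rw [zpow_add, zpow_one, zpow_mul, zpow_two, hab, one_zpow, one_mul]
      refine ⟨(Nat.coprime_two_right.1 hO).of_dvd_nat ((Subgroup.card_map_dvd _ _).trans ?_), ?_, ?_⟩
      · rw [Nat.card_congr (subgroupOfEquivOfLe (inf_le_right : D₀ ≤ X)).toEquiv]
        exact Subgroup.card_dvd_of_le inf_le_left
      · rintro _ ⟨d, hd, rfl⟩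
        refine mem_centralizer_singleton_iff.2 ?_
        rw [← map_mul, ← map_mul]
        exact congrArg (proj h) (Subtype.ext (mem_centralizer_singleton_iff.1
          (Components.centralizerPPrimeCore_le_centralizer_singleton a (mem_subgroupOf.1 hd).1)))
      · intro z hz
        have haX : IsPGroup 2 ↥(zpowers aX) :=
          ClosedPair.isPGroup_zpowers_of_sq (Subtype.ext (H.ctx.sq ha))
        have hz' : z ∈ centralizer (((zpowers aX).map (proj h) : Subgroup (Bar h)) : Set (Bar h)) := by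
          rw [MonoidHom.map_zpowers, zpowers_eq_closure, centralizer_closure]
          exact hz
        rw [Components.centralizer_map_of_coprime haX _ (Cores.coprime_card_pPrimeCore 2)] at hz'
        obtain ⟨y, hy, rfl⟩ := hz'
        refine le_normalizer_map (proj h) ⟨y, mem_normalizer_iff.2 fun d => ?_, rfl⟩
        have hya : (y : G) ∈ centralizer ({a} : Set G) := mem_centralizer_singleton_iff.2
          (congrArg Subtype.val (mem_centralizer_iff.1 hy aX (mem_zpowers aX))).symm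
        have h1 := mem_normalizer_iff.1
          (Components.centralizer_le_normalizer_centralizerPPrimeCore (p := 2) a hya) (d : G)
        rw [mem_subgroupOf, mem_subgroupOf]
        exact ⟨fun hd => ⟨h1.1 hd.1, (y * d * y⁻¹).2⟩, fun hd => ⟨h1.2 hd.1, d.2⟩⟩
    · obtain ⟨q, hq⟩ := (H.loc h hhA hh1).data K hK
      obtain ⟨-, -, -, R, hR, -⟩ := H.frame.kind h K q ⟨hhA, hh1, hK, hq⟩
      exact absurd (hPs ▸ hR : R ∈ (∅ : Set (Subgroup G))) (Set.notMem_empty R)
    · exact ⟨_, mem_subgroupOf.2 ⟨hx.1, mem_centralizer_singleton_iff.2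
        (mem_centralizer_iff.1 hx.2 h hh).symm⟩, rfl⟩
  have hBk : 2 ^ k ≤ Nat.card ↥(B.subgroupOf A) := by
    rw [Nat.card_congr (subgroupOfEquivOfLe hBA).toEquiv]
    have h1 := Signalizer.card_hyperplane_mul hBA hB
    have h2 := H.frame.card
    rw [pow_succ, pow_succ] at h2
    omega
  obtain ⟨D, hDB, hD⟩ := Sylow.exists_subgroup_le_card_pow_prime_of_le_card Nat.prime_two
    H.ctx.two (H := B.subgroupOf A) (n := k) hBk
  rw [← H.delta (D.map A.subtype) (map_subtype_le D)
    (by rw [card_map_of_injective A.subtype_injective, hD])]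
  refine mem_iInf.2 fun d => key d.1 ?_ d.2.2
  obtain ⟨d', hd', e⟩ := d.2.1
  exact e ▸ mem_subgroupOf.1 (hDB hd')

/-- A subgroup holding `N(A)`, the cores and the centralisers of the complements holds the
centralisers of the members. -/
theorem Hyp.centralizer_le {M : Subgroup G} (hN : normalizer (A : Set G) ≤ M)
    (hC : ∀ R ∈ Ps, centralizer (coBlock Ps R : Set G) ≤ M) {a : G} (ha : a ∈ A) (ha1 : a ≠ 1)
    (hO : centralizerPPrimeCore 2 a ≤ M) : centralizer ({a} : Set G) ≤ M := by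
  set X := centralizer ({a} : Set G)
  have hAX : A ≤ X := H.ctx.le_centralizer_of_mem ha
  have htop : (M.subgroupOf X).map (proj a) = ⊤ := by
    refine (H.loc a ha ha1).decomp _ (fun z hz => ?_) fun K hK m hm => ?_
    · obtain ⟨z₀, rfl⟩ := QuotientGroup.mk'_surjective _ z
      obtain ⟨y, hy, hye⟩ := H.ctx.normalizer_lift hAX hz
      exact ⟨y, mem_subgroupOf.2 (hN hy), hye⟩
    · obtain ⟨q, hq⟩ := (H.loc a ha ha1).data K hK
      obtain ⟨-, -, -, R, hR, hRfix⟩ := H.frame.kind a K q ⟨ha, ha1, hK, hq⟩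
      obtain ⟨y, hy, hyX, hym⟩ := H.exists_lift ha hRfix hm
      exact ⟨⟨y, hyX⟩, mem_subgroupOf.2 (hC R hR hy), hym⟩
  intro x hx
  obtain ⟨m, hm, hme⟩ := (htop ▸ mem_top (proj a ⟨x, hx⟩) :
    proj a ⟨x, hx⟩ ∈ (M.subgroupOf X).map (proj a))
  have h1 : ((m⁻¹ * ⟨x, hx⟩ : ↥X) : G) ∈ M := hO (mem_core.2 ⟨(m⁻¹ * ⟨x, hx⟩ : ↥X).2, by
    rw [map_mul, map_inv, hme, inv_mul_cancel]⟩)
  have h2 := mul_mem (mem_subgroupOf.1 hm) h1
  simpa using h2

/-- The step. -/
theorem Hyp.stronglyEmbedded (hC : Aschbacher.CoreFreeCriterion.{u}) : HasStronglyEmbedded G := by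
  haveI : Fact (Nat.Prime 2) := ⟨Nat.prime_two⟩
  haveI := H.ctx.simple
  rcases Set.eq_empty_or_nonempty Ps with hPs | ⟨P₀, hP₀⟩
  · refine H.ctx.se_of_le hC H.ctx.normalizer_ne_top fun a ha ha1 => ?_
    exact H.centralizer_le le_rfl (fun R hR => absurd (hPs ▸ hR) (Set.notMem_empty R)) ha ha1
      (by rw [H.core_eq_bot hPs ha]; exact bot_le)
  set J : Subgroup G := ⨆ P : {P : Subgroup G // P ∈ Ps}, blockLayer Ps P with hJ
  set M := normalizer (J : Set G)
  have hleJ : ∀ P ∈ Ps, blockLayer Ps P ≤ J := fun P hP =>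
    le_iSup (fun P : {P : Subgroup G // P ∈ Ps} => blockLayer Ps P) ⟨P, hP⟩
  have hall : ∀ x : G, (∀ P ∈ Ps, x ∈ normalizer (blockLayer Ps P : Set G)) → x ∈ M := fun x hx =>
    Coprime.mem_normalizer_of_forall fun z hz => by
      have h1 : J ≤ J.comap (MulAut.conj x).toMonoidHom := iSup_le fun P y hy =>
        hleJ P P.2 ((mem_normalizer_iff.1 (hx P P.2) y).1 hy)
      exact h1 hz
  have hNA : normalizer (A : Set G) ≤ M := fun n hn => Coprime.mem_normalizer_of_forall fun z hz => by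
    have h1 : J ≤ J.comap (MulAut.conj n).toMonoidHom := iSup_le fun P => (Subgroup.closure_le _).2 (by
      rintro _ ⟨w, hw, p, hp, rfl⟩
      set P' := (P.1).map (MulAut.conj n).toMonoidHom
      have hP' : P' ∈ Ps := H.frame.conj P P.2 n hn
      refine hleJ P' hP' (Subgroup.subset_closure ⟨n * w * n⁻¹, mem_centralizer_iff.2 fun c hc => ?_,
        n * p * n⁻¹, ⟨p, hp, rfl⟩, by simp only [MulEquiv.coe_toMonoidHom, MulAut.conj_apply]; group⟩)
      have hle : coBlock Ps P' ≤ (coBlock Ps P.1).map (MulAut.conj n).toMonoidHom :=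
        iSup₂_le fun R hR r hr => by
          set R' := R.map (MulAut.conj n⁻¹).toMonoidHom with hR'
          have hR'Ps : R' ∈ Ps := H.frame.conj R hR.1 _ (inv_mem hn)
          have hback : R'.map (MulAut.conj n).toMonoidHom = R := by
            rw [hR', map_map]
            convert R.map_id using 2
            ext x
            simp [mul_assoc]
          have hne : R' ≠ P.1 := fun e => hR.2 (by
            show R = P'
            rw [← hback, e])
          rw [← hback] at hr
          exact map_mono (H.le_co hR'Ps hne) hr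
      obtain ⟨c', hc', rfl⟩ := hle hc
      show n * c' * n⁻¹ * (n * w * n⁻¹) = n * w * n⁻¹ * (n * c' * n⁻¹)
      calc n * c' * n⁻¹ * (n * w * n⁻¹) = n * (c' * w) * n⁻¹ := by group
        _ = n * (w * c') * n⁻¹ := by rw [mem_centralizer_iff.1 hw c' hc']
        _ = _ := by group)
    exact h1 hz
  have hcore : ∀ a ∈ A, centralizerPPrimeCore 2 a ≤ M := fun a ha => by
    refine Signalizer.le_of_hyperplanes H.ctx.elemAb H.ctx.ne M _
      ((Fact.out : Nat.Prime 2).coprime_iff_not_dvd.1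
        (Components.coprime_card_centralizerPPrimeCore (p := 2) a).symm) ?_ fun B hBA hB x hx => ?_
    · exact (H.ctx.le_centralizer_of_mem ha).trans
        (Components.centralizer_le_normalizer_centralizerPPrimeCore a)
    · exact hall x fun P hP => H.hyperplane_le hP hBA hB hx.2
  refine H.ctx.se_of_le hC (M := M) ?_ fun a ha ha1 =>
    H.centralizer_le hNA (fun R hR => H.co_le_normalizer_all hR hNA
      ((hleJ R hR).trans le_normalizer)) ha ha1 (hcore a ha)
  intro htop
  obtain ⟨p, hp, hp1⟩ := (Subgroup.bot_or_exists_ne_one P₀).resolve_left (H.frame.le P₀ hP₀).2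
  rcases (normalizer_eq_top_iff.1 htop).eq_bot_or_eq_top with hb | ht
  · exact hp1 (mem_bot.1 (hb ▸ hleJ P₀ hP₀ (H.le_layer P₀ hp)))
  have hn : J ≤ normalizer (blockLayer Ps P₀ : Set G) := iSup_le fun R => by
    by_cases e : R.1 = P₀
    · rw [e]; exact le_normalizer
    · exact H.layer_le_normalizer hP₀ R.2 e
  rcases (normalizer_eq_top_iff.1 (top_le_iff.1 (ht ▸ hn))).eq_bot_or_eq_top with hb | ht'
  · exact hp1 (mem_bot.1 (hb ▸ H.le_layer P₀ hp))
  obtain ⟨c, hc, hc1⟩ := (Subgroup.bot_or_exists_ne_one (coBlock Ps P₀)).resolve_left fun hb => by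
    have h1 := H.frame.big P₀ hP₀
    rw [hb, Subgroup.card_bot] at h1
    have := Nat.pow_le_pow_right (n := 2) two_pos (show 1 ≤ k + 1 by omega)
    omega
  refine H.ctx.centralizer_ne_top hc1 (top_le_iff.1 ?_)
  rw [← ht']
  exact fun z hz => mem_centralizer_singleton_iff.2
    (mem_centralizer_iff.1 (H.layer_le hP₀ hz) c hc).symm

end Cfsg.Agent.Goldschmidt.General.Layers

namespace Cfsg.Agent.Goldschmidt.General

universe u

/-- **The layers.** -/
theorem layersTarget : LayersTarget.{u} := fun hC G _ _ S A C hL k Ps F hD =>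
  Layers.Hyp.stronglyEmbedded (G := G) (S := S) ⟨C, hL, F, hD⟩ hC

end Cfsg.Agent.Goldschmidt.General
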