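import Cfsg.Agent.Lib.Goldschmidt.General.Four
import Cfsg.Agent.Lib.Goldschmidt.General.Local
import Cfsg.Agent.Lib.Goldschmidt.General.Functor
import Cfsg.Agent.Lib.Goldschmidt.General.Layers
import Cfsg.Agent.Lib.Goldschmidt.ThreePrime.Main
import Cfsg.Agent.Lib.Aschbacher.CriterionL2Final
import Cfsg.Agent.Lib.Bender.Consumers
import Cfsg.Agent.Lib.Bender.RankOneHalf

/-!
# The induction and the theorem (owner: helper29)

* `HasStronglyEmbedded.exists_coatom`
* `Remaining`   : the pieces proved in other files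
* `mainAt`      : `MainAt G` for every `G`
* `goldschmidt` : the statement of S1169
-/

set_option autoImplicit false
set_option linter.unusedSectionVars false
set_option linter.style.haveILetI false

namespace Cfsg.Agent.Goldschmidt.General

open Cfsg Subgroup

universe u

/-- The pieces proved in other files. -/
structure Remaining : Prop where
  rank : RankTarget.{u}
  small : SmallTarget.{u}
  elemSylow : ElemSylowTarget.{u}
  reduce : ReduceTarget.{u}
  simpleComps : SimpleCompsTarget.{u}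
  makeFrame : MakeFrameTarget.{u}
  exceptional : ExceptionalTarget.{u}
  threeInv : ThreeInv.ThreeInvTarget.{u}
  corner : CornerTarget.{u}

/-- A maximal overgroup of a strongly embedded subgroup is strongly embedded. -/
theorem exists_coatom {L : Type u} [Group L] [Finite L] (h : HasStronglyEmbedded L) :
    ∃ M : Subgroup L, Cfsg.IsStronglyEmbedded M ∧ IsCoatom M := by
  obtain ⟨H, hH⟩ := h
  obtain ⟨M, hM, hHM⟩ := (eq_top_or_exists_le_coatom H).resolve_left hH.1
  refine ⟨M, ?_, hM⟩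
  obtain ⟨-, heven, hf⟩ := Involution.isStronglyEmbedded_iff_forall.1 hH
  refine Involution.isStronglyEmbedded_iff_forall.2
    ⟨hM.1, heven.trans_dvd (Subgroup.card_dvd_of_le hHM), fun g t ht htM hg => ?_⟩
  rcases eq_or_ne H M with rfl | hne
  · exact hf g t ht htM hg
  have hH' : Cfsg.IsStronglyEmbedded (H.subgroupOf M) := by
    refine Involution.isStronglyEmbedded_iff_forall.2 ⟨fun e => hne (le_antisymm hHM ?_), ?_, ?_⟩
    · exact subgroupOf_eq_top.1 e
    · rwa [Nat.card_congr (subgroupOfEquivOfLe hHM).toEquiv]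
    · exact fun x y hy hyH hxy => mem_subgroupOf.2
        (hf x y (by rwa [Subgroup.orderOf_coe]) (mem_subgroupOf.1 hyH) (mem_subgroupOf.1 hxy))
  have key : ∀ w : L, orderOf w = 2 → w ∈ M → ∃ m ∈ M, m⁻¹ * w * m ∈ H := fun w hw hwM => by
    obtain ⟨m, hm⟩ := Involution.exists_conj_mem hH' (s := (⟨w, hwM⟩ : ↥M)) (by rwa [Subgroup.orderOf_mk])
    exact ⟨m, m.2, mem_subgroupOf.1 hm⟩
  obtain ⟨m, hm, hmt⟩ := key t ht htM
  obtain ⟨m', hm', hmt'⟩ := key _ (by rw [Involution.orderOf_conj]; exact ht) hg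
  have h1 := hf (m'⁻¹ * g * m) (m⁻¹ * t * m) (by
      have := Involution.orderOf_conj m⁻¹ t
      rw [inv_inv] at this
      rw [this, ht]) hmt (by
      rwa [show m'⁻¹ * g * m * (m⁻¹ * t * m) * (m'⁻¹ * g * m)⁻¹ = m'⁻¹ * (g * t * g⁻¹) * m' by group])
  have h2 := M.mul_mem (M.mul_mem hm' (hHM h1)) (M.inv_mem hm)
  rwa [show m' * (m'⁻¹ * g * m) * m⁻¹ = g by group] at h2

/-- A section with an elementary closed set is of rank type or small. -/
theorem sectionShape (R : Remaining.{u}) (L : Type u) [Group L] [Finite L] (ih : MainAt L)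
    (hs : IsSimpleGroup L) (hna : ∃ a b : L, a * b ≠ b * a) (T : Set L) (hT : Goldschmidt.Elem T)
    {x : L} (hx : x ∈ T) (hx1 : x ≠ 1) : ∃ q : ℕ, RankFacts L q ∨ SmallFacts L q := by
  haveI : Fact (Nat.Prime 2) := ⟨Nat.prime_two⟩
  haveI := hs
  by_cases hse : HasStronglyEmbedded L
  · obtain ⟨M, hM, hmax⟩ := exists_coatom hse
    obtain ⟨q, hq⟩ := R.rank L hs (Bender.borel_of_simple Bender.rankOneHalf hM hmax).1
    exact ⟨q, Or.inl hq⟩
  obtain ⟨S, hS⟩ := (hT.isPGroup_zpowers hx).exists_le_sylow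
  set A := hT.closed.sub (S : Subgroup L) S.isPGroup'
  have hxA : x ∈ A := ⟨hS (mem_zpowers x), hx⟩
  have hne : A ≠ ⊥ := fun e => hx1 (mem_bot.1 (e ▸ hxA))
  have hel : Cfsg.IsElementaryAbelian 2 A :=
    ⟨⟨⟨fun a b => Subtype.ext (hT.commute S.isPGroup' a.2.1 b.2.1 a.2.2 b.2.2)⟩⟩,
      fun a ha => by rw [pow_two]; exact hT.sq a ha.2⟩
  have hsc : Cfsg.IsStronglyClosed A (S : Subgroup L) :=
    ⟨fun a ha => ha.1, fun a ha g hg => ⟨hg, hT.closed.conj g a ha.2⟩⟩
  obtain ⟨h1, h2⟩ := (ih hs hna S A hne hel hsc).resolve_left hse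
  obtain ⟨q, hq⟩ := R.small Aschbacher.coreFreeCriterion L hs hna hse S h1 h2
  exact ⟨q, Or.inr hq⟩

/-- A minimal configuration. -/
theorem ctxCase (R : Remaining.{u}) {G : Type u} [Group G] [Finite G] {S : Sylow 2 G} {A : Subgroup G}
    (C : Ctx G S A) : HasStronglyEmbedded G ∨
      (Cfsg.IsElementaryAbelian 2 (S : Subgroup G) ∧ Nat.card ↥(S : Subgroup G) ≤ 8) := by
  haveI : Fact (Nat.Prime 2) := ⟨Nat.prime_two⟩
  have hC : Aschbacher.CoreFreeCriterion.{u} := Aschbacher.coreFreeCriterion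
  have hL : LocalsHold A := fun a ha ha1 => localTarget _ _ _ (C.localBar ha ha1)
  rcases eq_or_ne (Nat.card ↥A) 4 with h4 | h4
  · exact fourCase R.reduce R.elemSylow R.threeInv R.corner hC C hL h4
  have h8 : 8 ≤ Nat.card ↥A := by
    obtain ⟨k, hk⟩ := C.two.exists_card_eq
    have := C.four_le
    rcases k with _ | _ | _ | k <;> simp_all [pow_succ]
    have := Nat.one_le_two_pow (n := k)
    omega
  have hS := R.simpleComps G S A C hL
  rcases R.makeFrame G S A C hL hS h8 with ⟨k, Ps, hF⟩ | ⟨h8', ⟨ℬ, hℬ⟩, hcent⟩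
  · rcases functorTarget hC G S A C hL k Ps hF with h | h
    · exact Or.inl h
    · exact Or.inl (layersTarget hC G S A C hL k Ps hF h)
  · obtain ⟨h1, h2⟩ := R.exceptional G S A C hL h8' hcent ℬ hℬ
    exact Or.inr ⟨h1, h2.le⟩

theorem mainAt_aux (R : Remaining.{u}) : ∀ (n : ℕ) (G : Type u) [Group G] [Finite G],
    Nat.card G = n → MainAt G := by
  intro n
  induction n using Nat.strong_induction_on with
  | _ n ih =>
  intro G _ _ hn hs hna S A hne hel hsc
  haveI : Fact (Nat.Prime 2) := ⟨Nat.prime_two⟩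
  have hsec : ∀ H : Subgroup G, H ≠ ⊤ → SecShape ↥H := by
    intro H hH L _ _ K f hf hLs hLna hLT
    obtain ⟨T, hT, x, hx, hx1⟩ := hLT
    refine sectionShape R L (ih _ ?_ L rfl) hLs hLna T hT hx hx1
    have h1 : Nat.card L ≤ Nat.card ↥K := Nat.card_le_card_of_surjective f hf
    have h2 : Nat.card ↥K ≤ Nat.card ↥H := Subgroup.card_le_card_group K
    have h3 : Nat.card ↥H < Nat.card G :=
      lt_of_le_of_ne (Subgroup.card_le_card_group H) fun e => hH (Subgroup.eq_top_of_card_eq H e)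
    omega
  obtain ⟨B, hBS, hB, hBel, hBsc, hBirr⟩ := ThreePrime.exists_minimal S hne hel hsc
  exact ctxCase R ⟨hs, hna, hsec, hBS, hB, hBel, hBsc, hBirr⟩

/-- The induction statement holds. -/
theorem mainAt (R : Remaining.{u}) (G : Type u) [Group G] [Finite G] : MainAt G :=
  mainAt_aux R _ G rfl

/-- The involutions and the identity of a strongly closed abelian subgroup. -/
theorem exists_elementary {G : Type u} [Group G] [Finite G] (S : Sylow 2 G) {A : Subgroup G} (hA : A ≠ ⊥)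
    (hAcomm : IsMulCommutative A) (hsc : Cfsg.IsStronglyClosed A (S : Subgroup G)) :
    ∃ B : Subgroup G, B ≠ ⊥ ∧ Cfsg.IsElementaryAbelian 2 B ∧ Cfsg.IsStronglyClosed B (S : Subgroup G) := by
  haveI : Fact (Nat.Prime 2) := ⟨Nat.prime_two⟩
  have hc : ∀ x ∈ A, ∀ y ∈ A, x * y = y * x := fun x hx y hy =>
    congrArg Subtype.val (hAcomm.is_comm.comm (⟨x, hx⟩ : A) ⟨y, hy⟩)
  let B : Subgroup G :=
    { carrier := {x | x ∈ A ∧ x * x = 1}
      one_mem' := ⟨one_mem A, one_mul 1⟩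
      mul_mem' := fun {x y} hx hy => ⟨A.mul_mem hx.1 hy.1, by
        rw [mul_assoc, ← mul_assoc y, hc y hy.1 x hx.1, mul_assoc x y, hy.2, mul_one, hx.2]⟩
      inv_mem' := fun {x} hx => ⟨A.inv_mem hx.1, by rw [← mul_inv_rev, hx.2, inv_one]⟩ }
  refine ⟨B, ?_, ⟨⟨⟨fun a b => Subtype.ext (hc a a.2.1 b b.2.1)⟩⟩, fun b hb => by rw [pow_two]; exact hb.2⟩,
    ⟨fun b hb => hsc.1 hb.1, fun b hb g hg => ⟨hsc.2 b hb.1 g hg, ?_⟩⟩⟩
  · obtain ⟨a, ha, ha1⟩ := (bot_or_exists_ne_one A).resolve_left hA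
    obtain ⟨k, hk⟩ := (S.isPGroup'.to_le hsc.1).exists_card_eq
    have hdvd : 2 ∣ Nat.card ↥A := by
      rcases k with _ | k
      · exact absurd (card_eq_one.1 (by simpa using hk)) hA
      · exact hk ▸ dvd_pow_self 2 k.succ_ne_zero
    obtain ⟨b, hb⟩ := exists_prime_orderOf_dvd_card' 2 hdvd
    intro e
    have : (b : G) ∈ B := ⟨b.2, by
      rw [← Subgroup.coe_mul, ← pow_two, ← hb, pow_orderOf_eq_one, Subgroup.coe_one]⟩
    rw [e, mem_bot] at this
    rw [show b = 1 from Subtype.ext this, orderOf_one] at hb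
    exact absurd hb (by norm_num)
  · rw [show g * b * g⁻¹ * (g * b * g⁻¹) = g * (b * b) * g⁻¹ by group, hb.2, mul_one, mul_inv_cancel]

/-- **Goldschmidt's theorem.** -/
theorem goldschmidt (R : Remaining.{u}) {G : Type u} [Group G] [Finite G] [IsSimpleGroup G] (S : Sylow 2 G)
    (A : Subgroup G) (hA : A ≠ ⊥) (hAcomm : IsMulCommutative A)
    (hsc : Cfsg.IsStronglyClosed A (S : Subgroup G)) :
    IsMulCommutative (S : Subgroup G) ∨ ∃ H : Subgroup G, Cfsg.IsStronglyEmbedded H := by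
  by_cases hna : ∃ a b : G, a * b ≠ b * a
  swap
  · push Not at hna
    exact Or.inl ⟨⟨fun a b => Subtype.ext (hna a b)⟩⟩
  obtain ⟨B, hB, hel, hB'⟩ := exists_elementary S hA hAcomm hsc
  rcases mainAt R G inferInstance hna S B hB hel hB' with h | ⟨h, -⟩
  · exact Or.inr h
  · exact Or.inl h.1

end Cfsg.Agent.Goldschmidt.General
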