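import Cfsg.Agent.Lib.Goldschmidt.Elem
import Cfsg.Agent.Lib.Aschbacher.Criterion

/-!
# Goldschmidt's theorem S1169, general case: interface (owner: helper29; proofs in `GENERAL.md`)

* `Torus`, `NoForm`, `NoDelta` : the torus of the normaliser of a Sylow 2-subgroup
* `RankFacts L q`  : what is used about `L₂(q)`, `Sz(q)`, `U₃(q)`                 (`RankFacts.lean`)
* `SmallFacts L q` : simple, Sylow elementary of order `q ∈ {4, 8}`, no strongly embedded (`SmallFacts.lean`)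
* `SecShape X`     : every simple section with an elementary closed set is one of the two
* `Local X T A`, `CompData`, `CoverData`, `LocalFacts` : core-free local groups     (`Inner`, `Data`, `Balanced`)
* `Ctx G S A`      : minimal configuration in a simple group                       (`Setup.lean`)
* `Bar`, `bar`, `fixerAt`, `partAt`, `MovedAt`, `LocalsHold` : the centralisers modulo their cores
* `TopBlocks`      : the components with the largest `q`                          (`Geometry.lean`)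
* `Frame`          : the block decomposition of `A`                               (`MakeFrame.lean`)
-/

set_option autoImplicit false
set_option linter.unusedSectionVars false

namespace Cfsg.Agent.Goldschmidt.General

open Cfsg Subgroup
open scoped commutatorElement

universe u

/-- There is a strongly embedded subgroup. -/
def HasStronglyEmbedded (G : Type u) [Group G] : Prop :=
  ∃ H : Subgroup G, Cfsg.IsStronglyEmbedded H

/-- The centre of a subgroup, inside the ambient group. -/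
abbrev centre {L : Type u} [Group L] (Q : Subgroup L) : Subgroup L :=
  Q ⊓ centralizer (Q : Set L)

/-! ### The simple groups -/

/-- Powers of `h` are transitive on the non-trivial cosets of `C` in `A`. -/
def TransMod {L : Type u} [Group L] (A C : Subgroup L) (h : L) : Prop :=
  ∀ x ∈ A, ∀ y ∈ A, x ∉ C → y ∉ C → ∃ k : ℕ, (h ^ k * x * (h ^ k)⁻¹)⁻¹ * y ∈ C

/-- A torus element for the centre `Z` of a Sylow 2-subgroup. -/
structure Torus {L : Type u} [Group L] (Z : Subgroup L) (h : L) : Prop where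
  mem : h ∈ normalizer (Z : Set L)
  odd : Odd (orderOf h)
  trans : ∀ x ∈ Z, ∀ y ∈ Z, x ≠ 1 → y ≠ 1 → ∃ k : ℕ, h ^ k * x * (h ^ k)⁻¹ = y
  unique : ∀ w ∈ normalizer (Z : Set L),
    (∀ x ∈ Z, ∀ y ∈ Z, x ≠ 1 → y ≠ 1 → ∃ k : ℕ, w ^ k * x * (w ^ k)⁻¹ = y) →
    ∃ k : ℕ, ∀ z ∈ Z, w * z * w⁻¹ = h ^ k * z * (h ^ k)⁻¹

/-- No non-zero alternating form on `Q / Z` invariant under `h`. -/
def NoForm {L : Type u} [Group L] (Q Z : Subgroup L) (h : L) : Prop :=
  ∀ (M : Type u) [CommGroup M], (∀ m : M, m * m = 1) → ∀ β : L → L → M,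
    (∀ x ∈ Q, ∀ y ∈ Q, ∀ w ∈ Q, β (x * y) w = β x w * β y w) →
    (∀ x ∈ Q, ∀ y ∈ Q, ∀ w ∈ Q, β w (x * y) = β w x * β w y) →
    (∀ x ∈ Q, β x x = 1) →
    (∀ z ∈ Z, ∀ x ∈ Q, β z x = 1) →
    (∀ x ∈ Q, ∀ y ∈ Q, β (h * x * h⁻¹) (h * y * h⁻¹) = β x y) →
    ∀ x ∈ Q, ∀ y ∈ Q, β x y = 1

/-- No non-zero pairing of `Q / Z` with `Z` invariant under `h`. -/
def NoDelta {L : Type u} [Group L] (Q Z : Subgroup L) (h : L) : Prop :=
  ∀ (M : Type u) [CommGroup M], (∀ m : M, m * m = 1) → ∀ β : L → L → M,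
    (∀ x ∈ Q, ∀ y ∈ Q, ∀ z ∈ Z, β (x * y) z = β x z * β y z) →
    (∀ x ∈ Q, ∀ z ∈ Z, ∀ z' ∈ Z, β x (z * z') = β x z * β x z') →
    (∀ x ∈ Z, ∀ z ∈ Z, β x z = 1) →
    (∀ x ∈ Q, ∀ z ∈ Z, β (h * x * h⁻¹) (h * z * h⁻¹) = β x z) →
    ∀ x ∈ Q, ∀ z ∈ Z, β x z = 1

/-- The facts about `L₂(q)`, `Sz(q)`, `U₃(q)`, `q = 2ⁿ ≥ 4`. -/
structure RankFacts (L : Type u) [Group L] (q : ℕ) : Prop where
  pow : ∃ n : ℕ, 2 ≤ n ∧ q = 2 ^ n
  simple : IsSimpleGroup L
  center : Subgroup.center L = ⊥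
  card_centre : ∀ Q : Sylow 2 L, Nat.card ↥(centre (Q : Subgroup L)) = q
  omega : ∀ Q : Sylow 2 L, ∀ x ∈ Q, (x * x = 1 ↔ x ∈ centre (Q : Subgroup L))
  sq : ∀ Q : Sylow 2 L, ∀ x ∈ Q, x * x ∈ centre (Q : Subgroup L)
  comm : ∀ Q : Sylow 2 L, ∀ x ∈ Q, ∀ y ∈ Q, ⁅x, y⁆ ∈ centre (Q : Subgroup L)
  cent : ∀ Q : Sylow 2 L, ∀ z ∈ centre (Q : Subgroup L), z ≠ 1 →
    centralizer ({z} : Set L) ≤ normalizer ((Q : Subgroup L) : Set L)
  solvable : ∀ Q : Sylow 2 L, Group.IsSolvable ↥(normalizer ((Q : Subgroup L) : Set L))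
  torus : ∀ Q : Sylow 2 L, ∃ h ∈ normalizer ((Q : Subgroup L) : Set L),
    Torus (centre (Q : Subgroup L)) h ∧ NoForm (Q : Subgroup L) (centre (Q : Subgroup L)) h ∧
      (NoDelta (Q : Subgroup L) (centre (Q : Subgroup L)) h ∨
        (q = 8 ∧ Nat.card ↥(Q : Subgroup L) = 64 ∧ TransMod (Q : Subgroup L) (centre (Q : Subgroup L)) h))
  autInner : ∀ Q : Sylow 2 L, ∀ α : MulAut L, (∀ z ∈ centre (Q : Subgroup L), α z = z) →
    (∀ x ∈ Q, x⁻¹ * α x ∈ centre (Q : Subgroup L)) → ∃ s ∈ Q, α = MulAut.conj s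
  small : q = 4 → ∀ Q : Sylow 2 L, ∀ u ∈ Q, u ∉ centre (Q : Subgroup L) →
    ∀ z ∈ centre (Q : Subgroup L), ∃ r ∈ Q, z = ⁅r, u⁆

/-- The facts about a simple group with elementary Sylow 2-subgroup of order `q ∈ {4, 8}` and no
strongly embedded subgroup. -/
structure SmallFacts (L : Type u) [Group L] (q : ℕ) : Prop where
  four_or_eight : q = 4 ∨ q = 8
  simple : IsSimpleGroup L
  center : Subgroup.center L = ⊥
  not_embedded : ¬ HasStronglyEmbedded L
  sylow : ∀ Q : Sylow 2 L, Cfsg.IsElementaryAbelian 2 (Q : Subgroup L) ∧ Nat.card ↥(Q : Subgroup L) = q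
  torus : ∀ Q : Sylow 2 L, ∃ h : L, Torus (Q : Subgroup L) h
  gen : ∀ Q : Sylow 2 L,
    (⨆ p : {p : L // p ∈ Q ∧ p ≠ 1}, centralizer ({(p : L)} : Set L)) = ⊤
  solv : ∀ Q : Sylow 2 L, ∀ F : Subgroup L, F ≤ (Q : Subgroup L) → F ≠ ⊥ → q ≤ 2 * Nat.card ↥F →
    Group.IsSolvable ↥(centralizer (F : Set L))
  autInner : ∀ Q : Sylow 2 L, ∀ α : MulAut L, (∃ k : ℕ, α ^ 2 ^ k = 1) → (∀ x ∈ Q, α x = x) →
    ∃ s ∈ Q, α = MulAut.conj s

/-- Every non-abelian simple section with a non-trivial elementary closed set is of one of the two kinds. -/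
def SecShape (X : Type u) [Group X] : Prop :=
  ∀ (L : Type u) [Group L] [Finite L] (H : Subgroup X) (f : ↥H →* L), Function.Surjective f →
    IsSimpleGroup L → (∃ a b : L, a * b ≠ b * a) → (∃ T : Set L, Goldschmidt.Elem T ∧ ∃ x ∈ T, x ≠ 1) →
    ∃ q : ℕ, RankFacts L q ∨ SmallFacts L q

/-! ### Local groups -/

/-- A core-free group with an elementary closed set, `A` being its members in a 2-group. -/
structure Local (X : Type u) [Group X] [Finite X] (T : Set X) (A : Subgroup X) : Prop where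
  core : pPrimeCore 2 X = ⊥
  sec : SecShape X
  elem : Goldschmidt.Elem T
  subset : (A : Set X) ⊆ T
  two : IsPGroup 2 ↥A
  max : ∀ P : Subgroup X, IsPGroup 2 ↥P → A ≤ P → ∀ x ∈ P, x ∈ T → x ∈ A

/-- A component not centralised by `A`. -/
def Moved {X : Type u} [Group X] (A K : Subgroup X) : Prop :=
  Cfsg.IsComponent K ∧ ¬ K ≤ centralizer (A : Set X)

/-- The members of `A` centralising `K`. -/
abbrev fixer {X : Type u} [Group X] (A K : Subgroup X) : Subgroup X :=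
  A ⊓ centralizer (K : Set X)

/-- A Sylow 2-subgroup of a covering component inducing transvections on `A`. -/
structure CoverData {X : Type u} [Group X] (A K Q : Subgroup X) (h : X) : Prop where
  le : Q ≤ K
  mem : h ∈ K
  norm_mem : h ∈ normalizer (A : Set X)
  norm_Q : h ∈ normalizer (Q : Set X)
  norm : Q ≤ normalizer (A : Set X)
  cent : Q ≤ centralizer (fixer A K : Set X)
  comm : ⁅A, Q⁆ ≤ fixer A K ⊓ K
  ne : ¬ Q ≤ centralizer (A : Set X)
  index : 8 * Nat.card ↥(Q ⊓ centralizer (A : Set X) : Subgroup X) ≤ Nat.card ↥Q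
  trans : TransMod Q (Q ⊓ centralizer (A : Set X)) h
  commuting : ∀ p ∈ A, ∃ x ∈ Q, x ∉ centralizer (A : Set X) ∧ x * p = p * x

/-- A component moved by `A`. -/
structure CompData {X : Type u} [Group X] (A K : Subgroup X) (q : ℕ) : Prop where
  shape : RankFacts (↥K ⧸ Subgroup.center ↥K) q ∨ SmallFacts (↥K ⧸ Subgroup.center ↥K) q
  norm : A ≤ normalizer (K : Set X)
  two_center : IsPGroup 2 ↥(Subgroup.center ↥K)
  sup : (A ⊓ K) ⊔ fixer A K = A
  card : Nat.card ↥A = q * Nat.card ↥(fixer A K)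
  torus : ∃ h ∈ K, h ∈ normalizer (A : Set X) ∧ Odd (orderOf h) ∧
    (∃ P : Subgroup X, P ≤ A ⊓ K ∧ P ⊓ fixer A K = ⊥ ∧ P ⊔ fixer A K = A ∧ h ∈ normalizer (P : Set X) ∧
      ∀ x ∈ P, ∀ y ∈ P, x ≠ 1 → y ≠ 1 → ∃ k : ℕ, h ^ k * x * (h ^ k)⁻¹ = y) ∧
    ∀ w ∈ K, w ∈ normalizer (A : Set X) → TransMod A (fixer A K) w →
      ∃ k : ℕ, ∀ a ∈ A, w * a * w⁻¹ * (h ^ k * a * (h ^ k)⁻¹)⁻¹ ∈ K ⊓ centralizer (K : Set X)
  solv : ∀ F : Subgroup X, F ≤ A → ¬ F ≤ fixer A K →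
    (RankFacts (↥K ⧸ Subgroup.center ↥K) q ∨ q * Nat.card ↥(F ⊓ fixer A K : Subgroup X) ≤ 2 * Nat.card ↥F) →
    Group.IsSolvable ↥(K ⊓ centralizer (F : Set X) : Subgroup X)
  cover : Subgroup.center ↥K ≠ ⊥ → q = 8 ∧ ∃ (Q : Subgroup X) (h : X), CoverData A K Q h

/-- The conclusions for a local group. -/
structure LocalFacts {X : Type u} [Group X] (A : Subgroup X) : Prop where
  data : ∀ K : Subgroup X, Moved A K → ∃ q : ℕ, CompData A K q
  conj : ∀ K : Subgroup X, Moved A K → ∀ g : X, Moved A (K.map (MulAut.conj g).toMonoidHom)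
  decomp : ∀ M : Subgroup X, normalizer (A : Set X) ≤ M → (∀ K : Subgroup X, Moved A K → K ≤ M) → M = ⊤
  /-- odd subgroups `D b` centralised by `b` and normalised by `C(b)`, `b` in `E`, meet trivially -/
  balanced : ∀ E : Subgroup X, E ≤ A → E ≠ ⊥ → ∀ D : X → Subgroup X,
    (∀ b ∈ E, b ≠ 1 → Odd (Nat.card ↥(D b)) ∧ D b ≤ centralizer ({b} : Set X) ∧
      centralizer ({b} : Set X) ≤ normalizer (D b : Set X)) →
    (∀ K : Subgroup X, Moved A K → E ⊓ fixer A K ≠ ⊥ ∨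
      (Subgroup.center ↥K = ⊥ ∧ ∃ q : ℕ, RankFacts (↥K ⧸ Subgroup.center ↥K) q)) →
    ∀ x : X, (∀ b ∈ E, b ≠ 1 → x ∈ D b) → x = 1
  /-- the odd core of `C(A)` is trivial when all moved components are simple of rank type -/
  balanced_centralizer : (∀ K : Subgroup X, Moved A K →
      Subgroup.center ↥K = ⊥ ∧ ∃ q : ℕ, RankFacts (↥K ⧸ Subgroup.center ↥K) q) →
    ∀ D : Subgroup X, Odd (Nat.card ↥D) → D ≤ centralizer (A : Set X) →
      centralizer (A : Set X) ≤ normalizer (D : Set X) → D = ⊥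

/-! ### The simple group -/

/-- The minimal configuration in a simple group. -/
structure Ctx (G : Type u) [Group G] [Finite G] (S : Sylow 2 G) (A : Subgroup G) : Prop where
  simple : IsSimpleGroup G
  nonab : ∃ a b : G, a * b ≠ b * a
  sec : ∀ H : Subgroup G, H ≠ ⊤ → SecShape ↥H
  le : A ≤ (S : Subgroup G)
  ne : A ≠ ⊥
  elemAb : Cfsg.IsElementaryAbelian 2 A
  closed : Cfsg.IsStronglyClosed A (S : Subgroup G)
  irred : ∀ B : Subgroup G, B ≤ A → normalizer (A : Set G) ≤ normalizer (B : Set G) → B = ⊥ ∨ B = A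

/-- The centraliser of `a` modulo its odd core. -/
abbrev Bar {G : Type u} [Group G] (a : G) : Type u :=
  ↥(centralizer ({a} : Set G)) ⧸ pPrimeCore 2 ↥(centralizer ({a} : Set G))

/-- The projection to `Bar a`. -/
abbrev proj {G : Type u} [Group G] (a : G) : ↥(centralizer ({a} : Set G)) →* Bar a :=
  QuotientGroup.mk' (pPrimeCore 2 ↥(centralizer ({a} : Set G)))

/-- The image of `A` in `Bar a`. -/
abbrev bar {G : Type u} [Group G] (A : Subgroup G) (a : G) : Subgroup (Bar a) :=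
  (A.subgroupOf (centralizer ({a} : Set G))).map (proj a)

/-- The elements of `A` mapped into `F`. -/
abbrev pull {G : Type u} [Group G] (A : Subgroup G) (a : G) (F : Subgroup (Bar a)) : Subgroup G :=
  A ⊓ (F.comap (proj a)).map (centralizer ({a} : Set G)).subtype

/-- The elements of `A` centralising a component of `Bar a`. -/
abbrev fixerAt {G : Type u} [Group G] (A : Subgroup G) (a : G) (K : Subgroup (Bar a)) : Subgroup G :=
  pull A a (centralizer (K : Set (Bar a)))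

/-- The elements of `A` lying in a component of `Bar a`. -/
abbrev partAt {G : Type u} [Group G] (A : Subgroup G) (a : G) (K : Subgroup (Bar a)) : Subgroup G :=
  pull A a K

/-- A moved component of the centraliser of a member, with its parameter. -/
structure MovedAt {G : Type u} [Group G] (A : Subgroup G) (a : G) (K : Subgroup (Bar a)) (q : ℕ) : Prop where
  mem : a ∈ A
  ne : a ≠ 1
  moved : Moved (bar A a) K
  data : CompData (bar A a) K q

/-- The conclusions hold in the centralisers of all members. -/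
def LocalsHold {G : Type u} [Group G] (A : Subgroup G) : Prop :=
  ∀ a ∈ A, a ≠ 1 → LocalFacts (bar A a)

/-- All moved components are simple. -/
def SimpleComps {G : Type u} [Group G] (A : Subgroup G) : Prop :=
  ∀ a : G, ∀ K : Subgroup (Bar a), ∀ q : ℕ, MovedAt A a K q → Subgroup.center ↥K = ⊥

/-- The fixers `C` and parts `P` of the moved components with the largest parameter `q`. -/
structure TopBlocks {G : Type u} [Group G] (A : Subgroup G) (q : ℕ) (ℬ : Set (Subgroup G × Subgroup G)) :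
    Prop where
  top : ∀ a : G, ∀ K : Subgroup (Bar a), ∀ r : ℕ, MovedAt A a K r → r ≤ q
  mem_of_top : ∀ a : G, ∀ K : Subgroup (Bar a), MovedAt A a K q → (fixerAt A a K, partAt A a K) ∈ ℬ
  nonempty : ℬ.Nonempty
  compl : ∀ B ∈ ℬ, B.1 ⊔ B.2 = A ∧ B.1 ⊓ B.2 = ⊥ ∧ Nat.card ↥B.2 = q ∧ B.1 ≠ ⊥
  torus : ∀ B ∈ ℬ, ∃ y ∈ normalizer (A : Set G), y ∈ centralizer (B.1 : Set G) ∧
    y ∈ normalizer (B.2 : Set G) ∧
    (∀ x ∈ B.2, ∀ z ∈ B.2, x ≠ 1 → z ≠ 1 → ∃ k : ℕ, y ^ k * x * (y ^ k)⁻¹ = z) ∧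
    ∀ g ∈ normalizer (A : Set G), B.1.map (MulAut.conj g).toMonoidHom = B.1 →
      ∃ k : ℕ, ∀ a ∈ A, g * y * g⁻¹ * a * (g * y * g⁻¹)⁻¹ = y ^ k * a * (y ^ k)⁻¹
  conj : ∀ B ∈ ℬ, ∀ g ∈ normalizer (A : Set G),
    (B.1.map (MulAut.conj g).toMonoidHom, B.2.map (MulAut.conj g).toMonoidHom) ∈ ℬ
  func : ∀ B ∈ ℬ, ∀ B' ∈ ℬ, B.1 = B'.1 → B = B'
  meet : ∀ B ∈ ℬ, ∀ B' ∈ ℬ, B.1 ≠ B'.1 → B.1 ⊓ B'.1 ≠ ⊥ → B.2 ≤ B'.1 ∧ B'.2 ≤ B.1
  everywhere : ∀ B ∈ ℬ, ∀ f ∈ B.1, f ≠ 1 →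
    ∃ M : Subgroup (Bar f), MovedAt A f M q ∧ fixerAt A f M = B.1 ∧ partAt A f M = B.2
  /-- a component not below any small one, with fixer meeting a top fixer -/
  other : ∀ B ∈ ℬ, ∀ a : G, ∀ K : Subgroup (Bar a), ∀ r : ℕ, MovedAt A a K r → r < q →
    (∀ (b : G) (M : Subgroup (Bar b)) (s : ℕ), MovedAt A b M s →
      SmallFacts (↥M ⧸ Subgroup.center ↥M) s → s ≤ r) →
    fixerAt A a K ⊓ B.1 ≠ ⊥ → B.2 ≤ fixerAt A a K

/-- The other blocks generate this. -/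
abbrev coBlock {G : Type u} [Group G] (Ps : Set (Subgroup G)) (P : Subgroup G) : Subgroup G :=
  ⨆ R ∈ Ps \ {P}, R

/-- The block decomposition of `A`, with the balance parameter `k`. -/
structure Frame {G : Type u} [Group G] (A : Subgroup G) (k : ℕ) (Ps : Set (Subgroup G)) : Prop where
  pos : 1 ≤ k
  card : 2 ^ (k + 2) ≤ Nat.card ↥A
  le : ∀ P ∈ Ps, P ≤ A ∧ P ≠ ⊥
  sup : ∀ P ∈ Ps, P ⊔ coBlock Ps P = A
  indep : ∀ P ∈ Ps, P ⊓ coBlock Ps P = ⊥
  three : Ps.Nonempty → 3 ≤ Ps.ncard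
  big : ∀ P ∈ Ps, 2 ^ (k + 1) ≤ Nat.card ↥(coBlock Ps P)
  same : ∀ P ∈ Ps, ∀ R ∈ Ps, Nat.card ↥P = Nat.card ↥R
  four : ∀ P ∈ Ps, 4 ≤ Nat.card ↥P
  small : ∀ P ∈ Ps, k = 1 ∨ 2 ^ k = 2 * Nat.card ↥P
  conj : ∀ P ∈ Ps, ∀ g ∈ normalizer (A : Set G), P.map (MulAut.conj g).toMonoidHom ∈ Ps
  everywhere : ∀ P ∈ Ps, ∀ f ∈ coBlock Ps P, f ≠ 1 → ∃ M : Subgroup (Bar f),
    MovedAt A f M (Nat.card ↥P) ∧ fixerAt A f M = coBlock Ps P ∧ partAt A f M = P ∧
      (k = 1 ∨ SmallFacts (↥M ⧸ Subgroup.center ↥M) (Nat.card ↥P))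
  kind : ∀ a : G, ∀ K : Subgroup (Bar a), ∀ q : ℕ, MovedAt A a K q →
    Subgroup.center ↥K = ⊥ ∧ (RankFacts (↥K ⧸ Subgroup.center ↥K) q ∨ q < 2 ^ k) ∧
      2 ^ (k + 1) ≤ Nat.card ↥(fixerAt A a K) ∧ ∃ P ∈ Ps, coBlock Ps P ≤ fixerAt A a K

/-- All signalizers of subgroups of order `2 ^ k` are trivial. -/
def DeltaTrivial {G : Type u} [Group G] (A : Subgroup G) (k : ℕ) : Prop :=
  ∀ D : Subgroup G, D ≤ A → Nat.card ↥D = 2 ^ k → Cfsg.signalizerDelta 2 D = ⊥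

/-- The induction statement. -/
def MainAt (G : Type u) [Group G] [Finite G] : Prop :=
  IsSimpleGroup G → (∃ a b : G, a * b ≠ b * a) → ∀ (S : Sylow 2 G) (A : Subgroup G),
    A ≠ ⊥ → Cfsg.IsElementaryAbelian 2 A → Cfsg.IsStronglyClosed A (S : Subgroup G) →
    HasStronglyEmbedded G ∨
      (Cfsg.IsElementaryAbelian 2 (S : Subgroup G) ∧ Nat.card ↥(S : Subgroup G) ≤ 8)

end Cfsg.Agent.Goldschmidt.General
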