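import Cfsg.Agent.Lib.Goldschmidt.General.Lift
import Cfsg.Agent.Lib.Goldschmidt.General.Targets

/-!
# No covering components (owner: helper63)

* `aut_eq_one` : an automorphism of a group of order eight fixing two elements and normalising a
  transitive cyclic group is trivial
* `simpleCompsTarget` : all moved components are simple
-/

set_option autoImplicit false
set_option linter.unusedSectionVars false
set_option linter.style.haveILetI false

namespace Cfsg.Agent.Goldschmidt.General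

open Cfsg Subgroup Cfsg.Agent.Components
open scoped commutatorElement

universe u

/-- An automorphism fixing two non-trivial elements and normalising a cyclic transitive group is trivial. -/
theorem aut_eq_one {Q : Type*} [Group Q] [Finite Q] (hQ : Nat.card Q = 8) {f g : MulAut Q}
    (hf : ∀ v w : Q, v ≠ 1 → w ≠ 1 → ∃ i : ℕ, (f ^ i) v = w) {k : ℕ} (hgf : g * f = f ^ k * g)
    {v w : Q} (hv : v ≠ 1) (hw : w ≠ 1) (hvw : v ≠ w) (hgv : g v = v) (hgw : g w = w) : g = 1 := by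
  classical
  haveI : Fintype Q := Fintype.ofFinite Q
  have horb : MulAction.orbit (zpowers f) v = {z | z ≠ 1} := by
    ext z
    constructor
    · rintro ⟨⟨e, he⟩, rfl⟩ h1
      exact hv (e.injective (by rw [map_one]; exact h1))
    · intro hz
      obtain ⟨i, hi⟩ := hf v z hv hz
      exact ⟨⟨f ^ i, pow_mem (mem_zpowers f) i⟩, hi⟩
  have hn : Function.minimalPeriod (f • ·) v = 7 := by
    rw [MulAction.minimalPeriod_eq_card, ← Nat.card_eq_fintype_card, Nat.card_congr (Equiv.setCongr horb)]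
    show Nat.card {z : Q // ¬ z = 1} = 7
    rw [Nat.card_eq_fintype_card, Fintype.card_subtype_compl, Fintype.card_subtype_eq, ← Nat.card_eq_fintype_card, hQ]
  have hgi : ∀ i : ℕ, g ((f ^ i) v) = (f ^ (k * i)) v := by
    intro i
    induction i with
    | zero => simpa using hgv
    | succ i ih =>
      have h1 : g (f ((f ^ i) v)) = (f ^ k) (g ((f ^ i) v)) := DFunLike.congr_fun hgf ((f ^ i) v)
      rw [pow_succ', MulAut.mul_apply, h1, ih, ← MulAut.mul_apply, ← pow_add, mul_add, mul_one, add_comm]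
  have hiff : ∀ i : ℕ, (f ^ (k * i)) v = (f ^ i) v ↔ (7 : ℤ) ∣ ((k : ℤ) - 1) * i := by
    intro i
    rw [show ((k : ℤ) - 1) * i = ((k * i : ℕ) : ℤ) - (i : ℤ) by push_cast; ring]
    have h7 := (MulAction.zpow_smul_eq_iff_minimalPeriod_dvd (a := f) (b := v) (n := ((k * i : ℕ) : ℤ) - (i : ℤ)))
    rw [hn] at h7
    refine Iff.trans ?_ h7
    rw [sub_eq_neg_add, zpow_add, zpow_neg, zpow_natCast, zpow_natCast, mul_smul, inv_smul_eq_iff]
    exact Iff.rfl
  obtain ⟨i, hi⟩ := hf v w hv hw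
  have h1 : (7 : ℤ) ∣ ((k : ℤ) - 1) * i := (hiff i).1 (by rw [← hgi, hi, hgw])
  have hk : (7 : ℤ) ∣ (k : ℤ) - 1 := by
    have h7 : Prime (7 : ℤ) := by norm_num
    refine (h7.dvd_or_dvd h1).resolve_right fun h2 => hvw ?_
    rw [← hi]
    symm
    have h3 := (MulAction.pow_smul_eq_iff_minimalPeriod_dvd (a := f) (b := v) (n := i)).2
      (by rw [hn]; exact_mod_cast h2)
    exact h3
  refine MulEquiv.ext fun z => ?_
  rw [MulAut.one_apply]
  by_cases hz : z = 1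
  · rw [hz, map_one]
  obtain ⟨j, rfl⟩ := hf v z hv hz
  rw [hgi]
  exact (hiff j).2 (hk.mul_right _)

variable {G : Type u} [Group G] [Finite G] {S : Sylow 2 G} {A : Subgroup G}

/-- The fixer of a covering component. -/
def CoverFix (A F : Subgroup G) : Prop :=
  ∃ (a : G) (K : Subgroup (Bar a)), MovedAt A a K 8 ∧ fixerAt A a K = F ∧
    fixerAt A a K ⊓ partAt A a K ≠ ⊥

theorem CoverFix.le {F : Subgroup G} (h : CoverFix A F) : F ≤ A := by
  obtain ⟨a, K, -, rfl, -⟩ := h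
  exact inf_le_left

theorem CoverFix.card_eq (C : Ctx G S A) {F : Subgroup G} (h : CoverFix A F) :
    Nat.card ↥A = 8 * Nat.card ↥F := by
  obtain ⟨a, K, hK, rfl, -⟩ := h
  exact C.card_eq hK

theorem CoverFix.conj (C : Ctx G S A) (hl : LocalsHold A) {F : Subgroup G} (h : CoverFix A F) {g : G}
    (hg : g ∈ normalizer (A : Set G)) : CoverFix A (F.map (MulAut.conj g).toMonoidHom) := by
  obtain ⟨a, K, hK, rfl, hne⟩ := h
  obtain ⟨M, hM, hMf, hMp, -⟩ := C.movedAt_conj hl hg rfl hK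
  refine ⟨_, M, hM, hMf, ?_⟩
  rw [hMf, hMp, ← map_inf _ _ _ (MulAut.conj g).injective, Ne,
    Subgroup.map_eq_bot_iff_of_injective _ (MulAut.conj g).injective]
  exact hne

/-- What is used about a covering component. -/
theorem CoverFix.facts (C : Ctx G S A) (hl : LocalsHold A) {F : Subgroup G} (h : CoverFix A F) :
    ∃ d ∈ F, d ≠ 1 ∧
      (∀ f ∈ F, f ≠ 1 → ∃ M : Subgroup (Bar f), MovedAt A f M 8 ∧ fixerAt A f M = F ∧ d ∈ partAt A f M) ∧
      (∀ p ∈ A, ∃ x ∈ normalizer (A : Set G), x ∈ centralizer (F : Set G) ∧ x ∉ centralizer (A : Set G) ∧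
        x * p = p * x ∧ ∀ b ∈ A, x * b * x⁻¹ * b⁻¹ ∈ F) ∧
      ∃ y ∈ normalizer (A : Set G), y ∈ centralizer (F : Set G) ∧ TransMod A F y ∧
        ∀ g ∈ normalizer (A : Set G), F.map (MulAut.conj g).toMonoidHom = F →
          ∃ k : ℕ, ∀ b ∈ A, g * y * g⁻¹ * b * (g * y * g⁻¹)⁻¹ * (y ^ k * b * (y ^ k)⁻¹)⁻¹ ∈ F := by
  obtain ⟨a, K, hK, rfl, hne⟩ := h
  set Ha := centralizer ({a} : Set G)
  have hbig : BigAt A 8 := fun b M s _ hS => by rcases hS.four_or_eight with e | e <;> omega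
  obtain ⟨N, hN⟩ := C.exists_isLift hl hK
  have hcover : Subgroup.center ↥K ≠ ⊥ := by
    intro hc
    obtain ⟨z, hz, hz1⟩ := (bot_or_exists_ne_one _).resolve_left hne
    have hzA : z ∈ A := hz.1.1
    have h1 := (C.mem_fixerAt hK.mem hzA).1 hz.1
    have h2 := (C.mem_pull hK.mem hzA).1 hz.2
    have h3 : (⟨_, h2⟩ : ↥K) ∈ Subgroup.center ↥K :=
      mem_center_iff.2 fun k => Subtype.ext (mem_centralizer_iff.1 h1 k k.2)
    rw [hc, mem_bot] at h3
    exact hz1 (C.eq_one_of_proj hK.mem hzA (congrArg Subtype.val h3))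
  obtain ⟨-, Q, t, D⟩ := hK.data.cover hcover
  have hlift : ∀ k ∈ Q, ∃ x : ↥Ha, (x : G) ∈ N ∧ (x : G) ∈ normalizer (A : Set G) ∧ proj a x = k := fun k hk =>
    hN.surjN k (D.le hk) (D.norm hk)
  have hcommF : ∀ x : ↥Ha, (x : G) ∈ normalizer (A : Set G) → proj a x ∈ Q → ∀ b ∈ A,
      (x : G) * b * (x : G)⁻¹ * b⁻¹ ∈ fixerAt A a K := by
    intro x hxA hxQ b hb
    have hm : (x : G) * b * (x : G)⁻¹ * b⁻¹ ∈ A := mul_mem ((mem_normalizer_iff.1 hxA b).1 hb) (inv_mem hb)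
    refine (C.mem_fixerAt hK.mem hm).2 ?_
    rw [show proj a ⟨_, C.le_centralizer_of_mem hK.mem hm⟩ =
        ⁅proj a ⟨b, C.le_centralizer_of_mem hK.mem hb⟩, proj a x⁆⁻¹ by
      rw [← map_commutatorElement, ← map_inv]
      exact congrArg _ (Subtype.ext (by simp [commutatorElement_def, mul_assoc]))]
    exact inv_mem (D.comm (commutator_mem_commutator ⟨⟨b, C.le_centralizer_of_mem hK.mem hb⟩, hb, rfl⟩ hxQ)).1.2
  obtain ⟨y, hyN, hyA, hy, hyu⟩ := hN.exists_torus C hl hK hbig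
  -- the element `d`
  obtain ⟨k₀, hk₀, hk₀A⟩ := SetLike.not_le_iff_exists.1 D.ne
  obtain ⟨x₀, hx₀N, hx₀A, hx₀⟩ := hlift k₀ hk₀
  obtain ⟨b₀, hb₀, hd1⟩ : ∃ b ∈ A, (x₀ : G) * b * (x₀ : G)⁻¹ * b⁻¹ ≠ 1 := by
    by_contra hc
    push Not at hc
    refine hk₀A (hx₀ ▸ mem_centralizer_iff.2 ?_)
    rintro _ ⟨b, hb, rfl⟩
    rw [← map_mul, ← map_mul]
    exact congrArg _ (Subtype.ext (mul_inv_eq_iff_eq_mul.1 (mul_inv_eq_one.1 (hc b hb))).symm)
  refine ⟨_, hcommF x₀ hx₀A (hx₀ ▸ hk₀) b₀ hb₀, hd1, fun f hf hf1 => ?_, fun p hp => ?_,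
    y, hyA, hN.cent hyN, hy, fun g hg hgF => ?_⟩
  · obtain ⟨M, hM, hMf, hMimg⟩ := hN.comps hbig f hf hf1
    have hxf : (x₀ : G) ∈ centralizer ({f} : Set G) :=
      mem_centralizer_singleton_iff.2 (mem_centralizer_iff.1 (hN.cent hx₀N) f hf).symm
    exact ⟨M, hM, hMf, C.comm_mem_part hM (x := ⟨_, hxf⟩) (hMimg ⟨_, hxf⟩ hx₀N) hx₀A hb₀⟩
  · obtain ⟨k, hk, hkA, hkp⟩ := D.commuting (proj a ⟨p, C.le_centralizer_of_mem hK.mem hp⟩) ⟨_, hp, rfl⟩
    obtain ⟨x, hxN, hxA, rfl⟩ := hlift k hk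
    refine ⟨x, hxA, hN.cent hxN, fun hc => hkA (mem_centralizer_iff.2 ?_), ?_, hcommF x hxA hk⟩
    · rintro _ ⟨b, hb, rfl⟩
      rw [← map_mul, ← map_mul]
      exact congrArg _ (Subtype.ext (mem_centralizer_iff.1 hc b hb))
    · have hm : (x : G) * p * (x : G)⁻¹ * p⁻¹ ∈ A := mul_mem ((mem_normalizer_iff.1 hxA p).1 hp) (inv_mem hp)
      have h1 := C.eq_one_of_proj hK.mem hm (by
        rw [show (⟨_, C.le_centralizer_of_mem hK.mem hm⟩ : ↥Ha) =
            x * ⟨p, C.le_centralizer_of_mem hK.mem hp⟩ * x⁻¹ * ⟨p, C.le_centralizer_of_mem hK.mem hp⟩⁻¹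
          from Subtype.ext (by simp), map_mul, map_mul, map_mul, map_inv, map_inv, hkp, mul_inv_cancel_right,
          mul_inv_cancel])
      exact mul_inv_eq_iff_eq_mul.1 (mul_inv_eq_one.1 h1)
  · obtain ⟨k, hk⟩ := hyu g hg hgF
    exact ⟨k, fun b hb => (hk b hb).1⟩

/-- The automorphism induced on `A / F`. -/
theorem eq_of_fixed (C : Ctx G S A) {F : Subgroup G} (hFA : F ≤ A) (hcard : Nat.card ↥A = 8 * Nat.card ↥F)
    {x y : G} (hxA : x ∈ normalizer (A : Set G)) (hxF : x ∈ normalizer (F : Set G))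
    (hyA : y ∈ normalizer (A : Set G)) (hyF : y ∈ normalizer (F : Set G)) (hy : TransMod A F y) {k : ℕ}
    (hk : ∀ b ∈ A, x * y * x⁻¹ * b * (x * y * x⁻¹)⁻¹ * (y ^ k * b * (y ^ k)⁻¹)⁻¹ ∈ F)
    {v w : G} (hv : v ∈ A) (hw : w ∈ A) (hvF : v ∉ F) (hwF : w ∉ F) (hvw : v⁻¹ * w ∉ F)
    (hxv : x * v = v * x) (hxw : x * w = w * x) : ∀ b ∈ A, x * b * x⁻¹ * b⁻¹ ∈ F := by
  set FA := F.subgroupOf A
  haveI : FA.Normal := ⟨fun n hn g => by
    rw [show g * n * g⁻¹ = n from Subtype.ext (by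
      simp only [Subgroup.coe_mul, InvMemClass.coe_inv]
      rw [C.comm g.2 n.2, mul_inv_cancel_right])]
    exact hn⟩
  set H := normalizer (A : Set G) ⊓ normalizer (F : Set G)
  let act : ↥H → MulAut (↥A ⧸ FA) := fun n =>
    QuotientGroup.congr FA FA (A.normalizerMonoidHom ⟨n, n.2.1⟩) (by
      ext z
      constructor
      · rintro ⟨u, hu, rfl⟩
        exact (mem_normalizer_iff.1 n.2.2 _).1 hu
      · intro hz
        refine ⟨⟨(n : G)⁻¹ * z * n, (mem_normalizer_iff.1 n.2.1 _).2 (by simp [mul_assoc, z.2])⟩, ?_, ?_⟩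
        · exact (mem_normalizer_iff.1 n.2.2 _).2 (by simpa [FA, mul_assoc, mem_subgroupOf] using hz)
        · refine Subtype.ext ?_
          show (n : G) * ((n : G)⁻¹ * z * n) * (n : G)⁻¹ = z
          group)
  have hact : ∀ (n : ↥H) (b : G) (hb : b ∈ A) (hb' : (n : G) * b * (n : G)⁻¹ ∈ A),
      act n (QuotientGroup.mk' FA ⟨b, hb⟩) = QuotientGroup.mk' FA ⟨_, hb'⟩ := fun n b hb hb' => rfl
  let θ : ↥H →* MulAut (↥A ⧸ FA) := MonoidHom.mk' act fun m n => MulEquiv.ext fun z => by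
    obtain ⟨b, rfl⟩ := QuotientGroup.mk'_surjective FA z
    rw [MulAut.mul_apply, hact (m * n) b b.2 ((mem_normalizer_iff.1 (m * n).2.1 _).1 b.2),
      hact n b b.2 ((mem_normalizer_iff.1 n.2.1 _).1 b.2),
      hact m _ _ ((mem_normalizer_iff.1 m.2.1 _).1 ((mem_normalizer_iff.1 n.2.1 _).1 b.2))]
    exact congrArg _ (Subtype.ext (by simp [mul_assoc]))
  have hmk : ∀ b c : ↥A, QuotientGroup.mk' FA b = QuotientGroup.mk' FA c ↔ (b : G)⁻¹ * c ∈ F := fun b c => by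
    rw [QuotientGroup.mk'_apply, QuotientGroup.mk'_apply, QuotientGroup.eq]
    exact Iff.rfl
  set xH : ↥H := ⟨x, hxA, hxF⟩
  set yH : ↥H := ⟨y, hyA, hyF⟩
  have hQ : Nat.card (↥A ⧸ FA) = 8 := by
    have h1 := Subgroup.card_eq_card_quotient_mul_card_subgroup FA
    rw [hcard, Nat.card_congr (subgroupOfEquivOfLe hFA).toEquiv] at h1
    exact (Nat.eq_of_mul_eq_mul_right Nat.card_pos h1).symm
  have hne : ∀ {b : G} (hb : b ∈ A), b ∉ F → QuotientGroup.mk' FA (⟨b, hb⟩ : ↥A) ≠ 1 := fun hb hbF e =>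
    hbF (mem_subgroupOf.1 ((QuotientGroup.eq_one_iff (N := FA) _).1 e))
  have hθ : θ xH = 1 := by
    refine aut_eq_one (f := θ yH) (k := k) hQ ?_ ?_ (hne hv hvF) (hne hw hwF) (fun e => hvw ((hmk _ _).1 e)) ?_ ?_
    · intro p r hp hr
      obtain ⟨b, rfl⟩ := QuotientGroup.mk'_surjective FA p
      obtain ⟨c, rfl⟩ := QuotientGroup.mk'_surjective FA r
      obtain ⟨i, hi⟩ := hy b b.2 c c.2 (fun h => hp ((QuotientGroup.eq_one_iff _).2 h))
        fun h => hr ((QuotientGroup.eq_one_iff _).2 h)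
      refine ⟨i, ?_⟩
      rw [← map_pow]
      exact (hmk ⟨_, (mem_normalizer_iff.1 (yH ^ i).2.1 _).1 b.2⟩ c).2 (by simpa [yH] using hi)
    · refine (mul_inv_eq_iff_eq_mul.1 ?_)
      rw [← map_pow, ← map_inv, ← map_mul, ← map_mul]
      refine MulEquiv.ext fun z => ?_
      obtain ⟨b, rfl⟩ := QuotientGroup.mk'_surjective FA z
      have h1 := hk b b.2
      refine (hmk ⟨_, (mem_normalizer_iff.1 (xH * yH * xH⁻¹).2.1 _).1 b.2⟩
        ⟨_, (mem_normalizer_iff.1 (yH ^ k).2.1 _).1 b.2⟩).2 ?_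
      show (x * y * x⁻¹ * b * (x * y * x⁻¹)⁻¹)⁻¹ * ((yH ^ k : ↥H) * b * ((yH ^ k : ↥H) : G)⁻¹) ∈ F
      rw [SubmonoidClass.coe_pow]
      have hm1 : x * y * x⁻¹ * b * (x * y * x⁻¹)⁻¹ ∈ A :=
        (mem_normalizer_iff.1 (mul_mem (mul_mem hxA hyA) (inv_mem hxA)) _).1 b.2
      have hm2 : y ^ k * b * (y ^ k)⁻¹ ∈ A := (mem_normalizer_iff.1 (pow_mem hyA k) _).1 b.2
      have h2 := inv_mem h1
      rw [mul_inv_rev, inv_inv, C.comm hm2 (inv_mem hm1)] at h2
      exact h2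
    · exact (hmk ⟨_, (mem_normalizer_iff.1 hxA v).1 hv⟩ ⟨v, hv⟩).2 (by
        show (x * v * x⁻¹)⁻¹ * v ∈ F
        rw [hxv, mul_inv_cancel_right, inv_mul_cancel]; exact one_mem F)
    · exact (hmk ⟨_, (mem_normalizer_iff.1 hxA w).1 hw⟩ ⟨w, hw⟩).2 (by
        show (x * w * x⁻¹)⁻¹ * w ∈ F
        rw [hxw, mul_inv_cancel_right, inv_mul_cancel]; exact one_mem F)
  intro b hb
  have h1 : QuotientGroup.mk' FA ⟨_, (mem_normalizer_iff.1 hxA b).1 hb⟩ = QuotientGroup.mk' FA ⟨b, hb⟩ :=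
    DFunLike.congr_fun hθ (QuotientGroup.mk' FA ⟨b, hb⟩)
  have h2 := (hmk _ _).1 h1.symm
  rwa [C.comm (inv_mem hb) ((mem_normalizer_iff.1 hxA b).1 hb)] at h2

/-- Multiplication of two subgroups of `A`. -/
theorem Ctx.exists_mulHom (C : Ctx G S A) {F F' : Subgroup G} (hF : F ≤ A) (hF' : F' ≤ A) :
    ∃ μ : ↥F × ↥F' →* G, ∀ z, μ z = (z.1 : G) * z.2 :=
  ⟨F.subtype.noncommCoprod F'.subtype fun x z => C.comm (hF x.2) (hF' z.2), fun _ => rfl⟩

/-- **All moved components are simple.** -/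
theorem simpleCompsTarget : SimpleCompsTarget.{u} := by
  intro G _ _ S A C hl a K q hK
  by_contra hcenter
  obtain ⟨rfl, -⟩ := hK.data.cover hcenter
  have hcov₀ : CoverFix A (fixerAt A a K) := by
    refine ⟨a, K, hK, rfl, fun e => hcenter ?_⟩
    rw [eq_bot_iff]
    intro z hz
    -- a central element of the component lies in the image of `A`
    obtain ⟨-, Q, t, D⟩ := hK.data.cover hcenter
    obtain ⟨k, hk, hkA⟩ := SetLike.not_le_iff_exists.1 D.ne
    exfalso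
    refine hkA (mem_centralizer_iff.2 ?_)
    rintro _ ⟨b, hb, rfl⟩
    have h1 := D.comm (commutator_mem_commutator (mem_map_of_mem (proj a) hb) hk)
    have hbot : bar A a ⊓ centralizer (K : Set (Bar a)) ⊓ K = ⊥ := by
      rw [eq_bot_iff]
      rintro _ ⟨⟨⟨w, hw, rfl⟩, hwc⟩, hwK⟩
      have h2 : (w : G) ∈ fixerAt A a K ⊓ partAt A a K :=
        ⟨(C.mem_fixerAt hK.mem hw).2 hwc, (C.mem_pull hK.mem hw).2 hwK⟩
      rw [e, mem_bot] at h2
      rw [mem_bot, show w = 1 from Subtype.ext h2, map_one]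
    rw [hbot, mem_bot, commutatorElement_eq_one_iff_mul_comm] at h1
    exact h1
  set F₀ := fixerAt A a K
  by_cases hmeet : ∀ F F' : Subgroup G, CoverFix A F → CoverFix A F' → F ⊓ F' ≠ ⊥
  · -- an element in all fixers
    obtain ⟨d, hd, hd1, hdM, -, -⟩ := hcov₀.facts C hl
    set J := ⨅ F ∈ {F : Subgroup G | CoverFix A F}, F
    have hdJ : d ∈ J := by
      simp only [J, Set.mem_setOf_eq, mem_iInf]
      intro F hF
      obtain ⟨f, hf, hf1⟩ := (bot_or_exists_ne_one _).resolve_left (hmeet F₀ F hcov₀ hF)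
      obtain ⟨M, hM, hMf, hdp⟩ := hdM f hf.1 hf1
      obtain ⟨d', -, -, hdM', -, -⟩ := hF.facts C hl
      obtain ⟨M', hM', hM'f, -⟩ := hdM' f hf.2 hf1
      by_cases hMM : M = M'
      · subst hMM
        rw [← hM'f, hMf]
        exact hd
      · rw [← hM'f]
        have hdA : d ∈ A := hdp.1
        exact (C.mem_fixerAt hM.mem hdA).2 ((commutator_eq_bot_iff_le_centralizer.1
          (IsComponent.commutator_eq_bot hM.moved.1 hM'.moved.1 hMM)) ((C.mem_pull hM.mem hdA).1 hdp))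
    have hJF : J ≤ F₀ := iInf₂_le F₀ hcov₀
    have hJA : J ≤ A := hJF.trans hcov₀.le
    have hNJ : normalizer (A : Set G) ≤ normalizer (J : Set G) := fun g hg =>
      Signalizer.mem_normalizer_of_conj_mem fun x hx => by
      simp only [J, Set.mem_setOf_eq, mem_iInf] at hx ⊢
      intro F hF
      obtain ⟨w, hw, hwe⟩ := (show g⁻¹ * (g * x * g⁻¹) * g⁻¹⁻¹ ∈ F.map (MulAut.conj g⁻¹).toMonoidHom by
        simpa [mul_assoc] using hx _ (hF.conj C hl (inv_mem hg)))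
      rwa [show w = g * x * g⁻¹ from (MulAut.conj g⁻¹).injective hwe] at hw
    rcases C.irred J hJA hNJ with e | e
    · exact hd1 (mem_bot.1 (e ▸ hdJ))
    · have h8 := hcov₀.card_eq C
      have := Subgroup.card_le_of_le (e.ge.trans hJF)
      have hpos : 0 < Nat.card ↥F₀ := Nat.card_pos
      omega
  push Not at hmeet
  obtain ⟨F, F', hF, hF', hFF⟩ := hmeet
  have h8 := hF.card_eq C
  have hcardF : Nat.card ↥F' = Nat.card ↥F :=
    Nat.eq_of_mul_eq_mul_left (by norm_num) ((hF'.card_eq C).symm.trans h8)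
  obtain ⟨μ, hμ⟩ := C.exists_mulHom hF.le hF'.le
  have hμinj : Function.Injective μ := by
    rw [injective_iff_map_eq_one]
    rintro ⟨u, v⟩ huv
    rw [hμ] at huv
    have hu : (u : G) ∈ F ⊓ F' := Subgroup.mem_inf.2 ⟨u.2, by rw [eq_inv_of_mul_eq_one_left huv]; exact inv_mem v.2⟩
    rw [hFF, mem_bot] at hu
    rw [hu, one_mul] at huv
    exact Prod.ext (Subtype.ext hu) (Subtype.ext huv)
  have hsq : Nat.card ↥F * Nat.card ↥F ≤ Nat.card ↥A := by
    have := Nat.card_le_card_of_injective (fun z => (⟨μ z, by rw [hμ]; exact mul_mem (hF.le z.1.2) (hF'.le z.2.2)⟩ : ↥A))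
      fun z w h => hμinj (congrArg Subtype.val h)
    rwa [Nat.card_prod, hcardF] at this
  have hle8 : Nat.card ↥F ≤ 8 := by
    rw [h8] at hsq
    exact Nat.le_of_mul_le_mul_right hsq Nat.card_pos
  -- distinct fixers meet trivially
  have hdisj : ∀ F'' : Subgroup G, CoverFix A F'' → F'' ≠ F' → F' ⊓ F'' = ⊥ := by
    intro F'' hF'' hne
    by_contra hb
    obtain ⟨f, hf, hf1⟩ := (bot_or_exists_ne_one _).resolve_left hb
    obtain ⟨d', -, -, hdM', -, -⟩ := hF'.facts C hl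
    obtain ⟨M', hM', hM'f, -⟩ := hdM' f hf.1 hf1
    obtain ⟨d'', -, -, hdM'', -, -⟩ := hF''.facts C hl
    obtain ⟨M'', hM'', hM''f, -⟩ := hdM'' f hf.2 hf1
    have hMM : M' ≠ M'' := fun e => hne (by subst e; exact hM''f.symm.trans hM'f)
    obtain ⟨ν, hν⟩ := C.exists_mulHom hF'.le hF''.le
    have hAν : A ≤ ν.range := by
      intro b hb
      obtain ⟨c, hc, z, hz, hcz⟩ : ∃ c ∈ partAt A f M', ∃ z ∈ fixerAt A f M', c * z = b := by
        have hn : bar A f ⊓ centralizer (M' : Set (Bar f)) ≤ normalizer ((bar A f ⊓ M' : Subgroup (Bar f)) : Set (Bar f)) :=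
          fun z hz => centralizer_le_normalizer _ (mem_centralizer_iff.2 fun w hw =>
            Signalizer.commute_of_isMulCommutative (C.bar_comm f) hw.1 hz.1)
        obtain ⟨c, hc, z, hz, hcz⟩ := (Coprime.mem_sup_iff hn).1
          (hM'.data.sup.ge ⟨⟨b, C.le_centralizer_of_mem hM'.mem hb⟩, hb, rfl⟩)
        obtain ⟨c', hc'A, rfl⟩ := hc.1
        obtain ⟨z', hz'A, rfl⟩ := hz.1
        refine ⟨c', (C.mem_pull hM'.mem hc'A).2 hc.2, z', (C.mem_fixerAt hM'.mem hz'A).2 hz.2, ?_⟩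
        have := C.eq_one_of_proj hM'.mem (mul_mem (inv_mem (mul_mem hc'A hz'A)) hb) (by
          show proj f ((c' * z')⁻¹ * ⟨b, C.le_centralizer_of_mem hM'.mem hb⟩) = 1
          rw [map_mul, map_inv, map_mul, hcz, inv_mul_cancel])
        exact inv_mul_eq_one.1 this
      rw [hM'f] at hz
      have hcF'' : c ∈ F'' := by
        rw [← hM''f]
        have hcA : c ∈ A := hc.1
        exact (C.mem_fixerAt hM'.mem hcA).2 ((commutator_eq_bot_iff_le_centralizer.1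
          (IsComponent.commutator_eq_bot hM'.moved.1 hM''.moved.1 hMM)) ((C.mem_pull hM'.mem hcA).1 hc))
      exact ⟨(⟨z, hz⟩, ⟨c, hcF''⟩), by rw [hν, C.comm (hF'.le hz) hc.1]; exact hcz⟩
    have hker : 2 ≤ Nat.card ↥ν.ker := by
      refine (Subgroup.one_lt_card_iff_ne_bot _).2 fun e => hf1 ?_
      have : ((⟨f, hf.1⟩, ⟨f⁻¹, inv_mem hf.2⟩) : ↥F' × ↥F'') ∈ ν.ker := by rw [MonoidHom.mem_ker, hν, mul_inv_cancel]
      rw [e, mem_bot] at this
      exact congrArg (fun z : ↥F' × ↥F'' => (z.1 : G)) this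
    have h1 := Subgroup.card_mul_index ν.ker
    rw [Subgroup.index_ker, Nat.card_prod, hcardF] at h1
    have h2 := Subgroup.card_le_of_le hAν
    have h3 : Nat.card ↥F'' = Nat.card ↥F :=
      Nat.eq_of_mul_eq_mul_left (by norm_num) ((hF''.card_eq C).symm.trans h8)
    rw [h3] at h1
    rw [h8] at h2
    have hp : 0 < Nat.card ↥F := Nat.card_pos
    nlinarith
  -- a transvection normalising `F'`
  obtain ⟨p, hp, hp1⟩ : ∃ p ∈ F', p ≠ 1 := (bot_or_exists_ne_one _).resolve_left fun e => by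
    obtain ⟨d', hd', hd'1, -⟩ := hF'.facts C hl
    rw [e] at hd'
    exact hd'1 (mem_bot.1 hd')
  obtain ⟨-, -, -, -, htv, -⟩ := hF.facts C hl
  obtain ⟨x, hxA, hxF, hxnc, hxp, hxd⟩ := htv p (hF'.le hp)
  have hxF' : F'.map (MulAut.conj x).toMonoidHom = F' := by
    by_contra hne
    have h1 : p ∈ F' ⊓ F'.map (MulAut.conj x).toMonoidHom :=
      ⟨hp, p, hp, show x * p * x⁻¹ = p by rw [hxp, mul_inv_cancel_right]⟩
    rw [hdisj _ (hF'.conj C hl hxA) hne, mem_bot] at h1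
    exact hp1 h1
  have hxnF' : x ∈ normalizer (F' : Set G) :=
    Signalizer.mem_normalizer_of_conj_mem fun b hb => hxF'.le ⟨b, hb, rfl⟩
  -- what `x` fixes
  set Kx := A ⊓ centralizer ({x} : Set G)
  have hFK : F ≤ Kx := fun b hb =>
    ⟨hF.le hb, mem_centralizer_singleton_iff.2 (mem_centralizer_iff.1 hxF b hb)⟩
  have hF'K : F' ≤ Kx := fun b hb => by
    refine ⟨hF'.le hb, mem_centralizer_singleton_iff.2 ?_⟩
    have h1 : x * b * x⁻¹ * b⁻¹ ∈ F ⊓ F' := Subgroup.mem_inf.2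
      ⟨hxd b (hF'.le hb), mul_mem ((mem_normalizer_iff.1 hxnF' b).1 hb) (inv_mem hb)⟩
    rw [hFF, mem_bot] at h1
    exact (mul_inv_eq_iff_eq_mul.1 (mul_inv_eq_one.1 h1)).symm
  have hK8 : 8 ≤ Nat.card ↥Kx := by
    let δ : ↥A →* ↥F := MonoidHom.mk' (fun b => ⟨x * b * x⁻¹ * (b : G)⁻¹, hxd b b.2⟩) fun b c => Subtype.ext (by
      show x * ((b : G) * c) * x⁻¹ * ((b : G) * c)⁻¹ = x * b * x⁻¹ * (b : G)⁻¹ * (x * c * x⁻¹ * (c : G)⁻¹)
      have h1 : (b : G) * (x * c * x⁻¹ * (c : G)⁻¹) = x * c * x⁻¹ * (c : G)⁻¹ * b :=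
        C.comm b.2 (mul_mem ((mem_normalizer_iff.1 hxA _).1 c.2) (inv_mem c.2))
      calc x * ((b : G) * c) * x⁻¹ * ((b : G) * c)⁻¹
          = x * b * x⁻¹ * (b : G)⁻¹ * ((b : G) * (x * c * x⁻¹ * (c : G)⁻¹)) * (b : G)⁻¹ := by group
        _ = _ := by rw [h1]; group)
    have hker : δ.ker ≤ Kx.subgroupOf A := fun b hb => ⟨b.2, mem_centralizer_singleton_iff.2
      (mul_inv_eq_iff_eq_mul.1 (mul_inv_eq_one.1 (congrArg Subtype.val (MonoidHom.mem_ker.1 hb)))).symm⟩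
    have h1 := Subgroup.card_mul_index δ.ker
    rw [Subgroup.index_ker, h8] at h1
    have h2 := Subgroup.card_le_card_group δ.range
    have h3 := (Subgroup.card_le_of_le hker).trans_eq
      (Nat.card_congr (subgroupOfEquivOfLe (inf_le_left : Kx ≤ A)).toEquiv)
    have hp : 0 < Nat.card ↥F := Nat.card_pos
    nlinarith
  have hKsq : Nat.card ↥F * Nat.card ↥F ≤ Nat.card ↥Kx := by
    have := Nat.card_le_card_of_injective (fun z => (⟨μ z, by rw [hμ]; exact mul_mem (hFK z.1.2) (hF'K z.2.2)⟩ : ↥Kx))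
      fun z w h => hμinj (congrArg Subtype.val h)
    rwa [Nat.card_prod, hcardF] at this
  obtain ⟨m, hm⟩ := Subgroup.card_dvd_of_le hF'K
  obtain ⟨v, hv, w, hw, hvF, hwF, hvw⟩ := exists_pair (A := Kx) (Cc := F') hF'K (q := m)
    (by
      by_contra h3
      rw [hcardF] at hm
      have hp : 0 < Nat.card ↥F := Nat.card_pos
      nlinarith)
    (by rw [hm, mul_comm])
  obtain ⟨-, -, -, -, -, y, hyA, hyF, hy, hyu⟩ := hF'.facts C hl
  obtain ⟨k, hk⟩ := hyu x hxA hxF'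
  have hall := eq_of_fixed C hF'.le (hF'.card_eq C) hxA hxnF' hyA (centralizer_le_normalizer _ hyF) hy hk
    hv.1 hw.1 hvF hwF hvw (mem_centralizer_singleton_iff.1 hv.2).symm (mem_centralizer_singleton_iff.1 hw.2).symm
  refine hxnc (mem_centralizer_iff.2 fun b hb => ?_)
  have h1 : x * b * x⁻¹ * b⁻¹ ∈ F ⊓ F' := ⟨hxd b hb, hall b hb⟩
  rw [hFF, mem_bot] at h1
  exact (mul_inv_eq_iff_eq_mul.1 (mul_inv_eq_one.1 h1)).symm

end Cfsg.Agent.Goldschmidt.General
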