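import Cfsg.Agent.Lib.Goldschmidt.General.Lift
import Cfsg.Agent.Lib.Goldschmidt.General.Targets

/-!
# The blocks of the largest parameter (owner: helper63)

* `Ctx.block_compl` : for a simple component the fixer and the part are complements in `A`
* `Ctx.part_le_fixerAt` : the part of a component centralises every other component
* `Ctx.exists_same_block` : the block of a component is seen at every member of its fixer
* `topBlocksTarget` : the components of largest parameter form blocks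
-/

set_option autoImplicit false
set_option linter.unusedSectionVars false
set_option linter.style.haveILetI false

namespace Cfsg.Agent.Goldschmidt.General

open Cfsg Subgroup Cfsg.Agent.Components
open scoped commutatorElement

universe u

variable {G : Type u} [Group G] [Finite G] {S : Sylow 2 G} {A : Subgroup G}

/-- The part of a component lies in the fixer of every other component. -/
theorem Ctx.part_le_fixerAt (C : Ctx G S A) {f : G} {M M' : Subgroup (Bar f)} {q r : ℕ} (hM : MovedAt A f M q)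
    (hM' : MovedAt A f M' r) (hne : M ≠ M') : partAt A f M ≤ fixerAt A f M' := fun x hx => by
  have hxA : x ∈ A := hx.1
  exact (C.mem_fixerAt hM.mem hxA).2 ((commutator_eq_bot_iff_le_centralizer.1
    (IsComponent.commutator_eq_bot hM.moved.1 hM'.moved.1 hne)) ((C.mem_pull hM.mem hxA).1 hx))

/-- For a simple component the fixer and the part are complements in `A`. -/
theorem Ctx.block_compl (C : Ctx G S A) {a : G} {K : Subgroup (Bar a)} {q : ℕ} (hK : MovedAt A a K q)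
    (hZ : Subgroup.center ↥K = ⊥) :
    fixerAt A a K ⊔ partAt A a K = A ∧ fixerAt A a K ⊓ partAt A a K = ⊥ ∧
      Nat.card ↥(partAt A a K) = q ∧ fixerAt A a K ≠ ⊥ := by
  have hinf : fixerAt A a K ⊓ partAt A a K = ⊥ := by
    rw [eq_bot_iff]
    rintro x ⟨hxF, hxP⟩
    have hxA : x ∈ A := hxP.1
    have h1 := (C.mem_fixerAt hK.mem hxA).1 hxF
    have h2 := (C.mem_pull hK.mem hxA).1 hxP
    have h3 : (⟨_, h2⟩ : ↥K) ∈ Subgroup.center ↥K :=
      mem_center_iff.2 fun k => Subtype.ext (mem_centralizer_iff.1 h1 k k.2)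
    rw [hZ, mem_bot] at h3
    exact mem_bot.2 (C.eq_one_of_proj hK.mem hxA (congrArg Subtype.val h3))
  have hmul : ∀ b ∈ A, ∃ c ∈ partAt A a K, ∃ z ∈ fixerAt A a K, c * z = b := by
    intro b hb
    have hn : bar A a ⊓ centralizer (K : Set (Bar a)) ≤
        normalizer ((bar A a ⊓ K : Subgroup (Bar a)) : Set (Bar a)) := fun z hz =>
      centralizer_le_normalizer _ (mem_centralizer_iff.2 fun w hw =>
        Signalizer.commute_of_isMulCommutative (C.bar_comm a) hw.1 hz.1)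
    obtain ⟨c, hc, z, hz, hcz⟩ := (Coprime.mem_sup_iff hn).1
      (hK.data.sup.ge ⟨⟨b, C.le_centralizer_of_mem hK.mem hb⟩, hb, rfl⟩)
    obtain ⟨c', hc'A, rfl⟩ := hc.1
    obtain ⟨z', hz'A, rfl⟩ := hz.1
    refine ⟨c', (C.mem_pull hK.mem hc'A).2 hc.2, z', (C.mem_fixerAt hK.mem hz'A).2 hz.2, ?_⟩
    have := C.eq_one_of_proj hK.mem (mul_mem (inv_mem (mul_mem hc'A hz'A)) hb) (by
      show proj a ((c' * z')⁻¹ * ⟨b, C.le_centralizer_of_mem hK.mem hb⟩) = 1
      rw [map_mul, map_inv, map_mul, hcz, inv_mul_cancel])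
    exact inv_mul_eq_one.1 this
  refine ⟨le_antisymm (sup_le inf_le_left inf_le_left) fun b hb => ?_, hinf, ?_, fun e => hK.ne ?_⟩
  · obtain ⟨c, hc, z, hz, rfl⟩ := hmul b hb
    exact mul_mem (mem_sup_right hc) (mem_sup_left hz)
  · have h1 : Nat.card ↥(partAt A a K) * Nat.card ↥(fixerAt A a K) = Nat.card ↥A := by
      rw [← Nat.card_prod]
      refine Nat.card_congr (Equiv.ofBijective
        (fun z => (⟨(z.1 : G) * z.2, mul_mem z.1.2.1 z.2.2.1⟩ : ↥A)) ⟨fun z w h => ?_, fun b => ?_⟩)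
      · have h' : (z.1 : G) * z.2 = (w.1 : G) * w.2 := congrArg Subtype.val h
        have hmem : (w.1 : G)⁻¹ * z.1 ∈ fixerAt A a K ⊓ partAt A a K := by
          refine Subgroup.mem_inf.2 ⟨?_, mul_mem (inv_mem w.1.2) z.1.2⟩
          rw [show (w.1 : G)⁻¹ * z.1 = (w.2 : G) * (z.2 : G)⁻¹ by
            rw [eq_mul_inv_iff_mul_eq, mul_assoc, h', inv_mul_cancel_left]]
          exact mul_mem w.2.2 (inv_mem z.2.2)
        rw [hinf, mem_bot, inv_mul_eq_one] at hmem
        rw [← hmem] at h'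
        exact Prod.ext (Subtype.ext hmem.symm) (Subtype.ext (mul_left_cancel h'))
      · obtain ⟨c, hc, z, hz, e⟩ := hmul b b.2
        exact ⟨(⟨c, hc⟩, ⟨z, hz⟩), Subtype.ext e⟩
    rw [C.card_eq hK] at h1
    exact Nat.eq_of_mul_eq_mul_right Nat.card_pos h1
  · exact mem_bot.1 (e ▸ C.self_mem_fixerAt hK.mem K)

/-- The block of a component is seen at every member of its fixer. -/
theorem Ctx.exists_same_block (C : Ctx G S A) (hl : LocalsHold A) (hs : SimpleComps A) {a : G}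
    {K : Subgroup (Bar a)} {q : ℕ} (hK : MovedAt A a K q) (hbig : BigAt A q) {f : G}
    (hf : f ∈ fixerAt A a K) (hf1 : f ≠ 1) :
    ∃ M : Subgroup (Bar f), MovedAt A f M q ∧ fixerAt A f M = fixerAt A a K ∧ partAt A f M = partAt A a K := by
  obtain ⟨N, hN⟩ := C.exists_isLift hl hK
  obtain ⟨y, hyN, hyA, hy, -⟩ := hN.exists_torus C hl hK hbig
  obtain ⟨M, hM, hMf, hMimg⟩ := hN.comps hbig f hf hf1
  obtain ⟨-, hinf, hcP, -⟩ := C.block_compl hK (hs a K q hK)
  obtain ⟨-, -, hcP', -⟩ := C.block_compl hM (hs f M q hM)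
  refine ⟨M, hM, hMf, (eq_of_le_of_card_ge ?_ (by rw [hcP, hcP'])).symm⟩
  intro x hx
  by_cases hx1 : x = 1
  · rw [hx1]; exact one_mem _
  have hxA : x ∈ A := hx.1
  obtain ⟨⟨w, hw⟩, hw1, hwx⟩ : ∃ w : ↥(partAt A a K), (w : G) ≠ 1 ∧ (w : G) ≠ x := by
    by_contra hc
    push Not at hc
    have h1 : Nat.card ↥(partAt A a K) ≤ 2 := by
      classical
      let g : ↥(partAt A a K) → Bool := fun w => decide (w = 1)
      have hg : Function.Injective g := fun u v huv => by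
        by_cases hu : u = 1
        · have : v = 1 := by simpa [g, hu] using huv
          rw [hu, this]
        · have hv : v ≠ 1 := fun e => hu (by simpa [g, e] using huv)
          exact Subtype.ext ((hc u fun e => hu (Subtype.ext e)).trans (hc v fun e => hv (Subtype.ext e)).symm)
      simpa using Nat.card_le_card_of_injective g hg
    have h4 := hK.data.four_le
    omega
  have hwA : w ∈ A := hw.1
  have hz : x * w ∈ partAt A a K := mul_mem hx hw
  have hz1 : x * w ≠ 1 := fun e => hwx (by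
    rw [eq_inv_of_mul_eq_one_left e]
    exact (inv_eq_of_mul_eq_one_right (C.sq hwA)).symm)
  have hnot : ∀ u, u ∈ partAt A a K → u ≠ 1 → u ∉ fixerAt A a K := fun u hu hu1 huF =>
    hu1 (mem_bot.1 (hinf ▸ (Subgroup.mem_inf.2 ⟨huF, hu⟩ : u ∈ fixerAt A a K ⊓ partAt A a K)))
  obtain ⟨k, hk⟩ := hy w hwA _ hz.1 (hnot w hw hw1) (hnot _ hz hz1)
  have hya : y ^ k ∈ centralizer ({a} : Set G) := pow_mem (mem_centralizer_singleton_iff.2
    (mem_centralizer_iff.1 (hN.cent hyN) a (C.self_mem_fixerAt hK.mem K)).symm) k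
  have hyf : y ^ k ∈ centralizer ({f} : Set G) := pow_mem (mem_centralizer_singleton_iff.2
    (mem_centralizer_iff.1 (hN.cent hyN) f hf).symm) k
  have hkA : y ^ k ∈ normalizer (A : Set G) := pow_mem hyA k
  have hin : y ^ k * w * (y ^ k)⁻¹ * w⁻¹ ∈ partAt A a K :=
    C.comm_mem_part hK (x := ⟨_, hya⟩) (hN.image ⟨_, hya⟩ (pow_mem hyN k)) hkA hwA
  have hin' : y ^ k * w * (y ^ k)⁻¹ * w⁻¹ ∈ partAt A f M :=
    C.comm_mem_part hM (x := ⟨_, hyf⟩) (hMimg ⟨_, hyf⟩ (pow_mem hyN k)) hkA hwA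
  have hin2 : y ^ k * w * (y ^ k)⁻¹ ∈ partAt A a K := by
    have := mul_mem hin hw
    rwa [inv_mul_cancel_right] at this
  have he : y ^ k * w * (y ^ k)⁻¹ = x * w := by
    refine inv_mul_eq_one.1 (mem_bot.1 (hinf ▸ (Subgroup.mem_inf.2 ⟨hk, mul_mem (inv_mem hin2) hz⟩ :
      (y ^ k * w * (y ^ k)⁻¹)⁻¹ * (x * w) ∈ fixerAt A a K ⊓ partAt A a K)))
  rwa [he, mul_inv_cancel_right] at hin'

/-- **The components of largest parameter form blocks.** -/
theorem topBlocksTarget : TopBlocksTarget.{u} := by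
  intro G _ _ S A C hl hs hex
  set R := {r : ℕ | ∃ (a : G) (K : Subgroup (Bar a)), MovedAt A a K r}
  have hfin : R.Finite := (Set.finite_Iic (Nat.card ↥A)).subset fun r ⟨a, K, hK⟩ => by
    show r ≤ Nat.card ↥A
    rw [C.card_eq hK]
    exact Nat.le_mul_of_pos_right _ Nat.card_pos
  obtain ⟨q, ⟨a₀, K₀, hK₀⟩, hmax⟩ := Set.exists_max_image R id hfin (by
    obtain ⟨a, K, r, hK⟩ := hex
    exact ⟨r, a, K, hK⟩)
  have htop : ∀ a : G, ∀ K : Subgroup (Bar a), ∀ r : ℕ, MovedAt A a K r → r ≤ q :=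
    fun a K r hK => hmax r ⟨a, K, hK⟩
  have hbig : BigAt A q := fun b M s hM _ => htop b M s hM
  refine ⟨q, {B | ∃ (a : G) (K : Subgroup (Bar a)), MovedAt A a K q ∧ (fixerAt A a K, partAt A a K) = B},
    htop, fun a K hK => ⟨a, K, hK, rfl⟩, ⟨_, a₀, K₀, hK₀, rfl⟩, ?_, ?_, ?_, ?_, ?_, ?_, ?_⟩
  · rintro _ ⟨a, K, hK, rfl⟩
    exact C.block_compl hK (hs a K q hK)
  · rintro _ ⟨a, K, hK, rfl⟩
    obtain ⟨N, hN⟩ := C.exists_isLift hl hK
    obtain ⟨y, hyN, hyA, hy, hyu⟩ := hN.exists_torus C hl hK hbig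
    obtain ⟨hsup, hinf, -, -⟩ := C.block_compl hK (hs a K q hK)
    have hyC : y ∈ centralizer (fixerAt A a K : Set G) := hN.cent hyN
    have hya : y ∈ centralizer ({a} : Set G) := mem_centralizer_singleton_iff.2
      (mem_centralizer_iff.1 hyC a (C.self_mem_fixerAt hK.mem K)).symm
    have hyP : ∀ k : ℕ, ∀ x ∈ partAt A a K, y ^ k * x * (y ^ k)⁻¹ ∈ partAt A a K := fun k x hx => by
      have h1 := mul_mem (C.comm_mem_part hK (x := ⟨_, pow_mem hya k⟩)
        (hN.image ⟨_, pow_mem hya k⟩ (pow_mem hyN k)) (pow_mem hyA k) (b := x) hx.1) hx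
      rwa [inv_mul_cancel_right] at h1
    refine ⟨y, hyA, hyC, Signalizer.mem_normalizer_of_conj_mem fun x hx => by simpa using hyP 1 x hx,
      fun x hx z hz hx1 hz1 => ?_, fun g hg hgF => ?_⟩
    · have hnot : ∀ u ∈ partAt A a K, u ≠ 1 → u ∉ fixerAt A a K := fun u hu hu1 huF =>
        hu1 (mem_bot.1 (hinf ▸ (Subgroup.mem_inf.2 ⟨huF, hu⟩ : u ∈ fixerAt A a K ⊓ partAt A a K)))
      obtain ⟨k, hk⟩ := hy x hx.1 z hz.1 (hnot x hx hx1) (hnot z hz hz1)
      exact ⟨k, inv_mul_eq_one.1 (mem_bot.1 (hinf ▸ (Subgroup.mem_inf.2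
        ⟨hk, mul_mem (inv_mem (hyP k x hx)) hz⟩ :
        (y ^ k * x * (y ^ k)⁻¹)⁻¹ * z ∈ fixerAt A a K ⊓ partAt A a K)))⟩
    · obtain ⟨k, hk⟩ := hyu g hg hgF
      refine ⟨k, fun b hb => ?_⟩
      have h1 := hk b hb
      rw [hinf, mem_bot] at h1
      exact mul_inv_eq_one.1 h1
  · rintro _ ⟨a, K, hK, rfl⟩ g hg
    obtain ⟨M, hM, hMf, hMp, -⟩ := C.movedAt_conj hl hg rfl hK
    exact ⟨_, M, hM, by rw [hMf, hMp]⟩
  · rintro _ ⟨a, K, hK, rfl⟩ _ ⟨a', K', hK', rfl⟩ (he : fixerAt A a K = fixerAt A a' K')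
    obtain ⟨M, hM, hMf, hMp⟩ :=
      C.exists_same_block hl hs hK hbig (he.ge (C.self_mem_fixerAt hK'.mem K')) hK'.ne
    obtain rfl := C.eq_of_fixerAt_eq hM hK' (hMf.trans he)
    exact Prod.ext he hMp.symm
  · rintro _ ⟨a, K, hK, rfl⟩ _ ⟨a', K', hK', rfl⟩ (hne : fixerAt A a K ≠ fixerAt A a' K')
      (hmeet : fixerAt A a K ⊓ fixerAt A a' K' ≠ ⊥)
    obtain ⟨f, hf, hf1⟩ := (bot_or_exists_ne_one _).resolve_left hmeet
    obtain ⟨M, hM, hMf, hMp⟩ := C.exists_same_block hl hs hK hbig hf.1 hf1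
    obtain ⟨M', hM', hMf', hMp'⟩ := C.exists_same_block hl hs hK' hbig hf.2 hf1
    have hMM : M ≠ M' := fun e => hne (by subst e; exact hMf.symm.trans hMf')
    have h1 := C.part_le_fixerAt hM hM' hMM
    have h2 := C.part_le_fixerAt hM' hM hMM.symm
    rw [hMp, hMf'] at h1
    rw [hMp', hMf] at h2
    exact ⟨h1, h2⟩
  · rintro _ ⟨a, K, hK, rfl⟩ f hf hf1
    exact C.exists_same_block hl hs hK hbig hf hf1
  · rintro _ ⟨a, K, hK, rfl⟩ a' K' r hK' hr hsmall (hmeet : fixerAt A a' K' ⊓ fixerAt A a K ≠ ⊥)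
    obtain ⟨f, hf, hf1⟩ := (bot_or_exists_ne_one _).resolve_left hmeet
    obtain ⟨M, hM, hMf, hMp⟩ := C.exists_same_block hl hs hK hbig hf.2 hf1
    obtain ⟨M', hM', hMf', -⟩ := C.exists_same_block hl hs hK' hsmall hf.1 hf1
    have hMM : M ≠ M' := fun e => by
      subst e
      have h1 := C.card_eq hM'
      rw [C.card_eq hM] at h1
      exact hr.ne' (Nat.eq_of_mul_eq_mul_right Nat.card_pos h1)
    have h1 := C.part_le_fixerAt hM hM' hMM
    rwa [hMp, hMf'] at h1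

end Cfsg.Agent.Goldschmidt.General
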