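import Cfsg.Agent.Lib.Goldschmidt.General.Defs
import Cfsg.Agent.Lib.Goldschmidt.ThreePrime.Data
import Cfsg.Agent.Lib.Frobenius.Residual
import Cfsg.Agent.Lib.ExtLayer.Basic

/-!
# A perfect group acting inside the layer of a local group (owner: helper63)

* `exists_layerProj` : the projection of the layer to the central quotient of a component
* `CompData.four_le`, `CompData.dvd_card`, `CompData.exists_pow` : facts about the parameter
* `eq_of_fixer_eq` : moved components with the same fixer are equal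
* `exists_component_of_image` : a perfect group in the layer centralised by `Cc` and transitive modulo `Cc`
  lies in one component with fixer `Cc`
-/

set_option autoImplicit false
set_option linter.unusedSectionVars false
set_option linter.style.haveILetI false

namespace Cfsg.Agent.Goldschmidt.General

open Cfsg Subgroup Cfsg.Agent.Components
open scoped commutatorElement
open Cfsg.Agent.Goldschmidt.ThreePrime (compAut quotAut quotAut_mk centralizes_of_mod_center)

universe u v w

variable {X : Type u} [Group X] [Finite X] {A K L : Subgroup X} {q : ℕ}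

/-- A conjugation normalising a component permutes the others. -/
theorem others_normalized {L : Subgroup X} {a x : X} (ha : a ∈ normalizer (L : Set X))
    (hx : x ∈ sSup ({M : Subgroup X | Cfsg.IsComponent M} \ {L})) :
    a * x * a⁻¹ ∈ sSup ({M : Subgroup X | Cfsg.IsComponent M} \ {L}) := by
  set R := sSup ({M : Subgroup X | Cfsg.IsComponent M} \ {L})
  have h1 : R ≤ R.comap (MulAut.conj a).toMonoidHom := sSup_le fun M hM y hy => by
    refine (le_sSup (show M.map (MulAut.conj a).toMonoidHom ∈ {M : Subgroup X | Cfsg.IsComponent M} \ {L} from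
      ⟨IsComponent.conj hM.1 a, fun e => hM.2 ?_⟩) : _ ≤ R) ⟨y, hy, rfl⟩
    replace e : M.map (MulAut.conj a).toMonoidHom = L := e
    show M = L
    refine le_antisymm (fun z hz => ?_) (fun z hz => ?_)
    · exact (mem_normalizer_iff.1 ha z).2 (e.le ⟨z, hz, rfl⟩)
    · obtain ⟨w, hw, hwe⟩ := e.ge ((mem_normalizer_iff.1 ha z).1 hz)
      rwa [← (MulAut.conj a).injective hwe]
  exact h1 hx

/-- The projection of the layer to the central quotient of a component. -/
theorem exists_layerProj (hL : Cfsg.IsComponent L) :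
    ∃ π : ↥(Cfsg.layer X) →* ↥L ⧸ Subgroup.center ↥L,
      (∀ l : ↥L, ∀ hl : (l : X) ∈ Cfsg.layer X, π ⟨l, hl⟩ = QuotientGroup.mk' _ l) ∧
      (∀ x : ↥(Cfsg.layer X), π x = 1 → (x : X) ∈ centralizer (L : Set X)) ∧
      ∀ (a : X) (ha : a ∈ normalizer (L : Set X)) (x y : ↥(Cfsg.layer X)),
        (y : X) = a * x * a⁻¹ → π y = quotAut ha (π x) := by
  classical
  set R := sSup ({M : Subgroup X | Cfsg.IsComponent M} \ {L}) with hR
  have hLR : L ≤ centralizer (R : Set X) :=
    IsComponent.le_centralizer_sSup hL (fun M hM => hM.1) fun h => h.2 rfl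
  have hlay : Cfsg.layer X ≤ R ⊔ L := sSup_le fun M hM => by
    by_cases h : M = L
    · exact h ▸ le_sup_right
    · exact (le_sSup (show M ∈ {M : Subgroup X | Cfsg.IsComponent M} \ {L} from ⟨hM, h⟩)).trans le_sup_left
  have hdec : ∀ x : ↥(Cfsg.layer X), ∃ l : ↥L, (l : X)⁻¹ * x ∈ R := fun x => by
    obtain ⟨r, hr, l, hl, e⟩ := (Coprime.mem_sup_iff (hLR.trans (centralizer_le_normalizer _))).1 (hlay x.2)
    refine ⟨⟨l, hl⟩, ?_⟩
    rw [← e, ← mul_assoc]
    show l⁻¹ * r * l ∈ R
    rw [mul_assoc, mem_centralizer_iff.1 (hLR hl) r hr, inv_mul_cancel_left]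
    exact hr
  choose g hg using hdec
  have huniq : ∀ (x : ↥(Cfsg.layer X)) (l : ↥L), (l : X)⁻¹ * x ∈ R →
      QuotientGroup.mk' (Subgroup.center ↥L) (g x) = QuotientGroup.mk' (Subgroup.center ↥L) l := by
    intro x l hl
    rw [QuotientGroup.mk'_apply, QuotientGroup.mk'_apply, QuotientGroup.eq, mem_center_iff]
    intro k
    have h1 : ((g x : X))⁻¹ * l ∈ R := by
      rw [show ((g x : X))⁻¹ * l = ((g x : X))⁻¹ * x * ((l : X)⁻¹ * x)⁻¹ by group]
      exact mul_mem (hg x) (inv_mem hl)
    exact Subtype.ext (mem_centralizer_iff.1 (hLR k.2) _ h1).symm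
  let π : ↥(Cfsg.layer X) →* ↥L ⧸ Subgroup.center ↥L := MonoidHom.mk'
    (fun x => QuotientGroup.mk' _ (g x)) fun x y => by
      refine (huniq (x * y) (g x * g y) ?_).trans (map_mul _ _ _)
      rw [Subgroup.coe_mul, Subgroup.coe_mul, show ((g x : X) * g y)⁻¹ * (x * y) =
        (g y : X)⁻¹ * ((g x : X)⁻¹ * x) * y by group,
        mem_centralizer_iff.1 (inv_mem (hLR (g y).2)) _ (hg x) |>.symm, mul_assoc]
      exact mul_mem (hg x) (hg y)
  refine ⟨π, fun l hl => huniq _ l (by rw [inv_mul_cancel]; exact one_mem _), fun x hx => ?_,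
    fun a ha x y hy => ?_⟩
  · have hc : g x ∈ Subgroup.center ↥L := (QuotientGroup.eq_one_iff _).1 hx
    refine mem_centralizer_iff.2 fun k hk => ?_
    have h1 : k * (g x : X) = (g x : X) * k := congrArg Subtype.val (mem_center_iff.1 hc ⟨k, hk⟩)
    have h2 : ((g x : X)⁻¹ * x) * k = k * ((g x : X)⁻¹ * x) := mem_centralizer_iff.1 (hLR hk) _ (hg x)
    calc k * (x : X) = k * (g x : X) * ((g x : X)⁻¹ * x) := by group
      _ = (g x : X) * (k * ((g x : X)⁻¹ * x)) := by rw [h1, mul_assoc]
      _ = (g x : X) * (((g x : X)⁻¹ * x) * k) := by rw [h2]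
      _ = x * k := by group
  · refine (huniq y ⟨a * g x * a⁻¹, (mem_normalizer_iff.1 ha _).1 (g x).2⟩ ?_).trans ?_
    · rw [hy]
      show (a * (g x : X) * a⁻¹)⁻¹ * (a * x * a⁻¹) ∈ R
      rw [show (a * (g x : X) * a⁻¹)⁻¹ * (a * x * a⁻¹) = a * ((g x : X)⁻¹ * x) * a⁻¹ by group]
      exact others_normalized ha (hg x)
    · exact (quotAut_mk ha (g x)).symm

/-! ### The parameter -/

theorem CompData.exists_pow (D : CompData A K q) : ∃ n : ℕ, 2 ≤ n ∧ q = 2 ^ n := by
  rcases D.shape with h | h
  · exact h.pow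
  · rcases h.four_or_eight with e | e
    · exact ⟨2, le_rfl, e⟩
    · exact ⟨3, by norm_num, e⟩

theorem CompData.four_le (D : CompData A K q) : 4 ≤ q := by
  obtain ⟨n, hn, rfl⟩ := D.exists_pow
  exact (show 4 ≤ 2 ^ 2 by norm_num).trans (Nat.pow_le_pow_right two_pos hn)

theorem CompData.simple (D : CompData A K q) :
    IsSimpleGroup (↥K ⧸ Subgroup.center ↥K) ∧ Subgroup.center (↥K ⧸ Subgroup.center ↥K) = ⊥ :=
  D.shape.elim (fun h => ⟨h.simple, h.center⟩) fun h => ⟨h.simple, h.center⟩

theorem CompData.dvd_card (D : CompData A K q) : q ∣ Nat.card (↥K ⧸ Subgroup.center ↥K) := by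
  haveI : Fact (Nat.Prime 2) := ⟨Nat.prime_two⟩
  obtain ⟨Q⟩ : Nonempty (Sylow 2 (↥K ⧸ Subgroup.center ↥K)) := inferInstance
  rcases D.shape with h | h
  · exact h.card_centre Q ▸ card_subgroup_dvd_card _
  · exact (h.sylow Q).2 ▸ card_subgroup_dvd_card _

/-- Moved components with the same fixer are equal. -/
theorem eq_of_fixer_eq (hK : Moved A K) (hL : Moved A L) (DK : CompData A K q)
    (h : fixer A K = fixer A L) : K = L := by
  by_contra hne
  refine hK.2 (le_centralizer_iff.1 ?_)
  rw [← DK.sup]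
  refine sup_le (fun x hx => ?_) inf_le_right
  have h1 : x ∈ fixer A L := ⟨hx.1,
    (commutator_eq_bot_iff_le_centralizer.1 (IsComponent.commutator_eq_bot hK.1 hL.1 hne)) hx.2⟩
  exact (h.ge h1).2

/-! ### The main lemma -/

/-- Two members in different non-trivial cosets. -/
theorem exists_pair {Cc : Subgroup X} (hCA : Cc ≤ A) (hq : 3 ≤ q) (hcard : Nat.card ↥A = q * Nat.card ↥Cc) :
    ∃ x ∈ A, ∃ w ∈ A, x ∉ Cc ∧ w ∉ Cc ∧ x⁻¹ * w ∉ Cc := by
  obtain ⟨x, hx, hxC⟩ : ∃ x ∈ A, x ∉ Cc := by
    by_contra hc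
    push Not at hc
    have := Subgroup.card_le_of_le (H := A) (K := Cc) hc
    have hpos : 0 < Nat.card ↥Cc := Nat.card_pos
    nlinarith
  let f : Bool × ↥Cc → ↥A := fun z => ⟨(bif z.1 then x else 1) * z.2,
    mul_mem (by cases z.1 <;> simp [hx]) (hCA z.2.2)⟩
  have hns : ¬ Function.Surjective f := fun hs => by
    have h1 := Nat.card_le_card_of_surjective f hs
    rw [Nat.card_prod, Nat.card_eq_fintype_card (α := Bool), Fintype.card_bool] at h1
    have hpos : 0 < Nat.card ↥Cc := Nat.card_pos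
    nlinarith
  simp only [Function.Surjective, not_forall, not_exists] at hns
  obtain ⟨⟨w, hw⟩, hns⟩ := hns
  refine ⟨x, hx, w, hw, hxC, fun h => hns (false, ⟨w, h⟩) (Subtype.ext (by simp [f])),
    fun h => hns (true, ⟨x⁻¹ * w, h⟩) (Subtype.ext (by simp [f]))⟩

/-- A perfect group in the layer, centralised by `Cc` and transitive on `A` modulo `Cc`, lies in one moved
component with fixer `Cc`. -/
theorem exists_component_of_image (hloc : LocalFacts A) (hAc : IsMulCommutative ↥A) (hA2 : ∀ a ∈ A, a * a = 1)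
    {Cc : Subgroup X}
    (hCA : Cc ≤ A) (hq : 4 ≤ q) (hqp : ∃ n : ℕ, q = 2 ^ n) (hcard : Nat.card ↥A = q * Nat.card ↥Cc)
    (hbig : ∀ (M : Subgroup X) (s : ℕ), Moved A M → CompData A M s →
      SmallFacts (↥M ⧸ Subgroup.center ↥M) s → s ≤ q)
    {E : Type v} [Group E] (hE : commutator E = ⊤)
    {Kb : Type w} [Group Kb] [Finite Kb] (hKb : Subgroup.center Kb = ⊥) (hqKb : q ∣ Nat.card Kb)
    (ψ : E →* Kb) (hψ : Function.Surjective ψ) (hN : ∀ N : Subgroup E, N.Normal → N ≠ ⊤ → N ≤ ψ.ker)
    (φ : E →* X) (hlay : φ.range ≤ Cfsg.layer X) (hcen : φ.range ≤ centralizer (Cc : Set X))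
    (hmove : ∃ a ∈ A, ∃ e e' : E, φ e' = a * φ e * a⁻¹ ∧ ψ e' ≠ ψ e)
    {y : E} (hyN : φ y ∈ normalizer (A : Set X)) (hy : TransMod A Cc (φ y)) :
    ∃ M : Subgroup X, Moved A M ∧ CompData A M q ∧ fixer A M = Cc ∧ φ.range ≤ M := by
  classical
  haveI : Fact (Nat.Prime 2) := ⟨Nat.prime_two⟩
  obtain ⟨a₀, ha₀, e₀, e₁, hee, hne⟩ := hmove
  have hψ1 : ψ.ker ≠ ⊤ := fun e => hne (by
    rw [MonoidHom.mem_ker.1 (e ▸ mem_top e₁ : e₁ ∈ ψ.ker), MonoidHom.mem_ker.1 (e ▸ mem_top e₀ : e₀ ∈ ψ.ker)])
  -- the components not centralised by the image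
  have hkey : ∀ L : Subgroup X, Cfsg.IsComponent L → ¬ φ.range ≤ centralizer (L : Set X) →
      Moved A L ∧ fixer A L = Cc ∧ CompData A L q := by
    intro L hL hnc
    obtain ⟨π, -, hπc, hπa⟩ := exists_layerProj hL
    set φ' : E →* ↥(Cfsg.layer X) := φ.codRestrict (Cfsg.layer X) fun e => hlay ⟨e, rfl⟩
    set θ := π.comp φ'
    have hθ : θ.ker ≠ ⊤ := fun e => hnc (by
      rintro _ ⟨x, rfl⟩
      exact hπc (φ' x) (MonoidHom.mem_ker.1 (e ▸ mem_top x : x ∈ θ.ker)))
    have hkk : θ.ker ≤ ψ.ker := hN _ inferInstance hθ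
    have hmoved : Moved A L := by
      refine ⟨hL, fun hLA => hne ?_⟩
      have ha : a₀ ∈ centralizer (L : Set X) := le_centralizer_iff.1 hLA ha₀
      have hone : quotAut (centralizer_le_normalizer _ ha) = (1 : MulAut (↥L ⧸ Subgroup.center ↥L)) := by
        refine MulEquiv.ext fun z => ?_
        obtain ⟨l, rfl⟩ := QuotientGroup.mk'_surjective _ z
        rw [quotAut_mk, MulAut.one_apply]
        refine congrArg _ (Subtype.ext ?_)
        show a₀ * (l : X) * a₀⁻¹ = l
        rw [← mem_centralizer_iff.1 ha l l.2, mul_inv_cancel_right]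
      have h1 : θ e₁ = θ e₀ := by
        show π (φ' e₁) = π (φ' e₀)
        rw [hπa a₀ (centralizer_le_normalizer _ ha) (φ' e₀) (φ' e₁) hee, hone, MulAut.one_apply]
      exact MonoidHom.eq_iff ψ |>.2 (hkk ((MonoidHom.eq_iff θ).1 h1))
    obtain ⟨r, D⟩ := hloc.data L hmoved
    -- `Cc` fixes `L`
    have hCfix : Cc ≤ fixer A L := by
      by_contra hCf
      have hfix : ∀ c ∈ Cc, ∀ (hc : c ∈ normalizer (L : Set X)) (e : E), quotAut hc (θ e) = θ e := by
        intro c hc hcn e
        refine (hπa c hcn (φ' e) (φ' e) ?_).symm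
        show φ e = c * φ e * c⁻¹
        rw [mem_centralizer_iff.1 (hcen ⟨e, rfl⟩) c hc, mul_inv_cancel_right]
      by_cases hcond : RankFacts (↥L ⧸ Subgroup.center ↥L) r ∨
          r * Nat.card ↥(Cc ⊓ fixer A L : Subgroup X) ≤ 2 * Nat.card ↥Cc
      · haveI := D.solv Cc hCA hCf hcond
        let Dfix : Subgroup ↥L :=
          { carrier := {l | ∀ c ∈ Cc, ∀ hc : c ∈ normalizer (L : Set X),
              quotAut hc (QuotientGroup.mk' _ l) = QuotientGroup.mk' _ l}
            one_mem' := fun c _ hc => by rw [map_one, map_one]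
            mul_mem' := fun {x y} hx hy c hc hcn => by rw [map_mul, map_mul, hx c hc hcn, hy c hc hcn]
            inv_mem' := fun {x} hx c hc hcn => by rw [map_inv, map_inv, hx c hc hcn] }
        haveI : Group.IsSolvable ↥Dfix := by
          have hcomm : ∀ x ∈ commutator ↥Dfix, ∀ c ∈ Cc, c * ((x : ↥L) : X) = ((x : ↥L) : X) * c := by
            intro x hx c hc
            have hcn := D.norm (hCA hc)
            let T : Subgroup ↥Dfix :=
              { carrier := {x | c * ((x : ↥L) : X) = ((x : ↥L) : X) * c}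
                one_mem' := by simp
                mul_mem' := fun {x y} hx hy => (Commute.mul_right (show Commute c ((x : ↥L) : X) from hx) hy).eq
                inv_mem' := fun {x} hx => (Commute.inv_right (show Commute c ((x : ↥L) : X) from hx)).eq }
            suffices h : commutator ↥Dfix ≤ T from h hx
            rw [_root_.commutator_def, commutator_le]
            intro x₁ _ x₂ _
            -- conjugation by `c` multiplies both elements by central ones
            have hz : ∀ l : ↥Dfix, ∃ z : ↥L, z ∈ Subgroup.center ↥L ∧ compAut hcn (l : ↥L) = (l : ↥L) * z := by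
              intro l
              have h1 := l.2 c hc hcn
              rw [quotAut_mk, QuotientGroup.mk'_apply, QuotientGroup.mk'_apply, eq_comm, QuotientGroup.eq] at h1
              exact ⟨(l : ↥L)⁻¹ * compAut hcn (l : ↥L), h1, by group⟩
            obtain ⟨z₁, hz₁, e₁⟩ := hz x₁
            obtain ⟨z₂, hz₂, e₂⟩ := hz x₂
            have e : compAut hcn ⁅(x₁ : ↥L), (x₂ : ↥L)⁆ = ⁅(x₁ : ↥L), (x₂ : ↥L)⁆ := by
              rw [map_commutatorElement, e₁, e₂, commutatorElement_def, commutatorElement_def]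
              have k₁ := mem_center_iff.1 hz₁
              have k₂ := mem_center_iff.1 hz₂
              calc (x₁ : ↥L) * z₁ * ((x₂ : ↥L) * z₂) * ((x₁ : ↥L) * z₁)⁻¹ * ((x₂ : ↥L) * z₂)⁻¹
                  = (x₁ : ↥L) * (z₁ * ((x₂ : ↥L) * z₂)) * z₁⁻¹ * (x₁ : ↥L)⁻¹ * (z₂⁻¹ * (x₂ : ↥L)⁻¹) := by group
                _ = (x₁ : ↥L) * (((x₂ : ↥L) * z₂) * z₁) * z₁⁻¹ * (x₁ : ↥L)⁻¹ * (z₂⁻¹ * (x₂ : ↥L)⁻¹) := by
                    rw [k₁ ((x₂ : ↥L) * z₂)]
                _ = (x₁ : ↥L) * (x₂ : ↥L) * (z₂ * (x₁ : ↥L)⁻¹) * z₂⁻¹ * (x₂ : ↥L)⁻¹ := by group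
                _ = (x₁ : ↥L) * (x₂ : ↥L) * ((x₁ : ↥L)⁻¹ * z₂) * z₂⁻¹ * (x₂ : ↥L)⁻¹ := by rw [k₂ (x₁ : ↥L)⁻¹]
                _ = _ := by group
            exact mul_inv_eq_iff_eq_mul.1 (congrArg Subtype.val e)
          haveI : Group.IsSolvable ↥(commutator ↥Dfix) :=
            Group.isSolvable_of_isSolvable_injective
              (f := ((L.subtype.comp Dfix.subtype).comp (commutator ↥Dfix).subtype).codRestrict
                (L ⊓ centralizer (Cc : Set X)) fun x =>
                  ⟨((x : ↥Dfix) : ↥L).2, mem_centralizer_iff.2 fun c hc => hcomm x x.2 c hc⟩)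
              fun x x' h => Subtype.ext (Subtype.ext (Subtype.ext
                (congrArg (fun z : ↥(L ⊓ centralizer (Cc : Set X)) => (z : X)) h :)))
          exact (Group.isSolvable_iff_subgroup_quotient (commutator ↥Dfix)).2
            ⟨inferInstance, Group.isSolvable_of_comm (G := Abelianization ↥Dfix) mul_comm⟩
        have hr : θ.range ≤ Dfix.map (QuotientGroup.mk' _) := by
          rintro _ ⟨e, rfl⟩
          obtain ⟨l, hl⟩ := QuotientGroup.mk'_surjective _ (θ e)
          exact ⟨l, fun c hc hcn => by rw [hl]; exact hfix c hc hcn e, hl⟩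
        haveI : Group.IsSolvable ↥(Dfix.map (QuotientGroup.mk' (Subgroup.center ↥L))) :=
          Group.isSolvable_of_surjective ((QuotientGroup.mk' (Subgroup.center ↥L)).subgroupMap_surjective Dfix)
        haveI : Group.IsSolvable ↥θ.range := Coprime.isSolvable_of_le hr inferInstance
        refine hθ ((eq_top_iff' _).2 fun e => MonoidHom.mem_ker.2 ?_)
        exact congrArg Subtype.val (Frobenius.eq_one_of_perfect hE θ.rangeRestrict e)
      · -- a small component with parameter eight
        push Not at hcond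
        have hS := D.shape.resolve_left hcond.1
        obtain ⟨c, hc, hcL⟩ := SetLike.not_le_iff_exists.1 hCf
        have hr8 : r = 8 := by
          refine hS.four_or_eight.resolve_left fun e4 => ?_
          have hlt : Cc ⊓ fixer A L < Cc := lt_of_le_of_ne inf_le_left fun e => hCf (inf_eq_left.1 e)
          have hd := Subgroup.card_dvd_of_le hlt.le
          obtain ⟨k, hk⟩ := hd
          rcases k with _ | _ | k
          · rw [mul_zero] at hk; exact (Nat.card_pos (α := ↥Cc)).ne' hk
          · rw [zero_add, mul_one] at hk; exact hlt.ne (eq_of_le_of_card_ge hlt.le hk.le)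
          · rw [e4, hk] at hcond
            have := hcond.2
            nlinarith [Nat.zero_le k]
        have hq8 : 8 ≤ q := hr8 ▸ hbig L r hmoved D hS
        obtain ⟨n, hn⟩ := hqp
        have h8q : 8 ∣ q := by
          rw [hn] at hq8 ⊢
          refine (show 8 = 2 ^ 3 by norm_num) ▸ Nat.pow_dvd_pow 2 ?_
          by_contra h3
          have := Nat.pow_le_pow_right two_pos (show n ≤ 2 by omega)
          omega
        -- the inner automorphism
        have hAK : A ⊓ L ≤ normalizer (fixer A L : Set X) := fun x hx =>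
          centralizer_le_normalizer _ (mem_centralizer_iff.2 fun b hb =>
            Signalizer.commute_of_isMulCommutative hAc hb.1 hx.1)
        obtain ⟨p, hp, d, hd, hpd⟩ : ∃ p ∈ A ⊓ L, ∃ d ∈ fixer A L, p * d = c := by
          have hmem : c ∈ fixer A L ⊔ (A ⊓ L) := by
            rw [sup_comm, D.sup]; exact hCA hc
          obtain ⟨d, hd, p, hp, e⟩ := (Coprime.mem_sup_iff hAK).1 hmem
          exact ⟨p, hp, d, hd, by rw [Signalizer.commute_of_isMulCommutative hAc hp.1 hd.1]; exact e⟩
        set pb : ↥L ⧸ Subgroup.center ↥L := QuotientGroup.mk' _ ⟨p, hp.2⟩ with hpb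
        have hcn := D.norm (hCA hc)
        have hqa : ∀ z, quotAut hcn z = pb * z * pb⁻¹ := by
          intro z
          obtain ⟨l, rfl⟩ := QuotientGroup.mk'_surjective _ z
          rw [quotAut_mk, hpb, ← map_mul, ← map_inv, ← map_mul]
          refine congrArg _ (Subtype.ext ?_)
          show c * (l : X) * c⁻¹ = p * l * p⁻¹
          rw [← hpd, show p * d * (l : X) * (p * d)⁻¹ = p * (d * l * d⁻¹) * p⁻¹ by group,
            ← mem_centralizer_iff.1 hd.2 l l.2, mul_inv_cancel_right]
        have hpb1 : pb ≠ 1 := by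
          intro h1
          refine hcL ⟨hCA hc, centralizes_of_mod_center hmoved.1 hcn fun l => ?_⟩
          have h2 := hqa (QuotientGroup.mk' _ l)
          rw [h1, one_mul, inv_one, mul_one, quotAut_mk, QuotientGroup.mk'_apply, QuotientGroup.mk'_apply,
            eq_comm, QuotientGroup.eq] at h2
          have h3 := (inferInstance : (Subgroup.center ↥L).Normal).conj_mem _ h2 l
          simpa [mul_assoc] using h3
        have hcomm : ∀ e, pb * θ e = θ e * pb := fun e => by
          have h1 := hfix c hc hcn e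
          rw [hqa] at h1
          exact mul_inv_eq_iff_eq_mul.1 h1
        have hord : orderOf pb = 2 := by
          refine orderOf_eq_prime ?_ hpb1
          rw [hpb, ← map_pow, show (⟨p, hp.2⟩ : ↥L) ^ 2 = 1 from Subtype.ext (by
            rw [SubmonoidClass.coe_pow, OneMemClass.coe_one, sq]; exact hA2 p hp.1), map_one]
        set I := θ.range
        have hdvdI : 2 * Nat.card Kb ∣ Nat.card (↥L ⧸ Subgroup.center ↥L) := by
          have hidx : Nat.card Kb = ψ.ker.index := by
            rw [Subgroup.index_ker, MonoidHom.range_eq_top.2 hψ, Subgroup.card_top]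
          have hI : Nat.card ↥I = Nat.card ↥(ψ.ker.map θ) * Nat.card Kb := by
            rw [hidx, ← Subgroup.relIndex_ker, Subgroup.relIndex_mul_index hkk, Subgroup.index_ker]
          by_cases hpI : pb ∈ I
          · obtain ⟨e, he⟩ := hpI
            have hek : e ∈ ψ.ker := by
              rw [MonoidHom.mem_ker, ← Subgroup.mem_bot, ← hKb, mem_center_iff]
              intro k
              obtain ⟨e', rfl⟩ := hψ k
              rw [← map_mul, ← map_mul]
              exact (MonoidHom.eq_iff ψ).2 (hkk ((MonoidHom.eq_iff θ).1 (by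
                rw [map_mul, map_mul, he, hcomm])))
            have h2 : 2 ∣ Nat.card ↥(ψ.ker.map θ) := hord ▸ Subgroup.orderOf_dvd_natCard _ ⟨e, hek, he⟩
            exact (mul_dvd_mul_right h2 _).trans ((dvd_of_eq hI.symm).trans (card_subgroup_dvd_card I))
          · let μ := I.subtype.noncommCoprod (zpowers pb).subtype fun x z => by
              obtain ⟨e, he⟩ := x.2
              obtain ⟨i, hi⟩ := z.2
              show Commute (x : ↥L ⧸ Subgroup.center ↥L) z
              rw [← he, ← hi]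
              exact (show Commute (θ e) pb from (hcomm e).symm).zpow_right i
            have hμ : Function.Injective μ := by
              rw [injective_iff_map_eq_one]
              rintro ⟨x, z⟩ hxz
              have h1 : (x : ↥L ⧸ Subgroup.center ↥L) * z = 1 := hxz
              have hzI : (z : ↥L ⧸ Subgroup.center ↥L) ∈ I := by
                rw [eq_inv_of_mul_eq_one_right h1]; exact inv_mem x.2
              have hz1 : z = 1 := by
                by_contra hz
                refine hpI ?_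
                have hc2 : Nat.card ↥(zpowers pb) = 2 := by rw [Nat.card_zpowers, hord]
                obtain ⟨w, -, hw⟩ := (Nat.card_eq_two_iff' (1 : ↥(zpowers pb))).1 hc2
                have e2 : z = ⟨pb, mem_zpowers pb⟩ :=
                  (hw z hz).trans (hw _ fun e => hpb1 (congrArg Subtype.val e)).symm
                rwa [e2] at hzI
              subst hz1
              rw [OneMemClass.coe_one, mul_one] at h1
              exact Prod.ext (Subtype.ext h1) rfl
            have h2 := Subgroup.card_dvd_of_injective μ hμ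
            rw [Nat.card_prod, Nat.card_zpowers, hord, hI, mul_comm, ← mul_assoc, mul_comm 2,
              mul_assoc] at h2
            exact (dvd_mul_left _ _).trans h2
        obtain ⟨Q⟩ : Nonempty (Sylow 2 (↥L ⧸ Subgroup.center ↥L)) := inferInstance
        have h16 : 2 ^ 4 ∣ Nat.card ↥(Q : Subgroup (↥L ⧸ Subgroup.center ↥L)) :=
          Q.pow_dvd_card_of_pow_dvd_card ((show 2 ^ 4 = 2 * 8 by norm_num) ▸
            (mul_dvd_mul_left 2 (h8q.trans hqKb)).trans hdvdI)
        rw [(hS.sylow Q).2, hr8] at h16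
        norm_num at h16
    -- so the fixer is `Cc`
    have hyL : φ y ∈ normalizer (L : Set X) :=
      (IsComponent.layer_le_normalizer hL) (hlay ⟨y, rfl⟩)
    have hCcA : ∀ x ∈ fixer A L, φ y * x * (φ y)⁻¹ ∈ fixer A L := fun x hx =>
      ⟨(mem_normalizer_iff.1 hyN x).1 hx.1, mem_centralizer_iff.2 fun l hl => by
        have hl' : (φ y)⁻¹ * l * φ y ∈ L := (mem_normalizer_iff.1 hyL _).2 (by simpa [mul_assoc] using hl)
        have h2 := mem_centralizer_iff.1 hx.2 _ hl'
        calc l * (φ y * x * (φ y)⁻¹) = φ y * (((φ y)⁻¹ * l * φ y) * x) * (φ y)⁻¹ := by group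
          _ = φ y * (x * ((φ y)⁻¹ * l * φ y)) * (φ y)⁻¹ := by rw [h2]
          _ = φ y * x * (φ y)⁻¹ * l := by group⟩
    have hfixer : fixer A L = Cc := by
      refine le_antisymm (fun x hx => ?_) hCfix
      by_contra hxC
      refine hmoved.2 (le_centralizer_iff.1 fun b hb => ?_)
      suffices h : b ∈ fixer A L from h.2
      by_cases hbC : b ∈ Cc
      · exact hCfix hbC
      obtain ⟨k, hk⟩ := hy x hx.1 b hb hxC hbC
      have hmem : ∀ i : ℕ, φ y ^ i * x * (φ y ^ i)⁻¹ ∈ fixer A L := fun i => by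
        induction i with
        | zero => simpa using hx
        | succ i ih =>
          have := hCcA _ ih
          rwa [show φ y * (φ y ^ i * x * (φ y ^ i)⁻¹) * (φ y)⁻¹ = φ y ^ (i + 1) * x * (φ y ^ (i + 1))⁻¹ by
            rw [pow_succ']; group] at this
      have h1 := mul_mem (hmem k) (hCfix hk)
      rwa [mul_inv_cancel_left] at h1
    refine ⟨hmoved, hfixer, ?_⟩
    have e : r = q := by
      have := D.card
      rw [hfixer, hcard] at this
      exact (Nat.eq_of_mul_eq_mul_right Nat.card_pos this).symm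
    exact e ▸ D
  -- exactly one component is not centralised
  have hperf : ⁅φ.range, φ.range⁆ = φ.range := by
    rw [MonoidHom.range_eq_map, ← map_commutator, ← _root_.commutator_def, hE]
  by_cases hall : ∀ L : Subgroup X, Cfsg.IsComponent L → φ.range ≤ centralizer (L : Set X)
  · exfalso
    have hbot : φ.range = ⊥ := by
      rw [← hperf, commutator_eq_bot_iff_le_centralizer]
      refine le_trans ?_ (centralizer_le (SetLike.coe_subset_coe.2 hlay))
      exact le_centralizer_iff.1 (layer_le fun L hL => le_centralizer_iff.1 (hall L hL))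
    have hy1 : φ y = 1 := (mem_bot.1 (hbot ▸ ⟨y, rfl⟩ : φ y ∈ (⊥ : Subgroup X)))
    -- `y` cannot be trivial on the cosets
    obtain ⟨x, hx, w, hw, hxC, hwC, hxw⟩ := exists_pair hCA (le_trans (by norm_num) hq) hcard
    obtain ⟨k, hk⟩ := hy x hx w hw hxC hwC
    rw [hy1, one_pow, one_mul, inv_one, mul_one] at hk
    exact hxw hk
  push Not at hall
  obtain ⟨M, hM, hMnc⟩ := hall
  obtain ⟨hMm, hMf, hMD⟩ := hkey M hM hMnc
  refine ⟨M, hMm, hMD, hMf, ?_⟩
  have hothers : ∀ L : Subgroup X, Cfsg.IsComponent L → L ≠ M → φ.range ≤ centralizer (L : Set X) := by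
    intro L hL hLM
    by_contra hnc
    obtain ⟨hLm, hLf, -⟩ := hkey L hL hnc
    exact hLM (eq_of_fixer_eq hMm hLm hMD (hMf.trans hLf.symm)).symm
  set R := sSup ({L : Subgroup X | Cfsg.IsComponent L} \ {M})
  have hMR : M ≤ centralizer (R : Set X) :=
    IsComponent.le_centralizer_sSup hM (fun L hL => hL.1) fun h => h.2 rfl
  have hR : φ.range ≤ centralizer (R : Set X) :=
    le_centralizer_iff.1 (sSup_le fun L hL => le_centralizer_iff.1 (hothers L hL.1 hL.2))
  have hle : φ.range ≤ (R ⊓ centralizer (R : Set X)) ⊔ M := by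
    intro x hx
    have hlayM : Cfsg.layer X ≤ R ⊔ M := sSup_le fun L hL => by
      by_cases h : L = M
      · exact h ▸ le_sup_right
      · exact (le_sSup (show L ∈ {L : Subgroup X | Cfsg.IsComponent L} \ {M} from ⟨hL, h⟩)).trans le_sup_left
    obtain ⟨r, hr, m, hm, rfl⟩ := (Coprime.mem_sup_iff (hMR.trans (centralizer_le_normalizer _))).1 (hlayM (hlay hx))
    refine mul_mem (mem_sup_left ⟨hr, ?_⟩) (mem_sup_right hm)
    simpa using mul_mem (hR hx) (inv_mem (hMR hm))
  rw [← hperf]
  refine (commutator_mono hle hle).trans (commutator_le.2 fun x hx x' hx' => ?_)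
  have hn : M ≤ normalizer ((R ⊓ centralizer (R : Set X) : Subgroup X) : Set X) :=
    (le_centralizer_iff.1 ((inf_le_left : R ⊓ centralizer (R : Set X) ≤ R).trans
      (le_centralizer_iff.1 hMR))).trans (centralizer_le_normalizer _)
  obtain ⟨z, hz, m, hm, rfl⟩ := (Coprime.mem_sup_iff hn).1 hx
  obtain ⟨z', hz', m', hm', rfl⟩ := (Coprime.mem_sup_iff hn).1 hx'
  have c₁ : z' * m = m * z' := mem_centralizer_iff.1 (hMR hm) z' hz'.1
  have c₂ : z * m' = m' * z := mem_centralizer_iff.1 (hMR hm') z hz.1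
  have c₃ : z' * z = z * z' := mem_centralizer_iff.1 hz.2 z' hz'.1
  rw [show ⁅z * m, z' * m'⁆ = ⁅m, m'⁆ by
    rw [commutatorElement_def, commutatorElement_def]
    calc z * m * (z' * m') * (z * m)⁻¹ * (z' * m')⁻¹
        = z * (m * z') * m' * (m⁻¹ * z⁻¹) * m'⁻¹ * z'⁻¹ := by group
      _ = (z * z') * (m * m') * m⁻¹ * (z⁻¹ * m'⁻¹) * z'⁻¹ := by rw [← c₁]; group
      _ = (z * z') * (m * m') * m⁻¹ * (m'⁻¹ * z⁻¹) * z'⁻¹ := by rw [← mul_inv_rev, ← c₂, mul_inv_rev]
      _ = (z * z') * (m * m' * m⁻¹ * m'⁻¹) * (z' * z)⁻¹ := by group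
      _ = (z * z') * (m * m' * m⁻¹ * m'⁻¹) * (z * z')⁻¹ := by rw [c₃]
      _ = (m * m' * m⁻¹ * m'⁻¹) * (z * z') * (z * z')⁻¹ := by
        have h1 : (m * m' * m⁻¹ * m'⁻¹) ∈ M := mul_mem (mul_mem (mul_mem hm hm') (inv_mem hm)) (inv_mem hm')
        rw [mem_centralizer_iff.1 (hMR h1) (z * z') (mul_mem hz.1 hz'.1)]
      _ = _ := by group]
  exact mul_mem (mul_mem (mul_mem hm hm') (inv_mem hm)) (inv_mem hm')

end Cfsg.Agent.Goldschmidt.General
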