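import Cfsg.Agent.Lib.Goldschmidt.General.Setup
import Cfsg.Agent.Lib.Goldschmidt.General.LiftCore
import Cfsg.Agent.Lib.ClosedPair.Null

/-!
# Lifting a moved component to the centralisers of its fixer (owner: helper63)

* `BigAt A q` : no small component has a parameter above `q`
* `IsLift A a K q N` : `N` centralises the fixer, maps onto `K`, and into one component at each member of the fixer
* `Ctx.exists_isLift` : a lift exists
* `Ctx.mem_fixerAt`, `Ctx.card_fixerAt`, `Ctx.self_mem_fixerAt` : the fixer in the group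
* `Ctx.transMod_bar`, `Ctx.transMod_pull` : transitivity modulo a subgroup, up and down
* `IsLift.exists_torus` : an element transitive on `A` modulo the fixer
-/

set_option autoImplicit false
set_option linter.unusedSectionVars false
set_option linter.style.haveILetI false

namespace Cfsg.Agent.Goldschmidt.General

open Cfsg Subgroup Cfsg.Agent.Components
open scoped commutatorElement Pointwise

universe u

/-- No small component has a parameter above `q`. -/
def BigAt {G : Type u} [Group G] (A : Subgroup G) (q : ℕ) : Prop :=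
  ∀ (b : G) (M : Subgroup (Bar b)) (s : ℕ), MovedAt A b M s →
    SmallFacts (↥M ⧸ Subgroup.center ↥M) s → s ≤ q

/-- A lift of a moved component. -/
structure IsLift {G : Type u} [Group G] (A : Subgroup G) (a : G) (K : Subgroup (Bar a)) (q : ℕ)
    (N : Subgroup G) : Prop where
  cent : N ≤ centralizer (fixerAt A a K : Set G)
  norm : A ≤ normalizer (N : Set G)
  image : ∀ x : ↥(centralizer ({a} : Set G)), (x : G) ∈ N → proj a x ∈ K
  surj : ∀ k ∈ K, ∃ x : ↥(centralizer ({a} : Set G)), (x : G) ∈ N ∧ proj a x = k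
  surjN : ∀ k ∈ K, k ∈ normalizer (bar A a : Set (Bar a)) →
    ∃ x : ↥(centralizer ({a} : Set G)), (x : G) ∈ N ∧ (x : G) ∈ normalizer (A : Set G) ∧ proj a x = k
  comps : BigAt A q → ∀ f ∈ fixerAt A a K, f ≠ 1 →
    ∃ M : Subgroup (Bar f), MovedAt A f M q ∧ fixerAt A f M = fixerAt A a K ∧
      ∀ x : ↥(centralizer ({f} : Set G)), (x : G) ∈ N → proj f x ∈ M

section Local

variable {X : Type u} [Group X] [Finite X] {A K : Subgroup X} {q : ℕ}

/-- An element of the component transitive on `A` modulo the fixer, unique up to powers. -/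
theorem CompData.exists_transMod (D : CompData A K q) (hA : IsMulCommutative ↥A) :
    ∃ t ∈ K, t ∈ normalizer (A : Set X) ∧ TransMod A (fixer A K) t ∧
      ∀ w ∈ K, w ∈ normalizer (A : Set X) → TransMod A (fixer A K) w →
        ∃ k : ℕ, ∀ a ∈ A, w * a * w⁻¹ * (t ^ k * a * (t ^ k)⁻¹)⁻¹ ∈ K ⊓ centralizer (K : Set X) := by
  obtain ⟨t, htK, htN, -, ⟨P, hPA, -, hPsup, htP, htrans⟩, huniq⟩ := D.torus
  refine ⟨t, htK, htN, fun x hx z hz hxF hzF => ?_, huniq⟩
  have hc : fixer A K ≤ normalizer (P : Set X) := fun c hc =>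
    centralizer_le_normalizer _ (mem_centralizer_iff.2 fun p hp =>
      Signalizer.commute_of_isMulCommutative hA (hPA hp).1 hc.1)
  obtain ⟨p, hp, c, hcF, rfl⟩ := (Coprime.mem_sup_iff hc).1 (hPsup.ge hx)
  obtain ⟨p', hp', c', hcF', rfl⟩ := (Coprime.mem_sup_iff hc).1 (hPsup.ge hz)
  have hp1 : p ≠ 1 := fun e => hxF (by rw [e, one_mul]; exact hcF)
  have hp1' : p' ≠ 1 := fun e => hzF (by rw [e, one_mul]; exact hcF')
  obtain ⟨k, hk⟩ := htrans p hp p' hp' hp1 hp1'
  refine ⟨k, ?_⟩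
  have htc : t ^ k * c = c * t ^ k := mem_centralizer_iff.1 hcF.2 _ (pow_mem htK k)
  have e : t ^ k * (p * c) * (t ^ k)⁻¹ = p' * c := by
    calc t ^ k * (p * c) * (t ^ k)⁻¹ = t ^ k * p * (t ^ k)⁻¹ * (t ^ k * c * (t ^ k)⁻¹) := by group
      _ = _ := by rw [hk, htc, mul_inv_cancel_right]
  rw [e, mul_inv_rev, show c⁻¹ * p'⁻¹ * (p' * c') = c⁻¹ * c' by group]
  exact mul_mem (inv_mem hcF) hcF'

end Local

section General

variable {G : Type u} [Group G]

/-- The `p`-layer is carried over by isomorphisms. -/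
theorem map_pLayer_equiv_le {H : Type*} [Group H] (p : ℕ) (e : G ≃* H) :
    (Cfsg.pLayer p G).map e.toMonoidHom ≤ Cfsg.pLayer p H := by
  let q : G ⧸ pPrimeCore p G ≃* H ⧸ pPrimeCore p H :=
    QuotientGroup.congr _ _ e (ExtLayer.map_pPrimeCore p e)
  have hq : ∀ L : Subgroup G, (L.map e.toMonoidHom).map (QuotientGroup.mk' (pPrimeCore p H))
      = (L.map (QuotientGroup.mk' (pPrimeCore p G))).map q.toMonoidHom := by
    intro L
    rw [Subgroup.map_map, Subgroup.map_map]
    congr 1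
  refine map_le_iff_le_comap.2 (sSup_le fun K hK => map_le_iff_le_comap.1 (le_sSup ?_))
  obtain ⟨h1, h2, h3⟩ := hK
  refine ⟨Subgroup.IsSubnormal.map (f := e.toMonoidHom) e.surjective h1, ?_, fun L hL hle hmap => ?_⟩
  · rw [hq]
    exact ExtLayer.isComponent_map q h2
  · have hle' : L.comap e.toMonoidHom ≤ K := by
      intro x hx
      obtain ⟨y, hy, hxy⟩ := hle hx
      rwa [← e.injective hxy]
    have hLe : (L.comap e.toMonoidHom).map e.toMonoidHom = L :=
      Subgroup.map_comap_eq_self_of_surjective (f := e.toMonoidHom) e.surjective L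
    have := h3 _ (hL.comap e.toMonoidHom) hle' (by
      apply Subgroup.map_injective (f := q.toMonoidHom) q.injective
      rw [← hq, ← hq, hLe, hmap])
    rw [← this, hLe]

variable [Finite G]

/-- A conjugate of a subgroup inside `N A` is a conjugate by an element of `N`. -/
theorem exists_normalizing {N A : Subgroup G} (hN : A ≤ normalizer (N : Set G))
    (hcop : (Nat.card ↥A).Coprime (Nat.card ↥N)) (hA : IsMulCommutative ↥A) {x : G}
    (h : ∀ a ∈ A, x * a * x⁻¹ ∈ N ⊔ A) : ∃ n ∈ N, n⁻¹ * x ∈ normalizer (A : Set G) := by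
  obtain ⟨n, hn, hnA⟩ := Coprime.exists_conj_eq_of_le_sup hN hcop
    (Or.inl (Group.isSolvable_of_comm fun a b => hA.is_comm.comm a b))
    (L := MulAut.conj x • A) (fun y hy => by
      rw [Coprime.mem_conj] at hy
      have := h _ hy
      simpa [mul_assoc] using this) (Coprime.card_conj x A)
  refine ⟨n, hn, Signalizer.mem_normalizer_of_conj_mem fun a ha => ?_⟩
  have h1 : x * a * x⁻¹ ∈ MulAut.conj n • A := by
    rw [hnA, Coprime.mem_conj]
    simpa [mul_assoc] using ha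
  rw [Coprime.mem_conj] at h1
  simpa [mul_assoc] using h1

/-- A perfect subgroup mapping onto the perfect image, normalised by the normaliser. -/
theorem exists_perfect_cover {H : Type*} [Group H] (φ : G →* H) {P : Subgroup G}
    (h : ⁅P.map φ, P.map φ⁆ = P.map φ) :
    ∃ D : Subgroup G, D ≤ P ∧ ⁅D, D⁆ = D ∧ D.map φ = P.map φ ∧
      ∀ x ∈ normalizer (P : Set G), x ∈ normalizer (D : Set G) := by
  let D : ℕ → Subgroup G := fun n => Nat.rec P (fun _ X => ⁅X, X⁆) n
  have hanti : ∀ n, D (n + 1) ≤ D n := fun n => commutator_le_self _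
  have hmap : ∀ n, (D n).map φ = P.map φ := by
    intro n
    induction n with
    | zero => rfl
    | succ n ih =>
      show (⁅D n, D n⁆).map φ = _
      rw [map_commutator, ih, h]
  have hle : ∀ n, D n ≤ P := by
    intro n
    induction n with
    | zero => exact le_rfl
    | succ n ih => exact (hanti n).trans ih
  have hnorm : ∀ n, ∀ x ∈ normalizer (P : Set G), x ∈ normalizer (SetLike.coe (D n)) := by
    intro n
    induction n with
    | zero => exact fun x hx => hx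
    | succ n ih =>
      intro x hx
      have hxD : (D n).map (MulAut.conj x).toMonoidHom = D n := by
        ext y
        refine ⟨?_, fun hy => ⟨x⁻¹ * y * x, ?_, by simp [mul_assoc]⟩⟩
        · rintro ⟨z, hz, rfl⟩
          exact (mem_normalizer_iff.1 (ih x hx) z).1 hz
        · exact (mem_normalizer_iff.1 (ih x hx) _).2 (by simpa [mul_assoc] using hy)
      refine Signalizer.mem_normalizer_of_conj_mem fun y hy => ?_
      have h1 : (D (n + 1)).map (MulAut.conj x).toMonoidHom = D (n + 1) := by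
        show (⁅D n, D n⁆).map _ = ⁅D n, D n⁆
        rw [map_commutator, hxD]
      exact h1.le ⟨y, hy, rfl⟩
  obtain ⟨n, hn⟩ : ∃ n, D (n + 1) = D n := by
    by_contra hc
    push Not at hc
    exact not_injective_infinite_finite _
      (strictAnti_nat_of_succ_lt fun n => lt_of_le_of_ne (hanti n) (hc n)).injective
  exact ⟨D n, hle n, hn, hmap n, hnorm n⟩

end General

namespace Ctx

variable {G : Type u} [Group G] [Finite G] {S : Sylow 2 G} {A : Subgroup G} (C : Ctx G S A)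
include C

theorem mem_fixerAt {a x : G} (ha : a ∈ A) (hx : x ∈ A) {K : Subgroup (Bar a)} :
    x ∈ fixerAt A a K ↔
      proj a ⟨x, C.le_centralizer_of_mem ha hx⟩ ∈ centralizer (K : Set (Bar a)) :=
  C.mem_pull ha hx

theorem self_mem_fixerAt {a : G} (ha : a ∈ A) (K : Subgroup (Bar a)) : a ∈ fixerAt A a K := by
  refine (C.mem_fixerAt ha ha).2 (mem_centralizer_iff.2 fun k _ => ?_)
  obtain ⟨k, rfl⟩ := QuotientGroup.mk'_surjective _ k
  rw [← map_mul, ← map_mul]
  exact congrArg _ (Subtype.ext (mem_centralizer_singleton_iff.1 k.2))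

theorem card_bar {a : G} (ha : a ∈ A) : Nat.card ↥(bar A a) = Nat.card ↥A := by
  have h := C.card_pull ha (⊤ : Subgroup (Bar a))
  rw [inf_top_eq] at h
  rw [← h]
  refine Nat.card_congr (MulEquiv.subgroupCongr ?_).toEquiv
  ext x
  exact ⟨fun hx => hx.1, fun hx => (C.mem_pull ha hx).2 (mem_top _)⟩

theorem card_fixerAt {a : G} (ha : a ∈ A) (K : Subgroup (Bar a)) :
    Nat.card ↥(fixerAt A a K) = Nat.card ↥(fixer (bar A a) K) :=
  C.card_pull ha _

theorem card_eq {a : G} {K : Subgroup (Bar a)} {q : ℕ} (hK : MovedAt A a K q) :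
    Nat.card ↥A = q * Nat.card ↥(fixerAt A a K) := by
  rw [C.card_fixerAt hK.mem, ← C.card_bar hK.mem]
  exact hK.data.card

/-- The image of a pulled back subgroup. -/
theorem image_pull {a : G} (ha : a ∈ A) (F : Subgroup (Bar a)) :
    ((pull A a F).subgroupOf (centralizer ({a} : Set G))).map (proj a) = bar A a ⊓ F := by
  ext z
  constructor
  · rintro ⟨x, hx, rfl⟩
    have hxA : (x : G) ∈ A := hx.1
    exact ⟨⟨x, hxA, rfl⟩, (C.mem_pull ha hxA).1 hx⟩
  · rintro ⟨⟨x, hx, rfl⟩, hz⟩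
    exact ⟨x, (C.mem_pull ha hx).2 hz, rfl⟩

theorem bar_comm (a : G) : IsMulCommutative ↥(bar A a) :=
  haveI : IsMulCommutative ↥(A.subgroupOf (centralizer ({a} : Set G))) :=
    ⟨⟨fun x y => Subtype.ext (Subtype.ext (C.comm x.2 y.2))⟩⟩
  Subgroup.map_isMulCommutative _ _

theorem bar_sq (a : G) : ∀ z ∈ bar A a, z * z = 1 := by
  rintro _ ⟨x, hx, rfl⟩
  rw [← map_mul, show x * x = 1 from Subtype.ext (C.sq hx), map_one]

/-- Transitivity modulo a subgroup passes to the bars. -/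
theorem transMod_bar {a : G} (_ha : a ∈ A) {F : Subgroup G}
    {y : ↥(centralizer ({a} : Set G))} (h : TransMod A F (y : G)) :
    TransMod (bar A a) ((F.subgroupOf (centralizer ({a} : Set G))).map (proj a)) (proj a y) := by
  rintro _ ⟨x, hx, rfl⟩ _ ⟨z, hz, rfl⟩ hxF hzF
  obtain ⟨k, hk⟩ := h x hx z hz (fun h' => hxF ⟨x, h', rfl⟩) (fun h' => hzF ⟨z, h', rfl⟩)
  refine ⟨k, ⟨(y ^ k * x * (y ^ k)⁻¹)⁻¹ * z, ?_, ?_⟩⟩
  · simpa [mem_subgroupOf] using hk
  · simp only [map_mul, map_inv, map_pow]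

/-- Transitivity modulo a fixer comes down to the group. -/
theorem transMod_pull {a : G} (ha : a ∈ A) {F : Subgroup (Bar a)} {y : ↥(centralizer ({a} : Set G))}
    (hy : (y : G) ∈ normalizer (A : Set G)) (h : TransMod (bar A a) (bar A a ⊓ F) (proj a y)) :
    TransMod A (pull A a F) (y : G) := by
  intro x hx z hz hxF hzF
  obtain ⟨k, hk⟩ := h _ ⟨⟨x, C.le_centralizer_of_mem ha hx⟩, hx, rfl⟩ _ ⟨⟨z, C.le_centralizer_of_mem ha hz⟩, hz, rfl⟩
    (fun h' => hxF ((C.mem_pull ha hx).2 h'.2)) (fun h' => hzF ((C.mem_pull ha hz).2 h'.2))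
  refine ⟨k, ?_⟩
  have hm : (y : G) ^ k * x * ((y : G) ^ k)⁻¹ ∈ A := (mem_normalizer_iff.1 (pow_mem hy k) x).1 hx
  have hm' : ((y : G) ^ k * x * ((y : G) ^ k)⁻¹)⁻¹ * z ∈ A := mul_mem (inv_mem hm) hz
  refine (C.mem_pull ha hm').2 ?_
  have e : proj a ⟨_, C.le_centralizer_of_mem ha hm'⟩ =
      (proj a y ^ k * proj a ⟨x, C.le_centralizer_of_mem ha hx⟩ * (proj a y ^ k)⁻¹)⁻¹ *
        proj a ⟨z, C.le_centralizer_of_mem ha hz⟩ := by
    rw [← map_pow, ← map_mul, ← map_inv, ← map_mul, ← map_inv, ← map_mul]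
    exact congrArg _ (Subtype.ext (by simp))
  rw [e]
  exact hk.2

/-- **The lift.** -/
theorem exists_isLift (h : LocalsHold A) {a : G} {K : Subgroup (Bar a)} {q : ℕ} (hK : MovedAt A a K q) :
    ∃ N : Subgroup G, IsLift A a K q N := by
  classical
  haveI : Fact (Nat.Prime 2) := ⟨Nat.prime_two⟩
  have ha := hK.mem
  have D := hK.data
  set Ha := centralizer ({a} : Set G)
  set F := fixerAt A a K with hF
  have hFA : F ≤ A := inf_le_left
  have haF : a ∈ F := C.self_mem_fixerAt ha K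
  set W := centralizer (F : Set G) with hW
  have hAW : A ≤ W := fun x hx => mem_centralizer_iff.2 fun b hb => C.comm (hFA hb) hx
  have hWa : W ≤ Ha := fun x hx => mem_centralizer_singleton_iff.2 (mem_centralizer_iff.1 hx a haF).symm
  set φ : ↥W →* Bar a := (proj a).comp (inclusion hWa) with hφ
  have hFpi : (Nat.card ↥(F.subgroupOf Ha)).Coprime (Nat.card ↥(pPrimeCore 2 ↥Ha)) :=
    (Coprime.coprime_of_isPGroup (Cores.coprime_card_pPrimeCore 2)
      ((C.two.to_le hFA).comap_of_injective Ha.subtype Ha.subtype_injective)).symm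
  -- the component is in the image of `W`
  have hrange : K ≤ φ.range := by
    intro k hk
    obtain ⟨x, rfl⟩ := QuotientGroup.mk'_surjective _ k
    obtain ⟨n, hn, hnx⟩ := exists_normalizing (N := pPrimeCore 2 ↥Ha) (A := F.subgroupOf Ha) (x := x)
      (by rw [normalizer_eq_top]; exact le_top) hFpi
      ⟨⟨fun u v => Subtype.ext (Subtype.ext (C.comm (hFA u.2) (hFA v.2)))⟩⟩ (fun c hc => by
        have h1 : proj a c ∈ centralizer (K : Set (Bar a)) := (C.mem_fixerAt ha (hFA hc)).1 hc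
        have h2 : x * c * x⁻¹ * c⁻¹ ∈ pPrimeCore 2 ↥Ha := by
          rw [← QuotientGroup.eq_one_iff, ← QuotientGroup.mk'_apply, map_mul, map_mul, map_mul, map_inv, map_inv,
            mem_centralizer_iff.1 h1 _ hk, mul_inv_cancel_right, mul_inv_cancel]
        simpa using mul_mem_sup h2 hc)
    have hcent : ((n⁻¹ * x : ↥Ha) : G) ∈ W := mem_centralizer_iff.2 fun c hc => by
      set c' : ↥Ha := ⟨c, C.le_centralizer_of_mem ha (hFA hc)⟩
      have hc' : c' ∈ F.subgroupOf Ha := hc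
      have h1 := mul_mem ((mem_normalizer_iff.1 hnx c').1 hc') (inv_mem hc')
      have h2 : (n⁻¹ * x) * c' * (n⁻¹ * x)⁻¹ * c'⁻¹ ∈ pPrimeCore 2 ↥Ha := by
        rw [← QuotientGroup.eq_one_iff, ← QuotientGroup.mk'_apply, map_mul, map_mul, map_mul, map_inv, map_inv,
          map_mul, map_inv, show QuotientGroup.mk' (pPrimeCore 2 ↥Ha) n = 1 from (QuotientGroup.eq_one_iff n).2 hn,
          inv_one, one_mul, mem_centralizer_iff.1 ((C.mem_fixerAt ha (hFA hc)).1 hc) _ hk, mul_inv_cancel_right,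
          mul_inv_cancel]
      have h3 := congrArg Subtype.val (Coprime.eq_one_of_mem_of_mem hFpi h1 h2)
      exact (mul_inv_eq_iff_eq_mul.1 (mul_inv_eq_one.1 h3)).symm
    refine ⟨⟨_, hcent⟩, ?_⟩
    show proj a (n⁻¹ * x) = _
    rw [map_mul, map_inv, show proj a n = 1 from (QuotientGroup.eq_one_iff n).2 hn, inv_one, one_mul]
  have hker : (Nat.card φ.ker).Coprime 2 := by
    refine (Cores.coprime_card_pPrimeCore (G := ↥Ha) 2).coprime_dvd_left ?_
    rw [hφ, ← MonoidHom.comap_ker, QuotientGroup.ker_mk']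
    exact card_comap_dvd_of_injective _ _ (inclusion_injective hWa)
  have hcomp : K ≤ (pLayer 2 ↥W).map φ :=
    ClosedPair.component_le_map_pLayer (Cores.pPrimeCore_quotient_self 2) φ hker hK.moved.1 hrange
  set P := pLayer 2 ↥W ⊓ K.comap φ with hP
  have hPmap : P.map φ = K := by
    refine le_antisymm (fun z hz => ?_) fun k hk => ?_
    · obtain ⟨w, hw, rfl⟩ := hz
      exact hw.2
    · obtain ⟨w, hw, rfl⟩ := hcomp hk
      exact ⟨w, ⟨hw, hk⟩, rfl⟩
  obtain ⟨D', hD'P, hD'perf, hD'map, hD'norm⟩ := exists_perfect_cover φ (P := P)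
    (by rw [hPmap]; exact IsComponent.perfect hK.moved.1)
  rw [hPmap] at hD'map
  set N := D'.map W.subtype with hN
  have hNW : N ≤ W := map_subtype_le _
  have hnormA : A ≤ normalizer (N : Set G) := by
    intro x hx
    have hxP : (⟨x, hAW hx⟩ : ↥W) ∈ normalizer (P : Set ↥W) := by
      refine Signalizer.mem_normalizer_of_conj_mem fun w hw => ⟨?_, ?_⟩
      · exact (ExtLayer.pLayer_normal 2).conj_mem w hw.1 _
      · show φ _ ∈ K
        rw [map_mul, map_mul, map_inv]
        exact (mem_normalizer_iff.1 (D.norm (show φ ⟨x, hAW hx⟩ ∈ bar A a from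
          ⟨⟨x, hWa (hAW hx)⟩, hx, rfl⟩)) _).1 hw.2
    refine Signalizer.mem_normalizer_of_conj_mem ?_
    rintro _ ⟨w, hw, rfl⟩
    exact ⟨_, (mem_normalizer_iff.1 (hD'norm _ hxP) w).1 hw, rfl⟩
  have himage : ∀ x : ↥Ha, (x : G) ∈ N → proj a x ∈ K := by
    rintro x ⟨w, hw, hwx⟩
    rw [show x = inclusion hWa w from Subtype.ext hwx.symm]
    exact hD'map.le ⟨w, hw, rfl⟩
  have hsurj : ∀ k ∈ K, ∃ x : ↥Ha, (x : G) ∈ N ∧ proj a x = k := by
    intro k hk
    obtain ⟨w, hw, rfl⟩ := hD'map.ge hk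
    exact ⟨inclusion hWa w, ⟨w, hw, rfl⟩, rfl⟩
  have hsurjN : ∀ k ∈ K, k ∈ normalizer (bar A a : Set (Bar a)) →
      ∃ x : ↥Ha, (x : G) ∈ N ∧ (x : G) ∈ normalizer (A : Set G) ∧ proj a x = k := by
    -- lifting into the normaliser of `A`
    intro k hk hkA
    obtain ⟨x, hxN, rfl⟩ := hsurj k hk
    set N' := N.subgroupOf Ha
    set A' := A.subgroupOf Ha
    have hA'N : A' ≤ normalizer (N' : Set ↥Ha) := fun b hb =>
      Signalizer.mem_normalizer_of_conj_mem fun z hz => (mem_normalizer_iff.1 (hnormA hb) z).1 hz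
    set R := (N' ⊔ A') ⊓ pPrimeCore 2 ↥Ha
    have hR : A' ≤ normalizer (R : Set ↥Ha) := fun b hb =>
      Signalizer.mem_normalizer_of_conj_mem fun z hz =>
        Subgroup.mem_inf.2 ⟨mul_mem (mul_mem (mem_sup_right hb) hz.1) (inv_mem (mem_sup_right hb)),
          (Cores.pPrimeCore_normal 2 ↥Ha).conj_mem z hz.2 b⟩
    have hA'2 : IsPGroup 2 ↥A' := C.two.comap_of_injective Ha.subtype Ha.subtype_injective
    have hAR : (Nat.card ↥A').Coprime (Nat.card ↥R) :=
      ((Coprime.coprime_of_isPGroup (Cores.coprime_card_pPrimeCore 2) hA'2).coprime_dvd_left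
        (Subgroup.card_dvd_of_le inf_le_right)).symm
    obtain ⟨n, hn, hnx⟩ := exists_normalizing hR hAR
      ⟨⟨fun u v => Subtype.ext (Subtype.ext (C.comm u.2 v.2))⟩⟩ (x := x) (fun b hb => by
        obtain ⟨b', hb', he⟩ := (mem_normalizer_iff.1 hkA (proj a b)).1 ⟨b, hb, rfl⟩
        have h1 : x * b * x⁻¹ ∈ N' ⊔ A' :=
          mul_mem (mul_mem (mem_sup_left hxN) (mem_sup_right hb)) (inv_mem (mem_sup_left hxN))
        have h2 : x * b * x⁻¹ * b'⁻¹ ∈ R := Subgroup.mem_inf.2 ⟨mul_mem h1 (inv_mem (mem_sup_right hb')), by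
          rw [← QuotientGroup.eq_one_iff, ← QuotientGroup.mk'_apply, map_mul, map_mul, map_mul, map_inv, map_inv]
          rw [he, mul_inv_cancel]⟩
        simpa using mul_mem_sup h2 hb')
    have hnN : n ∈ N' := by
      obtain ⟨z, hz, b, hb, hzb⟩ := (Coprime.mem_sup_iff hA'N).1 hn.1
      have hn2 : n * n ∈ N' := by
        rw [← hzb, show z * b * (z * b) = z * (b * z * b⁻¹) * (b * b) by group,
          show b * b = 1 from Subtype.ext (C.sq hb), mul_one]
        exact mul_mem hz ((mem_normalizer_iff.1 (hA'N hb) z).1 hz)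
      obtain ⟨j, hj⟩ : Odd (orderOf n) := Odd.of_dvd_nat
        (Nat.coprime_two_right.1 (Cores.coprime_card_pPrimeCore (G := ↥Ha) 2)) (orderOf_dvd_natCard _ hn.2)
      have hpow : n = ((n * n) ^ j)⁻¹ := by
        refine eq_inv_of_mul_eq_one_right ?_
        rw [← pow_two n, ← pow_mul, ← pow_succ, ← hj, pow_orderOf_eq_one]
      rw [hpow]
      exact inv_mem (pow_mem hn2 j)
    refine ⟨n⁻¹ * x, mul_mem (inv_mem (mem_subgroupOf.1 hnN)) hxN, ?_, ?_⟩
    · refine Signalizer.mem_normalizer_of_conj_mem fun b hb => ?_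
      exact (mem_normalizer_iff.1 hnx ⟨b, C.le_centralizer_of_mem ha hb⟩).1 hb
    · rw [map_mul, map_inv, show proj a n = 1 from (QuotientGroup.eq_one_iff n).2 hn.2, inv_one, one_mul]
  refine ⟨N, hNW, hnormA, himage, hsurj, hsurjN, ?_⟩
  -- the components at the members of the fixer
  intro hbig f hf hf1
  have hfA : f ∈ A := hFA hf
  set Hf := centralizer ({f} : Set G)
  have hWf : W ≤ Hf := fun x hx => mem_centralizer_singleton_iff.2 (mem_centralizer_iff.1 hx f hf).symm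
  set Tf := F.subgroupOf Hf
  let e : ↥W ≃* ↥(centralizer (Tf : Set ↥Hf)) :=
    { toFun := fun w => ⟨⟨w, hWf w.2⟩, mem_centralizer_iff.2 fun c hc =>
        Subtype.ext (mem_centralizer_iff.1 w.2 (c : G) hc)⟩
      invFun := fun v => ⟨((v : ↥Hf) : G), mem_centralizer_iff.2 fun c hc =>
        congrArg Subtype.val (mem_centralizer_iff.1 v.2 ⟨c, C.le_centralizer_of_mem hfA (hFA hc)⟩ hc)⟩
      left_inv := fun _ => rfl
      right_inv := fun _ => rfl
      map_mul' := fun _ _ => rfl }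
  have hT2 : IsPGroup 2 ↥Tf := (C.two.to_le hFA).comap_of_injective Hf.subtype Hf.subtype_injective
  let φf : ↥D' →* Bar f := ((proj f).comp (inclusion hWf)).comp D'.subtype
  have hlay : φf.range ≤ Cfsg.layer (Bar f) := by
    rintro _ ⟨w, rfl⟩
    have h1 : (w : ↥W) ∈ pLayer 2 ↥W := (hD'P w.2).1
    have h2 : inclusion hWf (w : ↥W) ∈ pLayer 2 ↥Hf :=
      pLayer_centralizer_le hT2 ⟨e w, map_pLayer_equiv_le 2 e ⟨w, h1, rfl⟩, rfl⟩
    rw [← map_pLayer]
    exact ⟨_, h2, rfl⟩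
  set Ff := Tf.map (proj f)
  have hcen : φf.range ≤ centralizer (Ff : Set (Bar f)) := by
    rintro _ ⟨w, rfl⟩
    refine mem_centralizer_iff.2 ?_
    rintro _ ⟨c, hc, rfl⟩
    show proj f c * proj f _ = proj f _ * proj f c
    rw [← map_mul, ← map_mul]
    exact congrArg _ (Subtype.ext (mem_centralizer_iff.1 (w : ↥W).2 (c : G) hc))
  have hcardF : Nat.card ↥Ff = Nat.card ↥F := by
    have h1 : ∀ x ∈ Tf, proj f x = 1 → x = 1 := fun x hx h0 =>
      Subtype.ext (C.eq_one_of_proj hfA (hFA hx) (by exact h0))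
    rw [show Nat.card ↥F = Nat.card ↥Tf from
      (Nat.card_congr (subgroupOfEquivOfLe (hFA.trans (C.le_centralizer_of_mem hfA))).toEquiv).symm]
    refine (Nat.card_congr (Equiv.ofBijective ((proj f).subgroupMap Tf) ⟨?_, (proj f).subgroupMap_surjective Tf⟩)).symm
    rw [injective_iff_map_eq_one]
    exact fun x hx => Subtype.ext (h1 x x.2 (congrArg Subtype.val hx))
  -- the map onto the simple quotient
  let ψ₀ : ↥D' →* ↥K := (φ.comp D'.subtype).codRestrict K fun w => hD'map.le ⟨w, w.2, rfl⟩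
  have hψ₀ : Function.Surjective ψ₀ := fun k => by
    obtain ⟨w, hw, hwk⟩ := hD'map.ge k.2
    exact ⟨⟨w, hw⟩, Subtype.ext hwk⟩
  let ψ : ↥D' →* ↥K ⧸ Subgroup.center ↥K := (QuotientGroup.mk' _).comp ψ₀
  have hψ : Function.Surjective ψ := (QuotientGroup.mk'_surjective _).comp hψ₀
  have hE : commutator ↥D' = ⊤ := Frobenius.commutator_eq_top_of_perfect hD'perf
  haveI := D.simple.1
  have hψN : ∀ R : Subgroup ↥D', R.Normal → R ≠ ⊤ → R ≤ ψ.ker := by
    intro R hR hne
    haveI := hR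
    rcases (hR.map ψ hψ).eq_bot_or_eq_top with e1 | e1
    · exact (Subgroup.map_eq_bot_iff R).1 e1
    · exfalso
      haveI : Group.IsSolvable ↥ψ₀.ker := OddOrderTheorem.solvable <| by
        refine Odd.of_dvd_nat (Nat.coprime_two_right.1 hker) ?_
        refine Subgroup.card_dvd_of_injective (((D'.subtype).comp ψ₀.ker.subtype).codRestrict φ.ker
          fun w => congrArg Subtype.val w.2) fun u v huv => ?_
        exact Subtype.ext (Subtype.ext (congrArg (fun z : ↥φ.ker => (z : ↥W)) huv :))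
      haveI : Group.IsSolvable ↥ψ.ker := by
        let g : ↥ψ.ker →* ↥(Subgroup.center ↥K) := (ψ₀.comp ψ.ker.subtype).codRestrict _
          fun w => (QuotientGroup.eq_one_iff _).1 w.2
        haveI : Group.IsSolvable ↥(Subgroup.center ↥K) :=
          Group.isSolvable_of_comm fun u v => Subtype.ext (mem_center_iff.1 v.2 u)
        refine Group.isSolvable_of_ker_le_range (inclusion (show ψ₀.ker ≤ ψ.ker from fun w hw => ?_)) g fun w hw => ?_
        · rw [MonoidHom.mem_ker] at hw ⊢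
          show QuotientGroup.mk' _ (ψ₀ w) = 1
          rw [hw, map_one]
        · exact ⟨⟨w, MonoidHom.mem_ker.2 (congrArg Subtype.val (MonoidHom.mem_ker.1 hw))⟩, rfl⟩
      have hsup : R ⊔ ψ.ker = ⊤ := by rw [← comap_map_eq, e1, comap_top]
      haveI : Group.IsSolvable (↥D' ⧸ R) := by
        refine Group.isSolvable_of_surjective (f := (QuotientGroup.mk' R).comp ψ.ker.subtype) fun z => ?_
        obtain ⟨w, rfl⟩ := QuotientGroup.mk'_surjective R z
        obtain ⟨r, hr, v, hv, rfl⟩ := (Coprime.mem_sup_iff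
          (show ψ.ker ≤ normalizer (R : Set ↥D') by rw [normalizer_eq_top]; exact le_top)).1
          (hsup.ge (mem_top w))
        refine ⟨⟨v, hv⟩, ?_⟩
        rw [map_mul, show QuotientGroup.mk' R r = 1 from (QuotientGroup.eq_one_iff r).2 hr, one_mul]
        rfl
      exact hne ((eq_top_iff' R).2 fun w => (QuotientGroup.eq_one_iff w).1
        (Frobenius.eq_one_of_perfect hE (QuotientGroup.mk' R) w))
  have hD'A : ∀ b ∈ A, ∀ w : ↥D', ∃ w' : ↥D', ((w' : ↥W) : G) = b * ((w : ↥W) : G) * b⁻¹ := by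
    intro b hb w
    obtain ⟨w', hw', he⟩ := (mem_normalizer_iff.1 (hnormA hb) _).1 ⟨(w : ↥W), w.2, rfl⟩
    exact ⟨⟨w', hw'⟩, he⟩
  have hmove : ∃ b ∈ bar A f, ∃ w w' : ↥D', φf w' = b * φf w * b⁻¹ ∧ ψ w' ≠ ψ w := by
    by_contra hc
    push Not at hc
    refine hK.moved.2 (le_centralizer_iff.1 ?_)
    rintro _ ⟨b, hb, rfl⟩
    refine ThreePrime.centralizes_of_mod_center hK.moved.1 (D.norm ⟨b, hb, rfl⟩) fun k => ?_
    obtain ⟨w, rfl⟩ := hψ₀ k
    obtain ⟨w', hw'⟩ := hD'A _ hb w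
    have h1 := hc _ ⟨⟨b, C.le_centralizer_of_mem hfA hb⟩, hb, rfl⟩ w w' (by
      show proj f _ = proj f _ * proj f _ * (proj f _)⁻¹
      rw [← map_mul, ← map_inv, ← map_mul]
      exact congrArg _ (Subtype.ext hw'))
    have h2 : ψ₀ w' * (ψ₀ w)⁻¹ ∈ Subgroup.center ↥K := by
      rw [← QuotientGroup.eq_one_iff, ← QuotientGroup.mk'_apply, map_mul, map_inv]
      exact mul_inv_eq_one.2 h1
    convert h2 using 3
    show proj a b * proj a (inclusion hWa (w : ↥W)) * (proj a b)⁻¹ = proj a (inclusion hWa (w' : ↥W))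
    rw [← map_mul, ← map_inv, ← map_mul]
    exact congrArg _ (Subtype.ext hw'.symm)
  -- the transitive element
  obtain ⟨t, htK, htN, htmod, -⟩ := D.exists_transMod (C.bar_comm a)
  obtain ⟨x, hxN, hxA, hxt⟩ := hsurjN t htK htN
  have hxmod : TransMod A F (x : G) := C.transMod_pull ha hxA (hxt ▸ htmod)
  obtain ⟨w₀, hw₀, hw₀x⟩ := hxN
  have hcard : Nat.card ↥(bar A f) = q * Nat.card ↥Ff := by
    rw [C.card_bar hfA, hcardF]
    exact C.card_eq hK
  have hFf : Ff ≤ bar A f := map_mono fun c hc => hFA hc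
  have hyN : φf ⟨w₀, hw₀⟩ ∈ normalizer (bar A f : Set (Bar f)) := by
    refine Signalizer.mem_normalizer_of_conj_mem ?_
    rintro _ ⟨b, hb, rfl⟩
    refine ⟨inclusion hWf w₀ * b * (inclusion hWf w₀)⁻¹, ?_, ?_⟩
    · show (w₀ : G) * b * (w₀ : G)⁻¹ ∈ A
      rw [show (w₀ : G) = x from hw₀x]
      exact (mem_normalizer_iff.1 hxA _).1 hb
    · rw [map_mul, map_mul, map_inv]
      rfl
  have hyT : TransMod (bar A f) Ff (proj f (inclusion hWf w₀)) := by
    refine C.transMod_bar hfA ?_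
    rwa [show ((inclusion hWf w₀ : ↥Hf) : G) = x from hw₀x]
  obtain ⟨M, hM, DM, hMfix, hMimg⟩ := exists_component_of_image (h f hfA hf1) (C.bar_comm f) (C.bar_sq f) hFf
    D.four_le (let ⟨n, _, hn⟩ := D.exists_pow; ⟨n, hn⟩) hcard
    (fun M s hM' DM' hS => hbig f M s ⟨hfA, hf1, hM', DM'⟩ hS)
    hE D.simple.2 D.dvd_card ψ hψ hψN φf hlay hcen hmove (y := ⟨w₀, hw₀⟩) hyN hyT
  refine ⟨M, ⟨hfA, hf1, hM, DM⟩, ?_, fun z hz => ?_⟩
  · ext c
    refine ⟨fun hc => ?_, fun hc => ?_⟩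
    · obtain ⟨c', hc', he⟩ : proj f ⟨c, C.le_centralizer_of_mem hfA hc.1⟩ ∈ Ff :=
        hMfix.le ⟨⟨_, hc.1, rfl⟩, (C.mem_fixerAt hfA hc.1).1 hc⟩
      have h1 := C.eq_one_of_proj hfA (mul_mem (inv_mem hc.1) (hFA hc'))
        (show proj f (⟨c, C.le_centralizer_of_mem hfA hc.1⟩⁻¹ * c') = 1 by
          rw [map_mul, map_inv, he, inv_mul_cancel])
      rw [show c = (c' : G) from inv_mul_eq_one.1 h1]
      exact hc'
    · exact (C.mem_fixerAt hfA (hFA hc)).2
        (hMfix.ge ⟨⟨c, C.le_centralizer_of_mem hfA (hFA hc)⟩, hc, rfl⟩).2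
  · obtain ⟨w, hw, he⟩ := hz
    rw [show z = inclusion hWf w from Subtype.ext he.symm]
    exact hMimg ⟨⟨w, hw⟩, rfl⟩

/-- Moved components at one member with equal fixers are equal. -/
theorem eq_of_fixerAt_eq {a : G} {K L : Subgroup (Bar a)} {q r : ℕ} (hK : MovedAt A a K q)
    (hL : MovedAt A a L r) (he : fixerAt A a K = fixerAt A a L) : K = L := by
  refine eq_of_fixer_eq hK.moved hL.moved hK.data ?_
  show bar A a ⊓ _ = bar A a ⊓ _
  rw [← C.image_pull hK.mem, ← C.image_pull hK.mem]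
  exact congrArg (fun F : Subgroup G => (F.subgroupOf (centralizer ({a} : Set G))).map (proj a)) he

/-- An element of a component normalising `A` moves `A` inside the part. -/
theorem comm_mem_part {f : G} {M : Subgroup (Bar f)} {q : ℕ} (hM : MovedAt A f M q)
    {x : ↥(centralizer ({f} : Set G))} (hx : proj f x ∈ M) (hxA : (x : G) ∈ normalizer (A : Set G))
    {b : G} (hb : b ∈ A) : (x : G) * b * (x : G)⁻¹ * b⁻¹ ∈ partAt A f M := by
  have hm : (x : G) * b * (x : G)⁻¹ * b⁻¹ ∈ A := mul_mem ((mem_normalizer_iff.1 hxA b).1 hb) (inv_mem hb)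
  refine (C.mem_pull hM.mem hm).2 ?_
  have hbn : proj f ⟨b, C.le_centralizer_of_mem hM.mem hb⟩ ∈ normalizer (M : Set (Bar f)) :=
    hM.data.norm ⟨⟨b, C.le_centralizer_of_mem hM.mem hb⟩, hb, rfl⟩
  have h1 := mul_mem hx ((mem_normalizer_iff.1 hbn _).1 (inv_mem hx))
  rw [show proj f ⟨_, C.le_centralizer_of_mem hM.mem hm⟩ = proj f x *
      (proj f ⟨b, C.le_centralizer_of_mem hM.mem hb⟩ * (proj f x)⁻¹ *
        (proj f ⟨b, C.le_centralizer_of_mem hM.mem hb⟩)⁻¹) by
    rw [← map_inv, ← map_inv, ← map_mul, ← map_mul, ← map_mul]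
    exact congrArg _ (Subtype.ext (by simp [mul_assoc]))]
  exact h1

/-- Elements normalising `A` permute the moved components. -/
theorem movedAt_conj (h : LocalsHold A) {f f' g : G} (hg : g ∈ normalizer (A : Set G)) (hf : g * f * g⁻¹ = f')
    {M : Subgroup (Bar f)} {q : ℕ} (hM : MovedAt A f M q) :
    ∃ M' : Subgroup (Bar f'), MovedAt A f' M' q ∧
      fixerAt A f' M' = (fixerAt A f M).map (MulAut.conj g).toMonoidHom ∧
      partAt A f' M' = (partAt A f M).map (MulAut.conj g).toMonoidHom ∧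
      ∀ (x : ↥(centralizer ({f} : Set G))) (x' : ↥(centralizer ({f'} : Set G))),
        (x' : G) = g * x * g⁻¹ → proj f x ∈ M → proj f' x' ∈ M' := by
  have hf' : f' ∈ A := hf ▸ (mem_normalizer_iff.1 hg f).1 hM.mem
  have hmem : ∀ x : G, x ∈ centralizer ({f} : Set G) ↔ g * x * g⁻¹ ∈ centralizer ({f'} : Set G) := fun x => by
    rw [mem_centralizer_singleton_iff, mem_centralizer_singleton_iff, ← hf]
    constructor
    · intro h
      calc g * x * g⁻¹ * (g * f * g⁻¹) = g * (x * f) * g⁻¹ := by group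
        _ = g * (f * x) * g⁻¹ := by rw [h]
        _ = g * f * g⁻¹ * (g * x * g⁻¹) := by group
    · intro h
      calc x * f = g⁻¹ * (g * x * g⁻¹ * (g * f * g⁻¹)) * g := by group
        _ = g⁻¹ * (g * f * g⁻¹ * (g * x * g⁻¹)) * g := by rw [h]
        _ = f * x := by group
  let e : ↥(centralizer ({f} : Set G)) ≃* ↥(centralizer ({f'} : Set G)) :=
    { toFun := fun x => ⟨g * x * g⁻¹, (hmem x).1 x.2⟩
      invFun := fun y => ⟨g⁻¹ * y * g, (hmem _).2 (by
        rw [show g * (g⁻¹ * (y : G) * g) * g⁻¹ = y by group]; exact y.2)⟩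
      left_inv := fun x => Subtype.ext (by simp [mul_assoc])
      right_inv := fun y => Subtype.ext (by simp [mul_assoc])
      map_mul' := fun x y => Subtype.ext (by simp [mul_assoc]) }
  let qe : Bar f ≃* Bar f' := QuotientGroup.congr _ _ e (ExtLayer.map_pPrimeCore 2 e)
  have hqe : ∀ x : ↥(centralizer ({f} : Set G)), qe (proj f x) = proj f' (e x) := fun _ => rfl
  have hbar : (bar A f).map qe.toMonoidHom = bar A f' := by
    ext z
    constructor
    · rintro ⟨_, ⟨x, hx, rfl⟩, rfl⟩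
      exact ⟨e x, (mem_normalizer_iff.1 hg _).1 hx, (hqe x).symm⟩
    · rintro ⟨x', hx', rfl⟩
      obtain ⟨x, rfl⟩ := e.surjective x'
      exact ⟨proj f x, ⟨x, (mem_normalizer_iff.1 hg _).2 hx', rfl⟩, hqe x⟩
  have hmc : ∀ F : Subgroup (Bar f),
      (centralizer (F : Set (Bar f))).map qe.toMonoidHom =
        centralizer ((F.map qe.toMonoidHom : Subgroup (Bar f')) : Set (Bar f')) := fun F => by
    ext z
    obtain ⟨w, rfl⟩ := qe.surjective z
    rw [show qe w = qe.toMonoidHom w from rfl, mem_map_iff_mem (f := qe.toMonoidHom) qe.injective, mem_centralizer_iff, mem_centralizer_iff]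
    constructor
    · rintro hw _ ⟨u, hu, rfl⟩
      rw [← map_mul, ← map_mul, hw u hu]
    · intro hw u hu
      exact qe.injective (by rw [map_mul, map_mul]; exact hw _ ⟨u, hu, rfl⟩)
  have hpull : ∀ F : Subgroup (Bar f),
      pull A f' (F.map qe.toMonoidHom) = (pull A f F).map (MulAut.conj g).toMonoidHom := fun F => by
    ext z
    constructor
    · intro hz
      have hzA := hz.1
      obtain ⟨x, hxe⟩ := e.surjective ⟨z, C.le_centralizer_of_mem hf' hzA⟩
      have hx1 : g * (x : G) * g⁻¹ = z := congrArg Subtype.val hxe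
      have hxA : (x : G) ∈ A := (mem_normalizer_iff.1 hg _).2 (by rw [hx1]; exact hzA)
      refine ⟨x, (C.mem_pull hM.mem hxA).2 ?_, hx1⟩
      have h1 := (C.mem_pull hf' hzA).1 hz
      rw [← hxe, ← hqe] at h1
      exact (mem_map_iff_mem qe.injective).1 h1
    · rintro ⟨x, hx, rfl⟩
      have hxA : x ∈ A := hx.1
      have hgx : g * x * g⁻¹ ∈ A := (mem_normalizer_iff.1 hg _).1 hxA
      exact (C.mem_pull hf' hgx).2 ⟨_, (C.mem_pull hM.mem hxA).1 hx, rfl⟩
  set M' := M.map qe.toMonoidHom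
  have hmov : Moved (bar A f') M' := by
    refine ⟨IsComponent.map_equiv qe hM.moved.1, fun hle => hM.moved.2 fun m hm => ?_⟩
    have h1 := hle ⟨m, hm, rfl⟩
    rw [← hbar, ← hmc] at h1
    exact (mem_map_iff_mem qe.injective).1 h1
  have hfix : fixerAt A f' M' = (fixerAt A f M).map (MulAut.conj g).toMonoidHom := by
    show pull A f' (centralizer (M' : Set (Bar f'))) = _
    rw [← hmc]
    exact hpull _
  have hf'1 : f' ≠ 1 := fun e => hM.ne (conj_eq_one_iff.1 (hf.trans e))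
  obtain ⟨r, D⟩ := (h f' hf' hf'1).data M' hmov
  have hr : r = q := by
    have h1 := C.card_eq (K := M') ⟨hf', hf'1, hmov, D⟩
    rw [hfix, card_map_of_injective (MulAut.conj g).injective, C.card_eq hM] at h1
    exact (Nat.eq_of_mul_eq_mul_right Nat.card_pos h1).symm
  refine ⟨M', ⟨hf', hf'1, hmov, hr ▸ D⟩, hfix, hpull M, fun x x' hx hxM => ⟨_, hxM, ?_⟩⟩
  show qe (proj f x) = proj f' x'
  rw [hqe, show e x = x' from Subtype.ext hx.symm]

end Ctx

/-- An element of the lift transitive on `A` modulo the fixer, unique up to powers. -/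
theorem IsLift.exists_torus {G : Type u} [Group G] [Finite G] {S : Sylow 2 G} {A : Subgroup G}
    (C : Ctx G S A) (h : LocalsHold A) {a : G} {K : Subgroup (Bar a)} {q : ℕ} (hK : MovedAt A a K q)
    (hbig : BigAt A q) {N : Subgroup G} (hN : IsLift A a K q N) :
    ∃ y ∈ N, y ∈ normalizer (A : Set G) ∧ TransMod A (fixerAt A a K) y ∧
      ∀ g ∈ normalizer (A : Set G), (fixerAt A a K).map (MulAut.conj g).toMonoidHom = fixerAt A a K →
        ∃ k : ℕ, ∀ b ∈ A, g * y * g⁻¹ * b * (g * y * g⁻¹)⁻¹ * (y ^ k * b * (y ^ k)⁻¹)⁻¹ ∈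
          fixerAt A a K ⊓ partAt A a K := by
  obtain ⟨t, htK, htN, htmod, huniq⟩ := hK.data.exists_transMod (C.bar_comm a)
  obtain ⟨x, hxN, hxA, rfl⟩ := hN.surjN t htK htN
  set F := fixerAt A a K with hF
  have htrans : TransMod A F (x : G) := C.transMod_pull hK.mem hxA htmod
  refine ⟨x, hxN, hxA, htrans, fun g hg hgF => ?_⟩
  have hgi : ∀ z, z ∈ F → g⁻¹ * z * g ∈ F := fun z hz => by
    obtain ⟨w, hw, hwz⟩ := hgF.ge hz
    rw [← hwz]
    simpa [mul_assoc] using hw
  set f := g⁻¹ * a * g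
  have hfF : f ∈ F := hgi a (C.self_mem_fixerAt hK.mem K)
  have hf1 : f ≠ 1 := fun e => hK.ne (by simpa [f, mul_assoc] using congrArg (fun z => g * z * g⁻¹) e)
  obtain ⟨M, hM, hMF, hMimg⟩ := hN.comps hbig f hfF hf1
  obtain ⟨M', hM', hM'F, -, hM'x⟩ := C.movedAt_conj h hg (f' := a) (by simp [f, mul_assoc]) hM
  obtain rfl : M' = K := C.eq_of_fixerAt_eq hM' hK (by rw [hM'F, hMF, hgF])
  have hxf : (x : G) ∈ centralizer ({f} : Set G) :=
    mem_centralizer_singleton_iff.2 (mem_centralizer_iff.1 (hN.cent hxN) f hfF).symm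
  have hga : g * (x : G) * g⁻¹ ∈ centralizer ({a} : Set G) := by
    refine mem_centralizer_singleton_iff.2 ?_
    have h1 := mem_centralizer_singleton_iff.1 hxf
    calc g * (x : G) * g⁻¹ * a = g * ((x : G) * f) * g⁻¹ := by simp only [f]; group
      _ = g * (f * (x : G)) * g⁻¹ := by rw [h1]
      _ = a * (g * (x : G) * g⁻¹) := by simp only [f]; group
  set w : ↥(centralizer ({a} : Set G)) := ⟨_, hga⟩
  have hwK : proj a w ∈ M' := hM'x ⟨x, hxf⟩ w rfl (hMimg ⟨x, hxf⟩ hxN)
  have hwA : (w : G) ∈ normalizer (A : Set G) := mul_mem (mul_mem hg hxA) (inv_mem hg)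
  have hwbar : proj a w ∈ normalizer (bar A a : Set (Bar a)) := Signalizer.mem_normalizer_of_conj_mem (by
    rintro _ ⟨b, hb, rfl⟩
    exact ⟨w * b * w⁻¹, (mem_normalizer_iff.1 hwA _).1 hb, by rw [map_mul, map_mul, map_inv]⟩)
  have hwtrans : TransMod A F (w : G) := by
    intro u hu v hv huF hvF
    have hnot : ∀ z, z ∉ F → g⁻¹ * z * g ∉ F := fun z hz hzF => hz (by
      have := hgF.le ⟨_, hzF, rfl⟩
      simpa [mul_assoc] using this)
    obtain ⟨k, hk⟩ := htrans _ ((mem_normalizer_iff.1 hg _).2 (by simpa [mul_assoc] using hu) : g⁻¹ * u * g ∈ A)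
      _ ((mem_normalizer_iff.1 hg _).2 (by simpa [mul_assoc] using hv) : g⁻¹ * v * g ∈ A) (hnot u huF) (hnot v hvF)
    refine ⟨k, ?_⟩
    have h2 := hgF.le ⟨_, hk, rfl⟩
    have e : ((w : G) ^ k * u * ((w : G) ^ k)⁻¹)⁻¹ * v =
        g * (((x : G) ^ k * (g⁻¹ * u * g) * ((x : G) ^ k)⁻¹)⁻¹ * (g⁻¹ * v * g)) * g⁻¹ := by
      show ((g * (x : G) * g⁻¹) ^ k * u * ((g * (x : G) * g⁻¹) ^ k)⁻¹)⁻¹ * v = _
      rw [conj_pow]; group
    rw [e]; exact h2
  have hwt := C.transMod_bar hK.mem hwtrans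
  rw [hF, C.image_pull hK.mem] at hwt
  obtain ⟨k, hk⟩ := huniq _ hwK hwbar hwt
  refine ⟨k, fun b hb => ?_⟩
  have hm1 : (w : G) * b * (w : G)⁻¹ ∈ A := (mem_normalizer_iff.1 hwA b).1 hb
  have hm2 : (x : G) ^ k * b * ((x : G) ^ k)⁻¹ ∈ A := (mem_normalizer_iff.1 (pow_mem hxA k) b).1 hb
  have hm := mul_mem hm1 (inv_mem hm2)
  have h3 := hk _ ⟨⟨b, C.le_centralizer_of_mem hK.mem hb⟩, hb, rfl⟩
  have e : proj a w * proj a ⟨b, C.le_centralizer_of_mem hK.mem hb⟩ * (proj a w)⁻¹ *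
      (proj a x ^ k * proj a ⟨b, C.le_centralizer_of_mem hK.mem hb⟩ * (proj a x ^ k)⁻¹)⁻¹ =
        proj a ⟨_, C.le_centralizer_of_mem hK.mem hm⟩ := by
    rw [← map_pow, ← map_inv, ← map_inv, ← map_mul, ← map_mul, ← map_mul, ← map_mul, ← map_inv, ← map_mul]
    exact congrArg _ (Subtype.ext (by simp [w]))
  rw [e] at h3
  exact ⟨(C.mem_fixerAt hK.mem hm).2 h3.2, (C.mem_pull hK.mem hm).2 h3.1⟩

end Cfsg.Agent.Goldschmidt.General
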