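import Cfsg.Agent.Lib.Goldschmidt.General.MakeFrame.Linear
import Cfsg.Agent.Lib.Goldschmidt.General.MakeFrame.Kind

/-!
# The block decomposition (owner: helper84; section MakeFrame of `GENERAL.md`)

With fixers larger than `q` the parts are the blocks of a decomposition of `A`, the fixers are the
co-blocks, all top components are of one kind, and a component with a smaller parameter exists only
under small top components with `q = 8`; it is then fixed by a co-block.

* `Ctx.cross`, `Ctx.coBlock_eq`, `Ctx.exists_conj` : the decomposition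
* `Ctx.lower` : the components below the top
* `Ctx.frame` : the frame
* `makeFrameTarget`
-/

set_option autoImplicit false
set_option linter.unusedSectionVars false
set_option linter.style.haveILetI false

namespace Cfsg.Agent.Goldschmidt.General

open Cfsg Subgroup

universe u

variable {G : Type u} [Group G]

/-- The parameter is a power of two, at least four. -/
theorem MovedAt.exists_pow {A : Subgroup G} {a : G} {K : Subgroup (Bar a)} {r : ℕ}
    (hK : MovedAt A a K r) : ∃ n : ℕ, 2 ≤ n ∧ r = 2 ^ n := by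
  rcases hK.data.shape with h | h
  · exact h.pow
  · rcases h.four_or_eight with rfl | rfl
    · exact ⟨2, le_rfl, rfl⟩
    · exact ⟨3, by norm_num, rfl⟩

namespace Ctx

variable [Finite G] {S : Sylow 2 G} {A : Subgroup G} (C : Ctx G S A) {q : ℕ}
  {ℬ : Set (Subgroup G × Subgroup G)} (T : TopBlocks A q ℬ)
include C T

theorem top_exists : ∃ (a : G) (K : Subgroup (Bar a)), MovedAt A a K q := by
  obtain ⟨B, hB⟩ := T.nonempty
  obtain ⟨f, hf, hf1⟩ := (Subgroup.bot_or_exists_ne_one B.1).resolve_left (T.compl B hB).2.2.2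
  obtain ⟨M, hM, -, -⟩ := T.everywhere B hB f hf hf1
  exact ⟨f, M, hM⟩

theorem four_le_top : 4 ≤ q := by
  obtain ⟨a, K, hK⟩ := top_exists C T
  obtain ⟨n, hn, rfl⟩ := hK.exists_pow
  exact (show (4 : ℕ) = 2 ^ 2 by norm_num) ▸ Nat.pow_le_pow_right two_pos hn

theorem block_card {B B' : Subgroup G × Subgroup G} (hB : B ∈ ℬ) (hB' : B' ∈ ℬ) :
    Nat.card ↥B.1 = Nat.card ↥B'.1 := by
  have h1 := card_eq_mul C T hB
  rw [card_eq_mul C T hB'] at h1
  exact (Nat.eq_of_mul_eq_mul_right (by have := four_le_top C T; omega) h1).symm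

variable (hbig : ∀ B ∈ ℬ, q < Nat.card ↥B.1)
include hbig

/-- With large fixers every part lies in every other fixer. -/
theorem cross {B B' : Subgroup G × Subgroup G} (hB : B ∈ ℬ) (hB' : B' ∈ ℬ) (hne : B ≠ B') :
    B'.2 ≤ B.1 := by
  have hne' : B.1 ≠ B'.1 := fun e => hne (T.func B hB B' hB' e)
  refine (T.meet B hB B' hB' hne' fun h0 => ?_).2
  have h1 := C.card_mul_of_le (block_le C T hB).1 (block_le C T hB').1
  rw [h0, card_bot, mul_one] at h1
  have h2 : Nat.card ↥(B.1 ⊔ B'.1 : Subgroup G) ≤ Nat.card ↥A :=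
    card_le_of_le (sup_le (block_le C T hB).1 (block_le C T hB').1)
  rw [h1, card_eq_mul C T hB] at h2
  exact absurd (Nat.le_of_mul_le_mul_left h2 Nat.card_pos) (hbig B' hB').not_ge

omit hbig in
theorem part_ne_bot {B : Subgroup G × Subgroup G} (hB : B ∈ ℬ) : B.2 ≠ ⊥ := fun e => by
  have h1 := (T.compl B hB).2.2.1
  rw [e, card_bot] at h1
  have := four_le_top C T
  omega

omit hbig in
theorem part_inf {B : Subgroup G × Subgroup G} (hB : B ∈ ℬ) : ¬ B.2 ≤ B.1 := fun h =>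
  part_ne_bot C T hB (le_bot_iff.1 ((le_inf h le_rfl).trans_eq (T.compl B hB).2.1))

theorem snd_inj {B B' : Subgroup G × Subgroup G} (hB : B ∈ ℬ) (hB' : B' ∈ ℬ) (h : B.2 = B'.2) :
    B = B' := by
  by_contra hne
  exact part_inf C T hB (h.le.trans (cross C T hbig hB hB' hne))

/-- `N(A)` is transitive on the blocks. -/
theorem exists_conj {B₀ B : Subgroup G × Subgroup G} (hB₀ : B₀ ∈ ℬ) (hB : B ∈ ℬ) :
    ∃ g ∈ normalizer (A : Set G),
      B = (B₀.1.map (MulAut.conj g).toMonoidHom, B₀.2.map (MulAut.conj g).toMonoidHom) := by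
  by_contra hno
  push Not at hno
  set W : Subgroup G :=
    ⨆ g : {g : G // g ∈ normalizer (A : Set G)}, B₀.2.map (MulAut.conj (g : G)).toMonoidHom with hW
  have hconj : ∀ g ∈ normalizer (A : Set G),
      (B₀.1.map (MulAut.conj g).toMonoidHom, B₀.2.map (MulAut.conj g).toMonoidHom) ∈ ℬ :=
    T.conj B₀ hB₀
  have hWA : W ≤ A := iSup_le fun g => (block_le C T (hconj g g.2)).2
  have hWB : W ≤ B.1 := iSup_le fun g => cross C T hbig hB (hconj g g.2) (hno g g.2)
  have h1 : B₀.2 ≤ W := fun x hx =>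
    le_iSup (fun g : {g : G // g ∈ normalizer (A : Set G)} => B₀.2.map (MulAut.conj (g : G)).toMonoidHom)
      ⟨1, one_mem _⟩ ⟨x, hx, by simp⟩
  have hinv : normalizer (A : Set G) ≤ normalizer (W : Set G) := fun n hn =>
    Coprime.mem_normalizer_of_forall fun z hz => by
      have h2 : W ≤ W.comap (MulAut.conj n).toMonoidHom := iSup_le fun g => by
        rintro _ ⟨p, hp, rfl⟩
        refine le_iSup (fun g : {g : G // g ∈ normalizer (A : Set G)} =>
          B₀.2.map (MulAut.conj (g : G)).toMonoidHom) ⟨n * g, mul_mem hn g.2⟩ ⟨p, hp, ?_⟩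
        simp only [MulEquiv.coe_toMonoidHom, MulAut.conj_apply]
        group
      exact h2 hz
  rcases C.irred W hWA hinv with e | e
  · exact part_ne_bot C T hB₀ (le_bot_iff.1 (e ▸ h1))
  · exact part_inf C T hB ((block_le C T hB).2.trans (e ▸ hWB))

omit hbig in
/-- The complement generated by the other parts. -/
theorem coBlock_le_fst (hcross : ∀ B ∈ ℬ, ∀ B' ∈ ℬ, B ≠ B' → B'.2 ≤ B.1)
    {B : Subgroup G × Subgroup G} (hB : B ∈ ℬ) : coBlock (Prod.snd '' ℬ) B.2 ≤ B.1 :=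
  iSup₂_le fun R hR => by
    obtain ⟨⟨B', hB', rfl⟩, hne⟩ := hR
    exact hcross B hB B' hB' fun e => hne (by rw [e]; rfl)

theorem coBlock_eq {B : Subgroup G × Subgroup G} (hB : B ∈ ℬ) :
    coBlock (Prod.snd '' ℬ) B.2 = B.1 := by
  have hle := coBlock_le_fst C T (fun B hB B' hB' h => cross C T hbig hB hB' h) hB
  have hP : ∀ B' ∈ ℬ, B'.2 ≤ B.2 ⊔ coBlock (Prod.snd '' ℬ) B.2 := fun B' hB' => by
    by_cases e : B' = B
    · exact e ▸ le_sup_left
    · exact le_trans (le_iSup₂ (f := fun R (_ : R ∈ (Prod.snd '' ℬ) \ {B.2}) => R) B'.2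
        ⟨⟨B', hB', rfl⟩, fun h => e (snd_inj C T hbig hB' hB h)⟩) le_sup_right
  set W : Subgroup G := ⨆ B' : {B' // B' ∈ ℬ}, (B' : Subgroup G × Subgroup G).2
  have hW : W = A := by
    refine (C.irred W (iSup_le fun B' => (block_le C T B'.2).2) fun n hn =>
      Coprime.mem_normalizer_of_forall fun z hz => ?_).resolve_left fun e => ?_
    · have h2 : W ≤ W.comap (MulAut.conj n).toMonoidHom := iSup_le fun B' => by
        intro p hp
        exact le_iSup (fun B' : {B' // B' ∈ ℬ} => (B' : Subgroup G × Subgroup G).2)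
          ⟨_, T.conj B' B'.2 n hn⟩ ⟨p, hp, rfl⟩
      exact h2 hz
    · exact part_ne_bot C T hB (le_bot_iff.1
        (e ▸ le_iSup (fun B' : {B' // B' ∈ ℬ} => (B' : Subgroup G × Subgroup G).2) ⟨B, hB⟩))
  refine le_antisymm hle fun x hx => ?_
  have hxW : x ∈ B.2 ⊔ coBlock (Prod.snd '' ℬ) B.2 := by
    have : W ≤ B.2 ⊔ coBlock (Prod.snd '' ℬ) B.2 := iSup_le fun B' => hP B' B'.2
    exact this (hW.symm ▸ (block_le C T hB).1 hx)
  obtain ⟨p, hp, c, hc, rfl⟩ := C.exists_mul_of_le (block_le C T hB).2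
    (hle.trans (block_le C T hB).1) hxW
  have hp1 : p = 1 := (Subgroup.eq_bot_iff_forall _).1 (T.compl B hB).2.1 p
    ⟨(Subgroup.mul_mem_cancel_right _ (hle hc)).1 hx, hp⟩
  rwa [hp1, one_mul]

/-- There are at least three blocks. -/
theorem two_others {B : Subgroup G × Subgroup G} (hB : B ∈ ℬ) :
    ∃ B' ∈ ℬ, ∃ B'' ∈ ℬ, B' ≠ B ∧ B'' ≠ B ∧ B' ≠ B'' := by
  by_contra! hno
  have h1 := hbig B hB
  rw [← coBlock_eq C T hbig hB] at h1
  refine h1.not_ge ?_
  by_cases h : ∃ B' ∈ ℬ, B' ≠ B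
  · obtain ⟨B', hB', hne⟩ := h
    refine le_of_le_of_eq (card_le_of_le (iSup₂_le fun R hR => ?_)) (T.compl B' hB').2.2.1
    obtain ⟨⟨B'', hB'', rfl⟩, hR'⟩ := hR
    rw [hno B' hB' B'' hB'' hne (fun e => hR' (by rw [e]; rfl))]
  · push Not at h
    have h2 : coBlock (Prod.snd '' ℬ) B.2 = ⊥ := le_bot_iff.1 (iSup₂_le fun R hR => by
      obtain ⟨⟨B'', hB'', rfl⟩, hR'⟩ := hR
      exact absurd (by rw [h B'' hB'']; rfl) hR')
    rw [h2, card_bot]
    have := four_le_top C T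
    omega

theorem sq_le_card {B : Subgroup G × Subgroup G} (hB : B ∈ ℬ) : q * q ≤ Nat.card ↥B.1 := by
  obtain ⟨B', hB', B'', hB'', h1, h2, h3⟩ := two_others C T hbig hB
  have hinf : B'.2 ⊓ B''.2 = ⊥ := le_bot_iff.1 ((le_inf
    (inf_le_right.trans (cross C T hbig hB' hB'' h3)) inf_le_left).trans_eq (T.compl B' hB').2.1)
  have h4 := C.card_mul_of_le (block_le C T hB').2 (block_le C T hB'').2
  rw [hinf, card_bot, mul_one, (T.compl B' hB').2.2.1, (T.compl B'' hB'').2.2.1] at h4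
  rw [← h4]
  exact card_le_of_le (sup_le (cross C T hbig hB hB' h1.symm) (cross C T hbig hB hB'' h2.symm))

/-- All top components are of one kind. -/
theorem pairRank_const (B₀ B : Subgroup G × Subgroup G) (hB₀ : B₀ ∈ ℬ) (hB : B ∈ ℬ) :
    PairRank B ↔ PairRank B₀ := by
  obtain ⟨g, -, rfl⟩ := exists_conj C T hbig hB₀ hB
  exact pairRank_conj B₀ g

/-- Either all top components are of rank type or all are small. -/
theorem top_kind (hloc : LocalsHold A) (hsc : SimpleComps A) :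
    (∀ (a : G) (K : Subgroup (Bar a)), MovedAt A a K q → RankFacts (↥K ⧸ Subgroup.center ↥K) q) ∨
      (∀ (a : G) (K : Subgroup (Bar a)), MovedAt A a K q → SmallFacts (↥K ⧸ Subgroup.center ↥K) q) := by
  obtain ⟨B₀, hB₀⟩ := T.nonempty
  have key : ∀ (a : G) (K : Subgroup (Bar a)), MovedAt A a K q →
      (BorelCent (↥K ⧸ Subgroup.center ↥K) ↔ PairRank B₀) := fun a K hK => by
    have hB := T.mem_of_top a K hK
    rw [← C.borelCent_iff hloc hsc hK (part_ne_bot C T hB)]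
    exact pairRank_const C T hbig B₀ _ hB₀ hB
  by_cases h : PairRank B₀
  · exact Or.inl fun a K hK => hK.data.shape.resolve_right fun hs =>
      hs.not_borelCent ((key a K hK).2 h)
  · exact Or.inr fun a K hK => hK.data.shape.resolve_left fun hr => h ((key a K hK).1 hr.borelCent)

/-- A component below the top, with no small one above it, does not exist. -/
theorem small_above {a : G} {K : Subgroup (Bar a)} {r : ℕ} (hK : MovedAt A a K r) (hr : r < q) :
    ∃ (b : G) (M : Subgroup (Bar b)) (s : ℕ),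
      MovedAt A b M s ∧ SmallFacts (↥M ⧸ Subgroup.center ↥M) s ∧ r < s := by
  by_contra! hno
  apply C.not_le_fixerAt hK
  set W : Subgroup G := ⨆ B' : {B' // B' ∈ ℬ}, (B' : Subgroup G × Subgroup G).2
  have hW : ∀ B ∈ ℬ, B.2 ≤ fixerAt A a K := fun B hB => by
    refine T.other B hB a K r hK hr hno fun h0 => ?_
    have hFA : fixerAt A a K ≤ A := inf_le_left
    have h1 := C.card_mul_of_le hFA (block_le C T hB).1
    rw [h0, card_bot, mul_one] at h1
    have h2 : Nat.card ↥(fixerAt A a K ⊔ B.1 : Subgroup G) ≤ Nat.card ↥A :=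
      card_le_of_le (sup_le hFA (block_le C T hB).1)
    rw [h1, C.card_eq_mul_fixerAt hK, mul_comm r] at h2
    exact absurd (Nat.le_of_mul_le_mul_left h2 Nat.card_pos) (hr.trans (hbig B hB)).not_ge
  obtain ⟨B, hB⟩ := T.nonempty
  refine (T.compl B hB).1.ge.trans (sup_le ((coBlock_eq C T hbig hB).ge.trans
    (iSup₂_le fun R hR => ?_)) (hW B hB))
  obtain ⟨⟨B', hB', rfl⟩, -⟩ := hR
  exact hW B' hB'

/-- The components below the top. -/
theorem lower {a : G} {K : Subgroup (Bar a)} {r : ℕ} (hK : MovedAt A a K r) (hr : r < q) :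
    r = 4 ∧ q = 8 ∧ ∃ (b : G) (M : Subgroup (Bar b)),
      MovedAt A b M q ∧ SmallFacts (↥M ⧸ Subgroup.center ↥M) q := by
  obtain ⟨b, M, s, hM, hMs, hrs⟩ := small_above C T hbig hK hr
  obtain ⟨n, hn, rfl⟩ := hK.exists_pow
  have hn4 : 4 ≤ 2 ^ n := (show (4 : ℕ) = 2 ^ 2 by norm_num) ▸ Nat.pow_le_pow_right two_pos hn
  rcases hMs.four_or_eight with rfl | rfl
  · omega
  have hn3 : n < 3 := (Nat.pow_lt_pow_iff_right (by norm_num : 1 < 2)).1 (by simpa using hrs)
  obtain rfl : n = 2 := by omega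
  rcases (T.top b M 8 hM).eq_or_lt with h | h
  · exact ⟨rfl, h.symm, b, M, h ▸ hM, h ▸ hMs⟩
  · obtain ⟨b', M', s', -, hs', hs8⟩ := small_above C T hbig hM h
    rcases hs'.four_or_eight with rfl | rfl <;> omega

/-- A component with parameter four is fixed by a co-block, when `q = 8`. -/
theorem cofix {a : G} {K : Subgroup (Bar a)} (hK : MovedAt A a K 4) (hq : q = 8) :
    ∃ B ∈ ℬ, B.1 ≤ fixerAt A a K := by
  haveI : Fact (Nat.Prime 2) := ⟨Nat.prime_two⟩
  have ha := hK.mem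
  obtain ⟨h, hhK, hhA, -, ⟨P', hP'K, hP'inf, hP'sup, hP'n, htr⟩, -⟩ := hK.data.torus
  obtain ⟨z, rfl⟩ := QuotientGroup.mk'_surjective _ h
  obtain ⟨y, hyA, hye⟩ := C.normalizer_lift (C.le_centralizer_of_mem ha) hhA
  set h := proj a z
  change proj a y = h at hye
  set R := pull A a P' with hR
  set F := fixerAt A a K with hF
  have hFA : F ≤ A := inf_le_left
  have hRA : R ≤ A := inf_le_left
  have hya : ∀ x ∈ A, (y : G) * x * (y : G)⁻¹ ∈ A := fun x hx => (mem_normalizer_iff.1 hyA x).1 hx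
  have hproj : ∀ (x : G) (hx : x ∈ A), proj a ⟨(y : G) * x * (y : G)⁻¹, C.le_centralizer_of_mem ha (hya x hx)⟩ =
      h * proj a ⟨x, C.le_centralizer_of_mem ha hx⟩ * h⁻¹ := fun x hx => by
    rw [show (⟨(y : G) * x * (y : G)⁻¹, C.le_centralizer_of_mem ha (hya x hx)⟩ :
      ↥(centralizer ({a} : Set G))) = y * ⟨x, C.le_centralizer_of_mem ha hx⟩ * y⁻¹ from rfl,
      map_mul, map_mul, map_inv, hye]
  -- decomposition
  have hdec : ∀ x ∈ A, ∃ p ∈ R, ∃ c ∈ F, p * c = x := by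
    intro x hx
    have h1 : proj a ⟨x, C.le_centralizer_of_mem ha hx⟩ ∈ P' ⊔ fixer (bar A a) K := by
      rw [hP'sup]; exact ⟨_, mem_subgroupOf.2 hx, rfl⟩
    have hn : P' ≤ normalizer ((fixer (bar A a) K : Subgroup (Bar a)) : Set (Bar a)) := by
      refine fun v hv => centralizer_le_normalizer _ (mem_centralizer_iff.2 fun u hu => ?_)
      obtain ⟨v', hv', rfl⟩ := (hP'K hv).1
      obtain ⟨u', hu', rfl⟩ := hu.1
      rw [← map_mul, ← map_mul]
      exact congrArg _ (Subtype.ext (C.comm (mem_subgroupOf.1 hu') (mem_subgroupOf.1 hv')))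
    rw [← SetLike.mem_coe, coe_mul_of_left_le_normalizer_right _ _ hn] at h1
    obtain ⟨u, hu, v, hv, huv⟩ := h1
    obtain ⟨u', hu', hue⟩ := (hP'K hu).1
    have hu'A : (u' : G) ∈ A := mem_subgroupOf.1 hu'
    have hpR : (u' : G) ∈ R := (C.mem_pull ha hu'A).2 (hue ▸ hu)
    refine ⟨u', hpR, (u' : G)⁻¹ * x, (C.mem_pull ha (mul_mem (inv_mem hu'A) hx)).2 ?_,
      mul_inv_cancel_left _ _⟩
    rw [show (⟨(u' : G)⁻¹ * x, _⟩ : ↥(centralizer ({a} : Set G))) =
      u'⁻¹ * ⟨x, C.le_centralizer_of_mem ha hx⟩ from rfl, map_mul, map_inv, hue, ← huv,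
      inv_mul_cancel_left]
    exact hv.2
  have hRF : R ⊓ F = ⊥ := (Subgroup.eq_bot_iff_forall _).2 fun x hx => by
    have hxA := hRA hx.1
    refine C.eq_one_of_proj ha hxA ((Subgroup.eq_bot_iff_forall _).1 hP'inf _
      ⟨(C.mem_pull ha hxA).1 hx.1, ⟨_, mem_subgroupOf.2 hxA, rfl⟩, (C.mem_pull ha hxA).1 hx.2⟩)
  have hyF : ∀ c ∈ F, (y : G) * c * (y : G)⁻¹ = c := fun c hc => by
    have hcA := hFA hc
    have h1 : h * proj a ⟨c, C.le_centralizer_of_mem ha hcA⟩ * h⁻¹ =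
        proj a ⟨c, C.le_centralizer_of_mem ha hcA⟩ :=
      mul_inv_eq_iff_eq_mul.2 (mem_centralizer_iff.1 ((C.mem_pull ha hcA).1 hc) h hhK)
    rw [← hproj c hcA] at h1
    refine mul_inv_eq_one.1 (C.eq_one_of_proj ha (mul_mem (hya c hcA) (inv_mem hcA)) ?_)
    rw [show (⟨(y : G) * c * (y : G)⁻¹ * c⁻¹, _⟩ : ↥(centralizer ({a} : Set G))) =
      ⟨(y : G) * c * (y : G)⁻¹, C.le_centralizer_of_mem ha (hya c hcA)⟩ *
        ⟨c, C.le_centralizer_of_mem ha hcA⟩⁻¹ from rfl, map_mul, map_inv, h1, mul_inv_cancel]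
  have hyR : ∀ p ∈ R, (y : G) * p * (y : G)⁻¹ ∈ R := fun p hp => by
    refine (C.mem_pull ha (hya p (hRA hp))).2 ?_
    rw [hproj p (hRA hp)]
    exact (mem_normalizer_iff.1 hP'n _).1 ((C.mem_pull ha (hRA hp)).1 hp)
  have hcomm : ∀ x ∈ A, (y : G) * x * (y : G)⁻¹ * x⁻¹ ∈ R := fun x hx => by
    obtain ⟨p, hp, c, hc, rfl⟩ := hdec x hx
    rw [show (y : G) * (p * c) * (y : G)⁻¹ * (p * c)⁻¹ =
      (y : G) * p * (y : G)⁻¹ * ((y : G) * c * (y : G)⁻¹ * c⁻¹) * p⁻¹ by group, hyF c hc,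
      mul_inv_cancel, mul_one]
    exact mul_mem (hyR p hp) (inv_mem hp)
  have hRcard : Nat.card ↥R = 4 := by
    have h1 := C.card_mul_of_le hRA hFA
    rw [hRF, card_bot, mul_one] at h1
    have h2 : R ⊔ F = A := le_antisymm (sup_le hRA hFA) fun x hx => by
      obtain ⟨p, hp, c, hc, rfl⟩ := hdec x hx
      exact mul_mem (mem_sup_left hp) (mem_sup_right hc)
    rw [h2, C.card_eq_mul_fixerAt hK] at h1
    exact (Nat.eq_of_mul_eq_mul_right Nat.card_pos h1).symm
  have htrR : ∀ p ∈ R, ∀ p' ∈ R, p ≠ 1 → p' ≠ 1 →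
      ∃ k : ℕ, (y : G) ^ k * p * ((y : G) ^ k)⁻¹ = p' := fun p hp p' hp' hp1 hp'1 => by
    have hpA := hRA hp
    have hp'A := hRA hp'
    obtain ⟨k, hk⟩ := htr _ ((C.mem_pull ha hpA).1 hp) _ ((C.mem_pull ha hp'A).1 hp')
      (fun e => hp1 (C.eq_one_of_proj ha hpA e)) (fun e => hp'1 (C.eq_one_of_proj ha hp'A e))
    have hm : (y : G) ^ k * p * ((y : G) ^ k)⁻¹ ∈ A :=
      (mem_normalizer_iff.1 (pow_mem hyA k) p).1 hpA
    refine ⟨k, mul_inv_eq_one.1 (C.eq_one_of_proj ha (mul_mem hm (inv_mem hp'A)) ?_)⟩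
    rw [show (⟨(y : G) ^ k * p * ((y : G) ^ k)⁻¹ * p'⁻¹, _⟩ : ↥(centralizer ({a} : Set G))) =
      y ^ k * ⟨p, C.le_centralizer_of_mem ha hpA⟩ * (y ^ k)⁻¹ *
        ⟨p', C.le_centralizer_of_mem ha hp'A⟩⁻¹ from rfl,
      map_mul, map_mul, map_mul, map_inv, map_inv, map_pow, hye, hk, mul_inv_cancel]
  -- `y` fixes every block
  have hfix : ∀ B ∈ ℬ, ∀ x ∈ B.2, (y : G) * x * (y : G)⁻¹ ∈ B.2 := by
    intro B hB x hx
    have hB'' := T.conj B hB (y : G) hyA
    set B' := (B.1.map (MulAut.conj (y : G)).toMonoidHom, B.2.map (MulAut.conj (y : G)).toMonoidHom)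
    by_cases e : B' = B
    · rw [← e]; exact ⟨x, hx, rfl⟩
    exfalso
    have hB2A := (block_le C T hB).2
    let f : ↥B.2 → ↥R := fun x => ⟨(y : G) * x * (y : G)⁻¹ * (x : G)⁻¹, hcomm x (hB2A x.2)⟩
    have hf : Function.Injective f := fun u v huv => by
      have h1 : (y : G) * u * (y : G)⁻¹ * (u : G)⁻¹ = (y : G) * v * (y : G)⁻¹ * (v : G)⁻¹ :=
        congrArg Subtype.val huv
      have h2 : ((y : G) * v * (y : G)⁻¹)⁻¹ * ((y : G) * u * (y : G)⁻¹) = (v : G)⁻¹ * u := by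
        calc _ = ((y : G) * v * (y : G)⁻¹)⁻¹ * ((y : G) * u * (y : G)⁻¹ * (u : G)⁻¹) * u := by group
          _ = _ := by rw [h1]; group
      have h3 : (v : G)⁻¹ * u ∈ B.2 := mul_mem (inv_mem v.2) u.2
      have h4 : (v : G)⁻¹ * u ∈ B.1 := cross C T hbig hB hB'' (Ne.symm e) (by
        rw [← h2]
        exact mul_mem (inv_mem (mem_map_of_mem _ v.2)) (mem_map_of_mem _ u.2))
      exact Subtype.ext (inv_mul_eq_one.1
        ((Subgroup.eq_bot_iff_forall _).1 (T.compl B hB).2.1 _ ⟨h4, h3⟩)).symm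
    have := Nat.card_le_card_of_injective f hf
    rw [(T.compl B hB).2.2.1, hRcard] at this
    omega
  -- some block contains `R`
  obtain ⟨B, hB, hBR⟩ : ∃ B ∈ ℬ, R ≤ B.2 := by
    by_contra! hno
    obtain ⟨p, hp, hp1⟩ := (Subgroup.bot_or_exists_ne_one R).resolve_left fun e => by
      rw [e, card_bot] at hRcard
      omega
    have hcent : ∀ B ∈ ℬ, B.2 ≤ centralizer ({(y : G)} : Set G) := fun B hB x hx => by
      rw [mem_centralizer_singleton_iff]
      by_contra hne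
      have hm : (y : G) * x * (y : G)⁻¹ * x⁻¹ ∈ B.2 := mul_mem (hfix B hB x hx) (inv_mem hx)
      have hm1 : (y : G) * x * (y : G)⁻¹ * x⁻¹ ≠ 1 := fun e => hne (by
        rw [mul_inv_eq_one, mul_inv_eq_iff_eq_mul] at e
        exact e.symm)
      refine hno B hB fun r hr => ?_
      by_cases hr1 : r = 1
      · exact hr1 ▸ one_mem _
      · obtain ⟨k, hk⟩ := htrR _ (hcomm x ((block_le C T hB).2 hx)) r hr hm1 hr1
        rw [← hk]
        have hyk : ∀ k : ℕ, ∀ w ∈ B.2, (y : G) ^ k * w * ((y : G) ^ k)⁻¹ ∈ B.2 := fun k => by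
          induction k with
          | zero => intro w hw; simpa using hw
          | succ k ih =>
            intro w hw
            have := ih _ (hfix B hB w hw)
            rw [pow_succ]
            simpa [mul_assoc] using this
        exact hyk k _ hm
    have hAc : A ≤ centralizer ({(y : G)} : Set G) := by
      obtain ⟨B, hB⟩ := T.nonempty
      rw [← (T.compl B hB).1, ← coBlock_eq C T hbig hB]
      refine sup_le (iSup₂_le fun R' hR' => ?_) (hcent B hB)
      obtain ⟨⟨B', hB', rfl⟩, -⟩ := hR'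
      exact hcent B' hB'
    have hone : ∀ r ∈ R, r ≠ 1 → r = p := fun r hr hr1 => by
      obtain ⟨k, hk⟩ := htrR p hp r hr hp1 hr1
      rw [← hk]
      refine mul_inv_eq_iff_eq_mul.2 ?_
      exact ((show Commute p (y : G) from mem_centralizer_singleton_iff.1 (hAc (hRA hp))).pow_right k).symm.eq
    have h5 : Nat.card ↥R ≤ Nat.card ↥(zpowers p) := card_le_of_le fun r hr => by
      by_cases hr1 : r = 1
      · exact hr1 ▸ one_mem _
      · exact hone r hr hr1 ▸ mem_zpowers p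
    rw [hRcard, Nat.card_zpowers, orderOf_eq_prime (p := 2) (by rw [pow_two]; exact C.sq (hRA hp)) hp1]
      at h5
    omega
  refine ⟨B, hB, ?_⟩
  rw [← coBlock_eq C T hbig hB]
  refine iSup₂_le fun R' hR' => ?_
  obtain ⟨⟨B', hB', rfl⟩, hne⟩ := hR'
  intro x hx
  have hxA := (block_le C T hB').2 hx
  obtain ⟨p, hp, c, hc, hpc⟩ := hdec x hxA
  have hm : (y : G) * x * (y : G)⁻¹ * x⁻¹ ∈ B'.2 := mul_mem (hfix B' hB' x hx) (inv_mem hx)
  have hm1 : (y : G) * x * (y : G)⁻¹ * x⁻¹ = 1 :=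
    (Subgroup.eq_bot_iff_forall _).1 (T.compl B' hB').2.1 _
      ⟨cross C T hbig hB' hB (fun e => hne (by rw [e]; rfl)) (hBR (hcomm x hxA)), hm⟩
  have hyp : (y : G) * p * (y : G)⁻¹ = p := by
    rw [mul_inv_eq_one, ← hpc, show (y : G) * (p * c) * (y : G)⁻¹ =
      (y : G) * p * (y : G)⁻¹ * ((y : G) * c * (y : G)⁻¹) by group, hyF c hc] at hm1
    exact mul_right_cancel hm1
  have hp1 : p = 1 := by
    by_contra hp1
    obtain ⟨p', hp', hp'1, hp'p⟩ : ∃ p' ∈ R, p' ≠ 1 ∧ p' ≠ p := by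
      by_contra! hall
      have h5 : Nat.card ↥R ≤ Nat.card ↥(zpowers p) := card_le_of_le fun r hr => by
        by_cases hr1 : r = 1
        · exact hr1 ▸ one_mem _
        · exact hall r hr hr1 ▸ mem_zpowers p
      rw [hRcard, Nat.card_zpowers, orderOf_eq_prime (p := 2) (by rw [pow_two]; exact C.sq (hRA hp)) hp1]
        at h5
      omega
    obtain ⟨k, hk⟩ := htrR p hp p' hp' hp1 hp'1
    refine hp'p (hk.symm.trans (mul_inv_eq_iff_eq_mul.2 ?_))
    exact ((show Commute (y : G) p from mul_inv_eq_iff_eq_mul.1 hyp).pow_left k).eq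
  rw [← hpc, hp1, one_mul]
  exact hc

/-- The frame. -/
theorem frame (hloc : LocalsHold A) (hsc : SimpleComps A) :
    ∃ (k : ℕ) (Ps : Set (Subgroup G)), Frame A k Ps := by
  obtain ⟨a₀, K₀, hK₀⟩ := top_exists C T
  obtain ⟨e, he, hqe⟩ := hK₀.exists_pow
  obtain ⟨k, hk⟩ : ∃ k, (k = 1 ∧
      ∀ (a : G) (K : Subgroup (Bar a)) (r : ℕ), MovedAt A a K r →
        r = q ∧ RankFacts (↥K ⧸ Subgroup.center ↥K) r) ∨
      (k = e + 1 ∧ ∀ (a : G) (K : Subgroup (Bar a)), MovedAt A a K q →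
        SmallFacts (↥K ⧸ Subgroup.center ↥K) q) := by
    rcases top_kind C T hbig hloc hsc with hR | hS
    · refine ⟨1, Or.inl ⟨rfl, fun a K r hK => ?_⟩⟩
      have hrq : r = q := by
        refine (T.top a K r hK).eq_or_lt.resolve_right fun hlt => ?_
        obtain ⟨-, -, b, M, hM, hMs⟩ := lower C T hbig hK hlt
        exact hMs.not_borelCent (hR b M hM).borelCent
      subst hrq
      exact ⟨rfl, hR a K hK⟩
    · exact ⟨e + 1, Or.inr ⟨rfl, hS⟩⟩
  have hq4 := four_le_top C T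
  -- the bound on `k`
  have hk1 : 1 ≤ k ∧ (k = 1 ∨ 2 ^ k = 2 * q) ∧ 2 ^ (k + 1) ≤ q * q := by
    rcases hk with ⟨rfl, -⟩ | ⟨rfl, -⟩
    · refine ⟨le_rfl, Or.inl rfl, le_trans (by norm_num) (Nat.mul_le_mul hq4 hq4)⟩
    · refine ⟨by omega, Or.inr (by rw [hqe, pow_succ']), ?_⟩
      rw [hqe, ← pow_add]
      exact Nat.pow_le_pow_right two_pos (by omega)
  have hco := fun B (hB : B ∈ ℬ) => coBlock_eq C T hbig hB
  refine ⟨k, Prod.snd '' ℬ, ?_⟩
  refine
    { pos := hk1.1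
      card := ?_
      le := ?_
      sup := ?_
      indep := ?_
      three := ?_
      big := ?_
      same := ?_
      four := ?_
      small := ?_
      conj := ?_
      everywhere := ?_
      kind := ?_ }
  · obtain ⟨B, hB⟩ := T.nonempty
    rw [card_eq_mul C T hB, pow_succ]
    exact Nat.mul_le_mul (hk1.2.2.trans (sq_le_card C T hbig hB)) (by omega)
  · rintro _ ⟨B, hB, rfl⟩
    exact ⟨(block_le C T hB).2, part_ne_bot C T hB⟩
  · rintro _ ⟨B, hB, rfl⟩
    rw [hco B hB, sup_comm]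
    exact (T.compl B hB).1
  · rintro _ ⟨B, hB, rfl⟩
    rw [hco B hB, inf_comm]
    exact (T.compl B hB).2.1
  · intro _
    obtain ⟨B, hB⟩ := T.nonempty
    obtain ⟨B', hB', B'', hB'', h1, h2, h3⟩ := two_others C T hbig hB
    rw [Set.InjOn.ncard_image fun X hX Y hY h => snd_inj C T hbig hX hY h]
    have hsub : ({B, B', B''} : Set (Subgroup G × Subgroup G)) ⊆ ℬ := by
      rintro X (rfl | rfl | rfl) <;> assumption
    refine le_trans (le_of_eq ?_) (Set.ncard_le_ncard hsub (Set.toFinite _))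
    rw [Set.ncard_insert_of_notMem (by simp [h1.symm, h2.symm]) (Set.toFinite _),
      Set.ncard_pair h3]
  · rintro _ ⟨B, hB, rfl⟩
    rw [hco B hB]
    exact hk1.2.2.trans (sq_le_card C T hbig hB)
  · rintro _ ⟨B, hB, rfl⟩ _ ⟨B', hB', rfl⟩
    rw [(T.compl B hB).2.2.1, (T.compl B' hB').2.2.1]
  · rintro _ ⟨B, hB, rfl⟩
    rw [(T.compl B hB).2.2.1]
    exact hq4
  · rintro _ ⟨B, hB, rfl⟩
    rw [(T.compl B hB).2.2.1]
    exact hk1.2.1
  · rintro _ ⟨B, hB, rfl⟩ g hg
    exact ⟨_, T.conj B hB g hg, rfl⟩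
  · rintro _ ⟨B, hB, rfl⟩ f hf hf1
    rw [hco B hB] at hf ⊢
    obtain ⟨M, hM, hMf, hMp⟩ := T.everywhere B hB f hf hf1
    rw [(T.compl B hB).2.2.1]
    refine ⟨M, hM, hMf, hMp, ?_⟩
    rcases hk with ⟨rfl, -⟩ | ⟨-, hS⟩
    · exact Or.inl rfl
    · exact Or.inr (hS f M hM)
  · intro a K r hK
    refine ⟨hsc a K r hK, ?_⟩
    have hP : ∃ B ∈ ℬ, B.1 ≤ fixerAt A a K := by
      rcases (T.top a K r hK).eq_or_lt with h | h
      · subst h
        exact ⟨_, T.mem_of_top a K hK, le_rfl⟩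
      · obtain ⟨h4, h8, -⟩ := lower C T hbig hK h
        subst h4
        exact cofix C T hbig hK h8
    obtain ⟨B, hB, hBle⟩ := hP
    refine ⟨?_, (hk1.2.2.trans (sq_le_card C T hbig hB)).trans (card_le_of_le hBle),
      B.2, ⟨B, hB, rfl⟩, (hco B hB).le.trans hBle⟩
    rcases hk with ⟨-, hR⟩ | ⟨rfl, -⟩
    · exact Or.inl (hR a K r hK).2
    · exact Or.inr ((T.top a K r hK).trans_lt (by
        rw [hqe]
        exact Nat.pow_lt_pow_right (by norm_num) (Nat.lt_succ_self e)))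

end Ctx

/-- Either a frame exists or the exceptional configuration occurs. -/
theorem makeFrameTarget (hT : TopBlocksTarget.{u}) : MakeFrameTarget.{u} := by
  intro G _ _ S A C hloc hsc hA
  haveI : Fact (Nat.Prime 2) := ⟨Nat.prime_two⟩
  by_cases hmov : ∃ (a : G) (K : Subgroup (Bar a)) (r : ℕ), MovedAt A a K r
  swap
  · refine Or.inl ⟨1, ∅, ?_⟩
    exact
      { pos := le_rfl
        card := hA
        le := fun P hP => absurd hP (Set.notMem_empty P)
        sup := fun P hP => absurd hP (Set.notMem_empty P)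
        indep := fun P hP => absurd hP (Set.notMem_empty P)
        three := fun h => absurd h Set.not_nonempty_empty
        big := fun P hP => absurd hP (Set.notMem_empty P)
        same := fun P hP => absurd hP (Set.notMem_empty P)
        four := fun P hP => absurd hP (Set.notMem_empty P)
        small := fun P hP => absurd hP (Set.notMem_empty P)
        conj := fun P hP => absurd hP (Set.notMem_empty P)
        everywhere := fun P hP => absurd hP (Set.notMem_empty P)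
        kind := fun a K r hK => absurd ⟨a, K, r, hK⟩ hmov }
  obtain ⟨q, ℬ, T⟩ := hT G S A C hloc hsc hmov
  obtain ⟨B₀, hB₀⟩ := T.nonempty
  obtain ⟨a₀, K₀, hK₀⟩ := Ctx.top_exists C T
  obtain ⟨e, he, hqe⟩ := hK₀.exists_pow
  obtain ⟨d, hd⟩ := IsPGroup.iff_card.1 (C.two.to_le (Ctx.block_le C T hB₀).1)
  by_cases hbig : q < Nat.card ↥B₀.1
  · exact Or.inl (Ctx.frame C T (fun B hB => Ctx.block_card C T hB hB₀ ▸ hbig) hloc hsc)
  have hde : d ≤ e := by
    rw [hd, hqe, not_lt] at hbig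
    exact (Nat.pow_le_pow_iff_right (by norm_num)).1 hbig
  have hd0 : d ≠ 0 := fun h0 => (T.compl B₀ hB₀).2.2.2 (Subgroup.eq_bot_of_card_eq _ (by
    rw [hd, h0, pow_zero]))
  by_cases hd1 : d = 1
  · subst hd1
    obtain ⟨rfl, h8, hS⟩ := Ctx.of_card_two C T hA hB₀ hd
    exact Or.inr ⟨h8, ⟨ℬ, T⟩, hS⟩
  · exact (Ctx.not_small_fixers C T (d := d) (by omega) hde hqe fun B hB =>
      (Ctx.block_card C T hB hB₀).trans hd).elim

end Cfsg.Agent.Goldschmidt.General
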