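import Cfsg.Agent.Lib.Goldschmidt.General.Targets
import Cfsg.Agent.Lib.Goldschmidt.Linear
import Mathlib.Combinatorics.SimpleGraph.DegreeSum

/-!
# Goldschmidt's theorem, general case: no block systems with small fixers (`SmallBlocksTarget`)

A simpler argument than the sketch in `GENERAL.md`. After replacing the system by one orbit, another block is
either a graph over `C` (the translates under `y` cover all mixed points) or lies in `P`. If there are no graphs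
there are only two blocks and a subgroup of index two; if none lies in `P`, then `P` is invariant. So the blocks
partition the non-trivial elements and "`C' ≤ P(C)`" is symmetric: a graph with an odd number of vertices and all
degrees odd.
-/

set_option autoImplicit false
set_option linter.unusedSectionVars false
set_option linter.style.haveILetI false

namespace Cfsg.Agent.Goldschmidt.General

open Subgroup

universe u

namespace SmallBlocks

variable {V : Type u} [Group V] [Finite V]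

/-- A block system: `C` determines `P C` and the element `y C` regular on it. -/
structure Sys (N : Subgroup (MulAut V)) (d e : ℕ) (𝒞 : Set (Subgroup V)) (P : Subgroup V → Subgroup V)
    (y : Subgroup V → MulAut V) : Prop where
  sq : ∀ x : V, x * x = 1
  two_le : 2 ≤ d
  le : d ≤ e
  card_C : ∀ C ∈ 𝒞, Nat.card ↥C = 2 ^ d
  card_P : ∀ C ∈ 𝒞, Nat.card ↥(P C) = 2 ^ e
  sup : ∀ C ∈ 𝒞, C ⊔ P C = ⊤
  inf : ∀ C ∈ 𝒞, C ⊓ P C = ⊥
  map_mem : ∀ C ∈ 𝒞, ∀ g ∈ N, C.map g.toMonoidHom ∈ 𝒞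
  map_P : ∀ C ∈ 𝒞, ∀ g ∈ N, P (C.map g.toMonoidHom) = (P C).map g.toMonoidHom
  meet : ∀ C ∈ 𝒞, ∀ C' ∈ 𝒞, C ≠ C' → C ⊓ C' = ⊥
  y_mem : ∀ C ∈ 𝒞, y C ∈ N
  y_fix : ∀ C ∈ 𝒞, ∀ c ∈ C, y C c = c
  y_inv : ∀ C ∈ 𝒞, ∀ p ∈ P C, y C p ∈ P C
  y_trans : ∀ C ∈ 𝒞, ∀ x ∈ P C, ∀ z ∈ P C, x ≠ 1 → z ≠ 1 → ∃ k : ℕ, (y C ^ k) x = z

variable {N : Subgroup (MulAut V)} {d e : ℕ} {𝒞 : Set (Subgroup V)} {P : Subgroup V → Subgroup V}
  {y : Subgroup V → MulAut V}

theorem finite_mulAut : Finite (MulAut V) :=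
  Finite.of_injective (fun g : MulAut V => (g : V → V)) DFunLike.coe_injective

theorem map_mul_map (g g' : MulAut V) (C : Subgroup V) :
    C.map (g * g').toMonoidHom = (C.map g'.toMonoidHom).map g.toMonoidHom := by
  rw [Subgroup.map_map]
  rfl

theorem map_one_map (C : Subgroup V) : C.map (1 : MulAut V).toMonoidHom = C := by
  ext x
  exact ⟨fun ⟨z, hz, e⟩ => e ▸ hz, fun hx => ⟨x, hx, rfl⟩⟩

theorem map_inj {g : MulAut V} {A B : Subgroup V} (h : A.map g.toMonoidHom = B.map g.toMonoidHom) : A = B :=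
  Subgroup.map_injective g.injective h

namespace Sys

theorem comm (S : Sys N d e 𝒞 P y) (a b : V) : a * b = b * a := Linear.comm_of_sq S.sq a b

theorem inv_eq (S : Sys N d e 𝒞 P y) (a : V) : a⁻¹ = a := inv_eq_of_mul_eq_one_right (S.sq a)

variable {C C' : Subgroup V}

theorem eq_of_mem (S : Sys N d e 𝒞 P y) (hC : C ∈ 𝒞) (hC' : C' ∈ 𝒞) {x : V} (hx : x ∈ C) (hx' : x ∈ C')
    (h1 : x ≠ 1) : C = C' := by
  by_contra hne
  have : x ∈ C ⊓ C' := ⟨hx, hx'⟩
  rw [S.meet C hC C' hC' hne, mem_bot] at this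
  exact h1 this

theorem eq_one_of_mem (S : Sys N d e 𝒞 P y) (hC : C ∈ 𝒞) {x : V} (hx : x ∈ C) (hx' : x ∈ P C) : x = 1 := by
  have : x ∈ C ⊓ P C := ⟨hx, hx'⟩
  rwa [S.inf C hC, mem_bot] at this

theorem exists_mul (S : Sys N d e 𝒞 P y) (hC : C ∈ 𝒞) (x : V) : ∃ c ∈ C, ∃ p ∈ P C, x = c * p := by
  have hle : P C ≤ normalizer (C : Set V) := fun g _ => Coprime.mem_normalizer_of_forall fun c hc => by
    rwa [S.comm g c, mul_inv_cancel_right]
  obtain ⟨c, hc, p, hp, e⟩ := (Coprime.mem_sup_iff hle).1 (S.sup C hC ▸ mem_top x)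
  exact ⟨c, hc, p, hp, e.symm⟩

theorem mul_inj (S : Sys N d e 𝒞 P y) (hC : C ∈ 𝒞) {c c' p p' : V} (hc : c ∈ C) (hc' : c' ∈ C)
    (hp : p ∈ P C) (hp' : p' ∈ P C) (h : c * p = c' * p') : c = c' ∧ p = p' := by
  have e1 : c'⁻¹ * c = p' * p⁻¹ := by
    rw [eq_mul_inv_iff_mul_eq, mul_assoc, h, inv_mul_cancel_left]
  have e2 : c'⁻¹ * c = 1 :=
    S.eq_one_of_mem hC (mul_mem (inv_mem hc') hc) (e1 ▸ mul_mem hp' (inv_mem hp))
  obtain rfl : c' = c := inv_mul_eq_one.1 e2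
  exact ⟨rfl, mul_left_cancel h⟩

theorem card_univ (S : Sys N d e 𝒞 P y) (hC : C ∈ 𝒞) : Nat.card V = 2 ^ (d + e) := by
  rw [pow_add, ← S.card_C C hC, ← S.card_P C hC, ← Nat.card_prod]
  refine (Nat.card_congr (Equiv.ofBijective (fun z : C × P C => (z.1 : V) * z.2) ⟨?_, fun x => ?_⟩)).symm
  · rintro ⟨⟨c, hc⟩, p, hp⟩ ⟨⟨c', hc'⟩, p', hp'⟩ h
    obtain ⟨rfl, rfl⟩ := S.mul_inj hC hc hc' hp hp' h
    rfl
  · obtain ⟨c, hc, p, hp, rfl⟩ := S.exists_mul hC x
    exact ⟨(⟨c, hc⟩, ⟨p, hp⟩), rfl⟩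

theorem ne_bot_P (S : Sys N d e 𝒞 P y) (hC : C ∈ 𝒞) : P C ≠ ⊥ := fun h => by
  have h1 := S.card_P C hC
  rw [h, card_bot] at h1
  exact (Nat.one_lt_pow (by have := S.two_le; have := S.le; omega) one_lt_two).ne h1

theorem ne_bot_C (S : Sys N d e 𝒞 P y) (hC : C ∈ 𝒞) : C ≠ ⊥ := fun h => by
  have h1 := S.card_C C hC
  rw [h, card_bot] at h1
  exact (Nat.one_lt_pow (by have := S.two_le; omega) one_lt_two).ne h1

/-! ### The cyclic group of a block -/

theorem zpow_mem_N (S : Sys N d e 𝒞 P y) (hC : C ∈ 𝒞) {g : MulAut V} (hg : g ∈ zpowers (y C)) : g ∈ N :=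
  zpowers_le.2 (S.y_mem C hC) hg

theorem fix_C (S : Sys N d e 𝒞 P y) (hC : C ∈ 𝒞) {g : MulAut V} (hg : g ∈ zpowers (y C)) {c : V}
    (hc : c ∈ C) : g c = c := by
  obtain ⟨k, rfl⟩ := hg
  exact Linear.zpow_fix (S.y_fix C hC c hc) k

theorem inv_P (S : Sys N d e 𝒞 P y) (hC : C ∈ 𝒞) {g : MulAut V} (hg : g ∈ zpowers (y C)) {p : V}
    (hp : p ∈ P C) : g p ∈ P C := by
  haveI := finite_mulAut (V := V)
  obtain ⟨k, rfl⟩ := mem_powers_iff_mem_zpowers.2 hg
  clear hg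
  show (y C ^ k) p ∈ P C
  induction k with
  | zero => exact hp
  | succ k ih => rw [pow_succ', MulAut.mul_apply]; exact S.y_inv C hC _ ih

theorem exists_zpow (S : Sys N d e 𝒞 P y) (hC : C ∈ 𝒞) {p q : V} (hp : p ∈ P C) (hq : q ∈ P C) (hp1 : p ≠ 1)
    (hq1 : q ≠ 1) : ∃ g ∈ zpowers (y C), g p = q := by
  obtain ⟨k, hk⟩ := S.y_trans C hC p hp q hq hp1 hq1
  exact ⟨_, pow_mem (mem_zpowers _) k, hk⟩

theorem free (S : Sys N d e 𝒞 P y) (hC : C ∈ 𝒞) {g : MulAut V} (hg : g ∈ zpowers (y C)) {p : V}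
    (hp : p ∈ P C) (hp1 : p ≠ 1) (hgp : g p = p) : g = 1 := by
  refine MulEquiv.ext fun x => ?_
  obtain ⟨c, hc, q, hq, rfl⟩ := S.exists_mul hC x
  show g (c * q) = c * q
  rw [map_mul, S.fix_C hC hg hc]
  by_cases hq1 : q = 1
  · rw [hq1, map_one]
  obtain ⟨k, hk, hkp⟩ := S.exists_zpow hC hp hq hp1 hq1
  obtain ⟨i, rfl⟩ := hg
  obtain ⟨j, rfl⟩ := hk
  rw [← hkp]
  show c * ((y C ^ i) * (y C ^ j)) p = _
  rw [(Commute.zpow_zpow_self (y C) i j).eq, MulAut.mul_apply, show (y C ^ i) p = p from hgp]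

theorem odd_orderOf (S : Sys N d e 𝒞 P y) (hC : C ∈ 𝒞) {g : MulAut V} (hg : g ∈ zpowers (y C)) :
    Odd (orderOf g) := by
  classical
  haveI := finite_mulAut (V := V)
  obtain ⟨p, hp, hp1⟩ := (Subgroup.bot_or_exists_ne_one (P C)).resolve_left (S.ne_bot_P hC)
  have h1 : Nat.card (zpowers (y C)) = Nat.card {q : P C // q ≠ 1} := by
    refine Nat.card_congr (Equiv.ofBijective
      (fun g => ⟨⟨(g : MulAut V) p, S.inv_P hC g.2 hp⟩, fun e => hp1 ?_⟩) ⟨?_, ?_⟩)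
    · exact (g : MulAut V).injective ((congrArg Subtype.val e).trans (map_one _).symm)
    · intro a b hab
      have e' : (a : MulAut V) p = (b : MulAut V) p :=
        congrArg (fun z : {q : P C // q ≠ 1} => (z.1 : V)) hab
      exact Subtype.ext (inv_mul_eq_one.1 (S.free hC (mul_mem (inv_mem b.2) a.2) hp hp1
        (by rw [MulAut.mul_apply, e']; simp))).symm
    · rintro ⟨⟨q, hq⟩, hq1⟩
      obtain ⟨g, hg, hgq⟩ := S.exists_zpow hC hp hq hp1 fun e => hq1 (Subtype.ext e)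
      exact ⟨⟨g, hg⟩, Subtype.ext (Subtype.ext hgq)⟩
  have h2 : Nat.card {q : P C // q ≠ 1} + 1 = 2 ^ e := by
    rw [← Finite.card_option, Nat.card_congr (Equiv.optionSubtypeNe (1 : P C)), S.card_P C hC]
  have h3 : Odd (Nat.card (zpowers (y C))) := by
    rw [h1, Nat.odd_iff]
    have : 2 ∣ 2 ^ e := dvd_pow_self 2 (by have := S.two_le; have := S.le; omega)
    omega
  exact h3.of_dvd_nat (orderOf_dvd_natCard _ hg)

/-- Another block lies in `P C` or meets it trivially. -/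
theorem le_or_inf_eq_bot (S : Sys N d e 𝒞 P y) (hC : C ∈ 𝒞) (hC' : C' ∈ 𝒞) (hne : C' ≠ C) :
    C' ≤ P C ∨ C' ⊓ P C = ⊥ := by
  by_contra hno
  push Not at hno
  obtain ⟨x, hx, hxP⟩ := SetLike.not_le_iff_exists.1 hno.1
  obtain ⟨u, hu, hu1⟩ := (Subgroup.bot_or_exists_ne_one _).resolve_left hno.2
  obtain ⟨hu', huP⟩ := mem_inf.1 hu
  obtain ⟨c, hc, p, hp, rfl⟩ := S.exists_mul hC x
  have hc1 : c ≠ 1 := fun e => hxP (by rw [e, one_mul]; exact hp)
  have hp1 : p ≠ 1 := fun e => by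
    rw [e, mul_one] at hx
    exact hne (S.eq_of_mem hC hC' hc hx hc1).symm
  have hpu : p * u ≠ 1 := fun e => by
    have e' : c * p * u = c := by rw [mul_assoc, e, mul_one]
    exact hne (S.eq_of_mem hC hC' hc (e' ▸ mul_mem hx hu') hc1).symm
  obtain ⟨g, hg, hgp⟩ := S.exists_zpow hC hp (mul_mem hp huP) hp1 hpu
  have hgx : g (c * p) = c * p * u := by rw [map_mul, S.fix_C hC hg hc, hgp, mul_assoc]
  have hgC' : C'.map g.toMonoidHom = C' := (S.eq_of_mem hC' (S.map_mem C' hC' g (S.zpow_mem_N hC hg))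
    (mul_mem hx hu') ⟨c * p, hx, hgx⟩ (by rw [← hgx]; exact fun e => hxP (by
      rw [← map_one g] at e
      rw [g.injective e]; exact one_mem _))).symm
  -- the product of the orbit of `p` is fixed by `g`
  letI : CommGroup V := { (inferInstance : Group V) with mul_comm := S.comm }
  have hi : ∀ i : ℕ, (g ^ i) p * p ∈ C' ∧ (g ^ i) p ∈ P C := by
    intro i
    induction i with
    | zero => simp [S.sq, hp]
    | succ i ih =>
      have h1 : g ((g ^ i) p * p) ∈ C' := hgC'.le ⟨_, ih.1, rfl⟩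
      rw [pow_succ', MulAut.mul_apply]
      refine ⟨?_, S.inv_P hC hg ih.2⟩
      have h2 := mul_mem h1 hu'
      rw [map_mul, hgp] at h2
      convert h2 using 1
      rw [mul_assoc, mul_assoc p u u, S.sq, mul_one]
  set m := orderOf g
  set π := ∏ i ∈ Finset.range m, (g ^ i) p with hπ
  have hπfix : g π = π := by
    have h1 : g π = ∏ i ∈ Finset.range m, (g ^ (i + 1)) p := by
      rw [hπ, map_prod]
      exact Finset.prod_congr rfl fun i _ => by rw [pow_succ', MulAut.mul_apply]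
    have h2 := Finset.prod_range_succ' (fun i => (g ^ i) p) m
    rw [Finset.prod_range_succ, pow_orderOf_eq_one, pow_zero] at h2
    rw [h1]
    exact (mul_right_cancel h2).symm
  have hπP : π ∈ P C := Subgroup.prod_mem _ fun i _ => (hi i).2
  have hπp : π * p ∈ C' := by
    have h1 : ∏ i ∈ Finset.range m, ((g ^ i) p * p) ∈ C' := Subgroup.prod_mem _ fun i _ => (hi i).1
    rw [Finset.prod_mul_distrib, Finset.prod_const, Finset.card_range] at h1
    obtain ⟨j, hj⟩ := S.odd_orderOf hC hg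
    have hpm : p ^ m = p := by
      rw [show m = 2 * j + 1 from hj, pow_succ, pow_mul, pow_two, S.sq, one_pow, one_mul]
    rwa [hpm] at h1
  by_cases hπ1 : π = 1
  · rw [hπ1, one_mul] at hπp
    have e' : c * p * p = c := by rw [mul_assoc, S.sq, mul_one]
    exact hne (S.eq_of_mem hC hC' hc (e' ▸ mul_mem hx hπp) hc1).symm
  · have hg1 : g = 1 := S.free hC hg hπP hπ1 hπfix
    rw [hg1, MulAut.one_apply] at hgp
    exact hu1 (left_eq_mul.1 hgp)

/-- The translates of a graph cover the mixed points. -/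
theorem exists_translate (S : Sys N d e 𝒞 P y) (hC : C ∈ 𝒞) (hC' : C' ∈ 𝒞) (hne : C' ≠ C)
    (hb : C' ⊓ P C = ⊥) {c p : V} (hc : c ∈ C) (hp : p ∈ P C) (hc1 : c ≠ 1) (hp1 : p ≠ 1) :
    ∃ g ∈ zpowers (y C), c * p ∈ C'.map g.toMonoidHom := by
  classical
  have hd : ∀ x : C', ∃ c : C, ∃ q ∈ P C, (x : V) = c * q := fun x => by
    obtain ⟨c, hc, q, hq, e⟩ := S.exists_mul hC x
    exact ⟨⟨c, hc⟩, q, hq, e⟩
  choose f q hq he using hd
  have hinj : Function.Injective f := fun a b hab => by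
    have h1 : (a : V)⁻¹ * b ∈ C' ⊓ P C := by
      refine mem_inf.2 ⟨mul_mem (inv_mem a.2) b.2, ?_⟩
      rw [he a, he b, hab]
      rw [show ((f b : V) * q a)⁻¹ * ((f b : V) * q b) = (q a)⁻¹ * q b by group]
      exact mul_mem (inv_mem (hq a)) (hq b)
    rw [hb, mem_bot, inv_mul_eq_one] at h1
    exact Subtype.ext h1
  obtain ⟨-, hsurj⟩ := (Nat.bijective_iff_injective_and_card f).2
    ⟨hinj, (S.card_C C' hC').trans (S.card_C C hC).symm⟩
  obtain ⟨x, hx⟩ := hsurj ⟨c, hc⟩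
  have hxe : (x : V) = c * q x := by rw [he x, hx]
  have hq1 : q x ≠ 1 := fun e0 => hne (S.eq_of_mem hC hC' hc (by
    rw [e0, mul_one] at hxe
    exact hxe ▸ x.2) hc1).symm
  obtain ⟨g, hg, hgq⟩ := S.exists_zpow hC (hq x) hp hq1 hp1
  refine ⟨g, hg, x, x.2, ?_⟩
  show g (x : V) = _
  rw [hxe, map_mul, S.fix_C hC hg hc, hgq]

/-- A block in `P C` makes every point of `P C` lie in one. -/
theorem exists_cover (S : Sys N d e 𝒞 P y) (hC : C ∈ 𝒞) (hC' : C' ∈ 𝒞) (hle : C' ≤ P C) {p : V}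
    (hp : p ∈ P C) (hp1 : p ≠ 1) : ∃ g ∈ zpowers (y C), p ∈ C'.map g.toMonoidHom ∧ C'.map g.toMonoidHom ≤ P C := by
  obtain ⟨x, hx, hx1⟩ := (Subgroup.bot_or_exists_ne_one C').resolve_left (S.ne_bot_C hC')
  obtain ⟨g, hg, hgx⟩ := S.exists_zpow hC (hle hx) hp hx1 hp1
  refine ⟨g, hg, ⟨x, hx, hgx⟩, ?_⟩
  rintro _ ⟨z, hz, rfl⟩
  exact S.inv_P hC hg (hle hz)

/-- `C' ≤ P C` is symmetric. -/
theorem le_symm (S : Sys N d e 𝒞 P y) (hC : C ∈ 𝒞) (hC' : C' ∈ 𝒞) (hne : C' ≠ C) (hle : C' ≤ P C) :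
    C ≤ P C' := by
  rcases S.le_or_inf_eq_bot hC' hC hne.symm with h | h
  · exact h
  exfalso
  obtain ⟨a, ha, ha1⟩ := (Subgroup.bot_or_exists_ne_one C').resolve_left (S.ne_bot_C hC')
  obtain ⟨b, hb, hb1, hba⟩ : ∃ b ∈ C', b ≠ 1 ∧ b ≠ a := by
    by_contra hno
    push Not at hno
    have hle' : (C' : Set V) ⊆ {1, a} := fun z hz => by
      by_cases hz1 : z = 1
      · exact Or.inl hz1
      · exact Or.inr (hno z hz hz1)
    have h4 := Set.ncard_le_ncard hle'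
    rw [← Nat.card_coe_set_eq, SetLike.coe_sort_coe, S.card_C C' hC', Set.ncard_pair ha1.symm] at h4
    have : 2 ^ 2 ≤ 2 ^ d := Nat.pow_le_pow_right two_pos S.two_le
    omega
  obtain ⟨g, hg, hga⟩ := S.exists_zpow hC (hle ha) (hle hb) ha1 hb1
  have hgN := S.zpow_mem_N hC hg
  have hgC' : C'.map g.toMonoidHom = C' :=
    (S.eq_of_mem hC' (S.map_mem C' hC' g hgN) hb ⟨a, ha, hga⟩ hb1).symm
  have hgP' : (P C').map g.toMonoidHom = P C' := by rw [← S.map_P C' hC' g hgN, hgC']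
  -- `C` is a graph over `C'` fixed by `g`
  obtain ⟨p₀, hp₀, hp₀1⟩ := (Subgroup.bot_or_exists_ne_one (P C')).resolve_left (S.ne_bot_P hC')
  obtain ⟨k, hk, x, hx, hxe⟩ := S.exists_translate hC' hC hne.symm h ha hp₀ ha1 hp₀1
  obtain ⟨a', ha', p', hp', e'⟩ := S.exists_mul hC' x
  have hka : a' = a := by
    have h1 : k x = a' * k p' := by rw [e', map_mul, S.fix_C hC' hk ha']
    exact (S.mul_inj hC' ha' ha (S.inv_P hC' hk hp') hp₀ (h1.symm.trans hxe)).1
  subst hka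
  have hfix : g x = x := S.fix_C hC hg hx
  rw [e', map_mul, hga] at hfix
  exact hba (S.mul_inj hC' hb ha' (hgP'.le ⟨p', hp', rfl⟩) hp' hfix).1

end Sys

/-- Blocks partitioning the non-trivial elements of a subgroup are odd in number. -/
theorem odd_card_of_partition {A : Subgroup V} {S : Set (Subgroup V)} {k d : ℕ} (hk : k ≠ 0) (hd : d ≠ 0)
    (hA : Nat.card ↥A = 2 ^ k) (hS : ∀ C ∈ S, Nat.card ↥C = 2 ^ d ∧ C ≤ A)
    (hcov : ∀ x ∈ A, x ≠ 1 → ∃! C, C ∈ S ∧ x ∈ C) : Odd (Nat.card S) := by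
  classical
  haveI : Fintype S := Fintype.ofFinite _
  have e : Nat.card {x : A // x ≠ 1} = Nat.card (Σ C : S, {x : (C : Subgroup V) // x ≠ 1}) := by
    refine (Nat.card_congr (Equiv.ofBijective (fun z : Σ C : S, {x : (C : Subgroup V) // x ≠ 1} =>
      (⟨⟨z.2.1, (hS z.1 z.1.2).2 z.2.1.2⟩, fun e => z.2.2 (Subtype.ext (congrArg (fun w : A => (w : V)) e))⟩ :
        {x : A // x ≠ 1})) ⟨?_, ?_⟩)).symm
    · rintro ⟨⟨C, hC⟩, ⟨x, hx⟩, hx1⟩ ⟨⟨C', hC'⟩, ⟨x', hx'⟩, hx1'⟩ h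
      obtain rfl : x = x' := congrArg (fun z : {x : A // x ≠ 1} => (z.1 : V)) h
      obtain rfl : C = C' := (hcov x ((hS C hC).2 hx) fun e => hx1 (Subtype.ext e)).unique ⟨hC, hx⟩ ⟨hC', hx'⟩
      rfl
    · rintro ⟨⟨x, hx⟩, hx1⟩
      obtain ⟨C, ⟨hC, hxC⟩, -⟩ := hcov x hx fun e => hx1 (Subtype.ext e)
      exact ⟨⟨⟨C, hC⟩, ⟨⟨x, hxC⟩, fun e => hx1 (Subtype.ext (congrArg (fun w : C => (w : V)) e))⟩⟩, rfl⟩
  have hne : ∀ B : Subgroup V, Nat.card {x : B // x ≠ 1} = Nat.card ↥B - 1 := fun B => by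
    have : Nat.card {x : B // x ≠ 1} + 1 = Nat.card ↥B := by
      rw [← Finite.card_option, Nat.card_congr (Equiv.optionSubtypeNe (1 : B))]
    omega
  rw [hne A, hA, Nat.card_sigma, Finset.sum_congr rfl (fun C _ => by rw [hne, (hS C C.2).1]),
    Finset.sum_const, Finset.card_univ, smul_eq_mul, ← Nat.card_eq_fintype_card] at e
  have hodd : Odd (2 ^ k - 1) := by
    rw [Nat.odd_iff]
    have : 2 ∣ 2 ^ k := dvd_pow_self 2 hk
    have : 0 < 2 ^ k := pow_pos two_pos k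
    omega
  rw [e] at hodd
  exact (Nat.odd_mul.1 hodd).1

/-- A transitive block system does not exist. -/
theorem Sys.false_of_transitive (S : Sys N d e 𝒞 P y) (hN : ¬ ∃ H : Subgroup N, H.Normal ∧ H.index = 2)
    (hirr : ∀ W : Subgroup V, (∀ g ∈ N, ∀ w ∈ W, g w ∈ W) → W = ⊥ ∨ W = ⊤) {C₀ : Subgroup V}
    (hC₀ : C₀ ∈ 𝒞) (htr : ∀ C ∈ 𝒞, ∃ g ∈ N, C = C₀.map g.toMonoidHom) : False := by
  classical
  haveI := finite_mulAut (V := V)
  have hC₀top : C₀ ≠ ⊤ := fun h => S.ne_bot_P hC₀ (by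
    have := S.inf C₀ hC₀
    rw [h] at this ⊢
    rwa [top_inf_eq] at this)
  have back : ∀ {C : Subgroup V}, C ∈ 𝒞 → ∀ {g : MulAut V}, g ∈ N → C = C₀.map g.toMonoidHom →
      ∀ B ∈ 𝒞, ∃ B₀ ∈ 𝒞, B = B₀.map g.toMonoidHom := fun _ g hg _ B hB =>
    ⟨B.map g⁻¹.toMonoidHom, S.map_mem B hB _ (inv_mem hg), by
      rw [← map_mul_map, mul_inv_cancel, map_one_map]⟩
  by_cases hT : ∃ C' ∈ 𝒞, C' ≠ C₀ ∧ C' ⊓ P C₀ = ⊥
  · obtain ⟨T, hT, hTne, hTb⟩ := hT
    have hTall : ∀ C ∈ 𝒞, ∃ C' ∈ 𝒞, C' ≠ C ∧ C' ⊓ P C = ⊥ := by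
      intro C hC
      obtain ⟨g, hg, rfl⟩ := htr C hC
      refine ⟨_, S.map_mem T hT g hg, fun e => hTne (map_inj e), ?_⟩
      rw [S.map_P C₀ hC₀ g hg, ← map_inf_eq _ _ _ g.injective, hTb, Subgroup.map_bot]
    -- some block lies in `P C₀`
    obtain ⟨R, hR, hRle⟩ : ∃ R ∈ 𝒞, R ≤ P C₀ := by
      by_contra hno
      push Not at hno
      have hinv : ∀ g ∈ N, ∀ w ∈ P C₀, g w ∈ P C₀ := by
        intro g hg w hw
        by_contra hgw
        have hw1 : w ≠ 1 := fun e => hgw (by rw [e, map_one]; exact one_mem _)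
        obtain ⟨c, hc, p, hp, hcp⟩ := S.exists_mul hC₀ (g w)
        obtain ⟨B, hB, hwB⟩ : ∃ B ∈ 𝒞, g w ∈ B := by
          by_cases hp1 : p = 1
          · exact ⟨C₀, hC₀, by rw [hcp, hp1, mul_one]; exact hc⟩
          · have hc1 : c ≠ 1 := fun e => hgw (by rw [hcp, e, one_mul]; exact hp)
            obtain ⟨k, hk, h⟩ := S.exists_translate hC₀ hT hTne hTb hc hp hc1 hp1
            exact ⟨_, S.map_mem T hT k (S.zpow_mem_N hC₀ hk), hcp ▸ h⟩
        have hB' := S.map_mem B hB _ (inv_mem hg)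
        have hwB' : w ∈ B.map g⁻¹.toMonoidHom := ⟨g w, hwB, by simp⟩
        by_cases hBC : B.map g⁻¹.toMonoidHom = C₀
        · exact hw1 (S.eq_one_of_mem hC₀ (hBC ▸ hwB') hw)
        rcases S.le_or_inf_eq_bot hC₀ hB' hBC with h | h
        · exact hno _ hB' h
        · have : w ∈ B.map g⁻¹.toMonoidHom ⊓ P C₀ := ⟨hwB', hw⟩
          rw [h, mem_bot] at this
          exact hw1 this
      rcases hirr _ hinv with h | h
      · exact S.ne_bot_P hC₀ h
      · exact S.ne_bot_C hC₀ (by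
          have := S.inf C₀ hC₀
          rwa [h, inf_top_eq] at this)
    have hcovP : ∀ C ∈ 𝒞, ∀ x ∈ P C, x ≠ 1 → ∃ B ∈ 𝒞, B ≤ P C ∧ x ∈ B := by
      intro C hC x hx hx1
      obtain ⟨g, hg, rfl⟩ := htr C hC
      have hR' : R.map g.toMonoidHom ≤ P (C₀.map g.toMonoidHom) := by
        rw [S.map_P C₀ hC₀ g hg]; exact map_mono hRle
      obtain ⟨k, hk, h1, h2⟩ := S.exists_cover hC (S.map_mem R hR g hg) hR' hx hx1
      exact ⟨_, S.map_mem _ (S.map_mem R hR g hg) k (S.zpow_mem_N hC hk), h2, h1⟩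
    have hcov : ∀ x : V, x ≠ 1 → ∃ B ∈ 𝒞, x ∈ B := by
      intro x hx1
      obtain ⟨c, hc, p, hp, rfl⟩ := S.exists_mul hC₀ x
      by_cases hp1 : p = 1
      · exact ⟨C₀, hC₀, by rw [hp1, mul_one]; exact hc⟩
      by_cases hc1 : c = 1
      · obtain ⟨B, hB, -, h⟩ := hcovP C₀ hC₀ p hp hp1
        exact ⟨B, hB, by rwa [hc1, one_mul]⟩
      obtain ⟨k, hk, h⟩ := S.exists_translate hC₀ hT hTne hTb hc hp hc1 hp1
      exact ⟨_, S.map_mem T hT k (S.zpow_mem_N hC₀ hk), h⟩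
    have hd : d ≠ 0 := by have := S.two_le; omega
    have he : e ≠ 0 := by have := S.two_le; have := S.le; omega
    have ht : Odd (Nat.card 𝒞) := odd_card_of_partition (A := ⊤) (k := d + e) (by omega) hd
      (by rw [Subgroup.card_top, S.card_univ hC₀]) (fun C hC => ⟨S.card_C C hC, le_top⟩)
      fun x _ hx1 => by
        obtain ⟨B, hB, hxB⟩ := hcov x hx1
        exact ⟨B, ⟨hB, hxB⟩, fun B' hB' => S.eq_of_mem hB'.1 hB hB'.2 hxB hx1⟩
    -- the symmetric relation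
    let Γ : SimpleGraph 𝒞 :=
      { Adj := fun A B => A ≠ B ∧ (B : Subgroup V) ≤ P A
        symm := ⟨fun A B h => ⟨h.1.symm, S.le_symm A.2 B.2 (fun e => h.1 (Subtype.ext e).symm) h.2⟩⟩
        loopless := ⟨fun A h => h.1 rfl⟩ }
    haveI : Fintype 𝒞 := Fintype.ofFinite _
    have hdeg : ∀ A : 𝒞, Odd (Γ.degree A) := fun A => by
      rw [← SimpleGraph.card_neighborSet_eq_degree, ← Nat.card_eq_fintype_card]
      have hcard : Nat.card (Γ.neighborSet A) = Nat.card ↥{B | B ∈ 𝒞 ∧ B ≤ P A} := by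
        refine Nat.card_congr
          { toFun := fun B => ⟨(B.1 : Subgroup V), B.1.2, B.2.2⟩
            invFun := fun B => ⟨⟨B.1, B.2.1⟩, fun e => ?_, B.2.2⟩
            left_inv := fun B => rfl
            right_inv := fun B => rfl }
        have h1 : (A : Subgroup V) ≤ P A := (congrArg Subtype.val e).le.trans B.2.2
        refine S.ne_bot_C A.2 (le_bot_iff.1 ?_)
        rw [← S.inf A A.2]
        exact le_inf le_rfl h1
      rw [hcard]
      exact odd_card_of_partition he hd (S.card_P A A.2) (fun B hB => ⟨S.card_C B hB.1, hB.2⟩)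
        fun x hx hx1 => by
          obtain ⟨B, hB, hBle, hxB⟩ := hcovP A A.2 x hx hx1
          exact ⟨B, ⟨⟨hB, hBle⟩, hxB⟩, fun B' hB' => S.eq_of_mem hB'.1.1 hB hB'.2 hxB hx1⟩
    have heven := Γ.even_card_odd_degree_vertices
    rw [Finset.filter_true_of_mem (fun A _ => hdeg A), Finset.card_univ, ← Nat.card_eq_fintype_card] at heven
    exact Nat.not_even_iff_odd.2 ht heven
  · push Not at hT
    have hle : ∀ C ∈ 𝒞, ∀ B ∈ 𝒞, B ≠ C → B ≤ P C := by
      intro C hC B hB hne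
      refine (S.le_or_inf_eq_bot hC hB hne).resolve_right fun hb => ?_
      obtain ⟨g, hg, hCg⟩ := htr C hC
      obtain ⟨B₀, hB₀, rfl⟩ := back hC hg hCg B hB
      subst hCg
      refine hT B₀ hB₀ (fun e => hne (e ▸ rfl)) (map_inj (g := g) ?_)
      rw [Subgroup.map_bot, map_inf_eq _ _ _ g.injective, ← S.map_P C₀ hC₀ g hg, hb]
    obtain ⟨C₁, hC₁, hne₁⟩ : ∃ C₁ ∈ 𝒞, C₁ ≠ C₀ := by
      by_contra hno
      push Not at hno
      rcases hirr C₀ (fun g hg w hw => (hno _ (S.map_mem C₀ hC₀ g hg)).le ⟨w, hw, rfl⟩) with h | h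
      · exact S.ne_bot_C hC₀ h
      · exact hC₀top h
    have htwo : ∀ B ∈ 𝒞, B = C₀ ∨ B = C₁ := by
      intro B hB
      by_contra hno
      push Not at hno
      obtain ⟨a, ha, ha1⟩ := (Subgroup.bot_or_exists_ne_one C₁).resolve_left (S.ne_bot_C hC₁)
      obtain ⟨b, hb, hb1⟩ := (Subgroup.bot_or_exists_ne_one B).resolve_left (S.ne_bot_C hB)
      have hab : a * b ∈ P C₀ := mul_mem (hle C₀ hC₀ C₁ hC₁ hne₁ ha) (hle C₀ hC₀ B hB hno.1 hb)
      have hab1 : a * b ≠ 1 := fun e => hno.2 (S.eq_of_mem hB hC₁ hb (by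
        rw [eq_inv_of_mul_eq_one_right e]; exact inv_mem ha) hb1)
      obtain ⟨k, hk, hmem, -⟩ := S.exists_cover hC₀ hC₁ (hle C₀ hC₀ C₁ hC₁ hne₁) hab hab1
      set D := C₁.map k.toMonoidHom
      have hD := S.map_mem C₁ hC₁ k (S.zpow_mem_N hC₀ hk)
      have hD1 : D ≠ C₁ := fun e => hno.2 (S.eq_of_mem hB hC₁ hb (by
        have := mul_mem (inv_mem ha) (e ▸ hmem : a * b ∈ C₁)
        rwa [inv_mul_cancel_left] at this) hb1)
      have hDB : D ≠ B := fun e => hno.2 (S.eq_of_mem hC₁ hB ha (by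
        have := mul_mem (e ▸ hmem : a * b ∈ B) (inv_mem hb)
        rwa [mul_inv_cancel_right] at this) ha1).symm
      exact hab1 (S.eq_one_of_mem hD hmem
        (mul_mem (hle D hD C₁ hC₁ hD1.symm ha) (hle D hD B hB hDB.symm hb)))
    obtain ⟨a, ha, hCa⟩ := htr C₁ hC₁
    let H : Subgroup N :=
      { carrier := {g | C₀.map (g : MulAut V).toMonoidHom = C₀}
        one_mem' := map_one_map C₀
        mul_mem' := fun {g h} hg hh => by
          show C₀.map ((g : MulAut V) * (h : MulAut V)).toMonoidHom = C₀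
          rw [map_mul_map, hh, hg]
        inv_mem' := fun {g} hg => by
          show C₀.map ((g : MulAut V)⁻¹).toMonoidHom = C₀
          conv_lhs => rw [← hg]
          rw [← map_mul_map, inv_mul_cancel, map_one_map] }
    have hH : H.index = 2 := by
      rw [Subgroup.index_eq_two_iff]
      refine ⟨⟨a, ha⟩, fun b => ?_⟩
      have hba : C₀.map ((b * ⟨a, ha⟩ : N) : MulAut V).toMonoidHom = C₁.map (b : MulAut V).toMonoidHom := by
        show C₀.map ((b : MulAut V) * a).toMonoidHom = _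
        rw [map_mul_map, ← hCa]
      by_cases hb : b ∈ H
      · refine Or.inr ⟨hb, fun hmul => hne₁ (map_inj (g := (b : MulAut V)) ?_)⟩
        exact (hba.symm.trans hmul).trans (show C₀.map (b : MulAut V).toMonoidHom = C₀ from hb).symm
      · refine Or.inl ⟨?_, hb⟩
        have h0 : C₀.map (b : MulAut V).toMonoidHom = C₁ :=
          (htwo _ (S.map_mem C₀ hC₀ _ b.2)).resolve_left hb
        show C₀.map ((b * ⟨a, ha⟩ : N) : MulAut V).toMonoidHom = C₀
        rw [hba]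
        refine (htwo _ (S.map_mem C₁ hC₁ _ b.2)).resolve_right fun e => hne₁ (map_inj (g := (b : MulAut V)) ?_)
        exact e.trans h0.symm
    exact hN ⟨H, Subgroup.normal_of_index_eq_two hH, hH⟩

end SmallBlocks

open SmallBlocks in
/-- No irreducible block system with small fixers. -/
theorem smallBlocksTarget : SmallBlocksTarget.{u} := by
  intro V _ _ N ℬ d e hsq hN hirr hne hd hde hcard hmap huniq hmeet hy
  classical
  obtain ⟨B₀, hB₀⟩ := hne
  set 𝒜 : Set (Subgroup V) := {C | ∃ B ∈ ℬ, B.1 = C} with h𝒜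
  have hpick : ∀ C, C ∈ 𝒜 → ∃ B ∈ ℬ, B.1 = C := fun C h => h
  choose pick hpick₁ hpick₂ using hpick
  let P : Subgroup V → Subgroup V := fun C => if h : C ∈ 𝒜 then (pick C h).2 else ⊥
  let y : Subgroup V → MulAut V := fun C =>
    if h : C ∈ 𝒜 then Classical.choose (hy (pick C h) (hpick₁ C h)) else 1
  set 𝒞 : Set (Subgroup V) := {C | ∃ g ∈ N, C = B₀.1.map g.toMonoidHom}
  have hsub : ∀ C ∈ 𝒞, C ∈ 𝒜 := by
    rintro _ ⟨g, hg, rfl⟩
    exact ⟨_, hmap B₀ hB₀ g hg, rfl⟩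
  have hPeq : ∀ B ∈ ℬ, P B.1 = B.2 := fun B hB => by
    have h : B.1 ∈ 𝒜 := ⟨B, hB, rfl⟩
    show dite _ _ _ = _
    rw [dif_pos h, huniq _ (hpick₁ _ h) B hB (hpick₂ _ h)]
  have hyspec : ∀ C (h : C ∈ 𝒜), y C ∈ N ∧ (∀ c ∈ C, y C c = c) ∧ (∀ p ∈ P C, y C p ∈ P C) ∧
      ∀ x ∈ P C, ∀ z ∈ P C, x ≠ 1 → z ≠ 1 → ∃ k : ℕ, (y C ^ k) x = z := by
    intro C h
    have e1 : y C = Classical.choose (hy (pick C h) (hpick₁ C h)) := dif_pos h
    have e2 : P C = (pick C h).2 := dif_pos h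
    obtain ⟨h1, h2, h3, h4, -⟩ := Classical.choose_spec (hy (pick C h) (hpick₁ C h))
    rw [e1, e2]
    exact ⟨h1, fun c hc => h2 c (by rwa [hpick₂ C h]), h3, h4⟩
  have hS : Sys N d e 𝒞 P y :=
    { sq := hsq
      two_le := hd
      le := hde
      card_C := fun C hC => by obtain ⟨B, hB, rfl⟩ := hsub C hC; exact (hcard B hB).1
      card_P := fun C hC => by obtain ⟨B, hB, rfl⟩ := hsub C hC; rw [hPeq B hB]; exact (hcard B hB).2.1
      sup := fun C hC => by obtain ⟨B, hB, rfl⟩ := hsub C hC; rw [hPeq B hB]; exact (hcard B hB).2.2.1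
      inf := fun C hC => by obtain ⟨B, hB, rfl⟩ := hsub C hC; rw [hPeq B hB]; exact (hcard B hB).2.2.2
      map_mem := by
        rintro _ ⟨h, hh, rfl⟩ g hg
        exact ⟨g * h, mul_mem hg hh, by rw [map_mul_map]⟩
      map_P := fun C hC g hg => by
        obtain ⟨B, hB, rfl⟩ := hsub C hC
        rw [hPeq B hB]
        exact hPeq _ (hmap B hB g hg)
      meet := fun C hC C' hC' hne' => by
        obtain ⟨B, hB, rfl⟩ := hsub C hC
        obtain ⟨B', hB', rfl⟩ := hsub C' hC'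
        exact hmeet B hB B' hB' hne'
      y_mem := fun C hC => (hyspec C (hsub C hC)).1
      y_fix := fun C hC => (hyspec C (hsub C hC)).2.1
      y_inv := fun C hC => (hyspec C (hsub C hC)).2.2.1
      y_trans := fun C hC => (hyspec C (hsub C hC)).2.2.2 }
  exact hS.false_of_transitive hN hirr (C₀ := B₀.1) ⟨1, one_mem _, (map_one_map _).symm⟩
    fun C hC => hC

end Cfsg.Agent.Goldschmidt.General
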