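import Cfsg.Agent.Lib.Goldschmidt.General.Main
import Cfsg.Agent.Lib.Goldschmidt.General.RankFacts
import Cfsg.Agent.Lib.Goldschmidt.General.SmallFacts
import Cfsg.Agent.Lib.Goldschmidt.General.ElemSylow
import Cfsg.Agent.Lib.Goldschmidt.General.Covers
import Cfsg.Agent.Lib.Goldschmidt.General.Geometry
import Cfsg.Agent.Lib.Goldschmidt.General.MakeFrame

/-!
# The finished pieces (owner: helper29)

* `remaining_of` : `Remaining` from the pieces still being written
-/

set_option autoImplicit false
set_option linter.unusedSectionVars false

namespace Cfsg.Agent.Goldschmidt.General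

universe u

/-- `Remaining` from the open pieces. -/
theorem remaining_of (hR : ReduceTarget.{u}) (hE : ExceptionalTarget.{u}) (hT : ThreeInv.ThreeInvTarget.{u})
    (hK : CornerTarget.{u}) : Remaining.{u} :=
  ⟨rankTarget, smallTarget, elemSylowTarget, hR, simpleCompsTarget, makeFrameTarget topBlocksTarget, hE, hT, hK⟩

end Cfsg.Agent.Goldschmidt.General
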